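/-
An odd-order Frobenius group acting irreducibly in prime dimension leaves no non-zero alternating form
invariant (used to show that the Fitting Hall subgroup is elementary abelian in Peterfalvi, section 11).
-/
import Cfsg.Agent.Lib.Transvec.OrthFamily
import Mathlib.GroupTheory.OrderOfElement
import Mathlib.Data.ZMod.Basic

set_option autoImplicit false

namespace Cfsg.Agent.OddChar.S11

open Module

variable {F V A : Type*} [Field F] [AddCommGroup V] [Module F V] [FiniteDimensional F V] [Group A]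

/-- Dimension of the span of finitely many translates of a minimal invariant subspace. -/
theorem dvd_finrank_sup {P : Submodule F V → Prop} (hinf : ∀ S T, P S → P T → P (S ⊓ T))
    (hsup : ∀ S T, P S → P T → P (S ⊔ T)) (hbot : P ⊥) {d : ℕ} {ι : Type*} (L : ι → Submodule F V)
    (hL : ∀ i, P (L i)) (hmin : ∀ i S, P S → S ≤ L i → S = ⊥ ∨ S = L i) (hd : ∀ i, finrank F (L i) = d)
    (s : Finset ι) : P (s.sup L) ∧ d ∣ finrank F ↥(s.sup L) := by
  classical
  induction s using Finset.induction_on with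
  | empty => exact ⟨by rw [Finset.sup_empty]; exact hbot, by rw [Finset.sup_empty, finrank_bot]; exact dvd_zero d⟩
  | insert i s _ ih =>
    rw [Finset.sup_insert]
    refine ⟨hsup _ _ (hL i) ih.1, ?_⟩
    have h := Submodule.finrank_sup_add_finrank_inf_eq (L i) (s.sup L)
    rcases hmin i _ (hinf _ _ (hL i) ih.1) inf_le_left with h0 | h0
    · rw [h0, finrank_bot, hd, add_zero] at h
      rw [h]; exact dvd_add (dvd_refl d) ih.2
    · rw [h0, hd] at h
      rw [show finrank F ↥(L i ⊔ s.sup L) = finrank F ↥(s.sup L) by omega]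
      exact ih.2

/-- No non-zero alternating form is invariant under a group of odd order, normalised by an element of odd
prime order, with no fixed vectors, when the two act irreducibly in that prime dimension. -/
theorem alt_eq_zero (ρ : A →* (V ≃ₗ[F] V)) (U : Subgroup A) [Finite U] (hodd : Odd (Nat.card U)) (w : A) {q : ℕ}
    (hq : q.Prime) (hq2 : q ≠ 2) (hdim : finrank F V = q) (hw : w ^ q = 1)
    (hwU : ∀ u ∈ U, w⁻¹ * u * w ∈ U) (hwU' : ∀ u ∈ U, w * u * w⁻¹ ∈ U)
    (hirr : ∀ S : Submodule F V, (∀ u ∈ U, ∀ x ∈ S, ρ u x ∈ S) → (∀ x ∈ S, ρ w x ∈ S) → S = ⊥ ∨ S = ⊤)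
    (hfix : ∀ x : V, (∀ u ∈ U, ρ u x = x) → x = 0)
    (β : V →ₗ[F] V →ₗ[F] F) (halt : ∀ x, β x x = 0) (hinv : ∀ u ∈ U, ∀ x y, β (ρ u x) (ρ u y) = β x y) :
    β = 0 := by
  classical
  by_contra hβ
  let P : Submodule F V → Prop := fun S => ∀ u ∈ U, ∀ x ∈ S, ρ u x ∈ S
  have hR : P (LinearMap.ker β) := fun u hu x hx => LinearMap.mem_ker.2 (LinearMap.ext fun y => by
    obtain ⟨y', rfl⟩ := (ρ u).surjective y
    rw [hinv u hu, LinearMap.mem_ker.1 hx]; rfl)
  have hRtop : LinearMap.ker β ≠ ⊤ := fun h => hβ (LinearMap.ker_eq_top.1 h)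
  by_cases hs : ∀ S, P S → S = ⊥ ∨ S = ⊤
  · rcases hs _ hR with h | h
    · have he := Transvec.Orth.even_finrank_range_alt β halt
      have hr := LinearMap.finrank_range_add_finrank_ker β
      rw [h, finrank_bot, add_zero, hdim] at hr
      rw [hr] at he
      exact hq2 ((Nat.Prime.even_iff hq).1 he)
    · exact hRtop h
  -- a minimal invariant subspace is a line
  obtain ⟨S₀, hS₀, hS₀b, hS₀t⟩ : ∃ S, P S ∧ S ≠ ⊥ ∧ S ≠ ⊤ := by
    by_contra hc; push Not at hc
    exact hs fun S hS => or_iff_not_imp_left.2 (hc S hS)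
  have hex : ∃ n, ∃ S, P S ∧ S ≠ ⊥ ∧ finrank F S = n := ⟨_, S₀, hS₀, hS₀b, rfl⟩
  obtain ⟨L₀, hL₀, hL₀b, hd₀⟩ := Nat.find_spec hex
  have hd_lt : Nat.find hex < q := lt_of_le_of_lt (Nat.find_min' hex ⟨S₀, hS₀, hS₀b, rfl⟩)
    (hdim ▸ Submodule.finrank_lt hS₀t)
  have hmin₀ : ∀ S, P S → S ≤ L₀ → S = ⊥ ∨ S = L₀ := fun S hS hle => or_iff_not_imp_left.2 fun hb =>
    Submodule.eq_of_le_of_finrank_le hle (hd₀ ▸ Nat.find_min' hex ⟨S, hS, hb, rfl⟩)
  have hw1 : ∀ (k : ℕ) u, u ∈ U → (w ^ k)⁻¹ * u * w ^ k ∈ U ∧ w ^ k * u * (w ^ k)⁻¹ ∈ U := by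
    intro k u hu
    induction k with
    | zero => simpa using hu
    | succ k ih =>
      constructor
      · have := hwU _ ih.1
        rwa [show (w ^ (k + 1))⁻¹ * u * w ^ (k + 1) = w⁻¹ * ((w ^ k)⁻¹ * u * w ^ k) * w by
          rw [pow_succ]; group]
      · have := hwU' _ ih.2
        rwa [show w ^ (k + 1) * u * (w ^ (k + 1))⁻¹ = w * (w ^ k * u * (w ^ k)⁻¹) * w⁻¹ by
          rw [pow_succ']; group]
  have hcomp : ∀ (a b : A) (x : V), ρ (a * b) x = ρ a (ρ b x) := fun a b x => by rw [map_mul]; rfl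
  have hone : ∀ x : V, ρ 1 x = x := fun x => by rw [map_one]; rfl
  let L : Fin q → Submodule F V := fun i => L₀.map (ρ (w ^ (i : ℕ))).toLinearMap
  have hconj : ∀ (k : ℕ) S, P S → P (S.map (ρ (w ^ k)).toLinearMap) := by
    rintro k S hS u hu _ ⟨x, hx, rfl⟩
    refine ⟨ρ ((w ^ k)⁻¹ * u * w ^ k) x, hS _ (hw1 k u hu).1 x hx, ?_⟩
    show ρ (w ^ k) (ρ _ x) = ρ u (ρ (w ^ k) x)
    rw [← hcomp, ← hcomp]; congr 2; group
  have hconj' : ∀ (k : ℕ) S, P S → P (S.comap (ρ (w ^ k)).toLinearMap) := by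
    intro k S hS u hu x hx
    show ρ (w ^ k) (ρ u x) ∈ S
    have := hS _ (hw1 k u hu).2 _ (Submodule.mem_comap.1 hx)
    rwa [LinearEquiv.coe_coe, ← hcomp, show w ^ k * u * (w ^ k)⁻¹ * w ^ k = w ^ k * u by group, hcomp] at this
  obtain ⟨htop, hdvd⟩ := dvd_finrank_sup (P := P)
    (fun S T hS hT u hu x hx => ⟨hS u hu x hx.1, hT u hu x hx.2⟩)
    (fun S T hS hT u hu x hx => by
      obtain ⟨a, ha, b, hb, rfl⟩ := Submodule.mem_sup.1 hx
      rw [map_add]; exact Submodule.add_mem_sup (hS u hu a ha) (hT u hu b hb))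
    (fun u _ x hx => by rw [(Submodule.mem_bot F).1 hx, map_zero]; exact Submodule.zero_mem _)
    L (fun i => hconj _ _ hL₀) (fun i S hS hle => by
      rcases hmin₀ _ (hconj' i S hS) (fun x hx => by
        obtain ⟨y, hy, he⟩ := hle (Submodule.mem_comap.1 hx)
        rwa [← (ρ (w ^ (i : ℕ))).injective he]) with h | h
      · left
        rw [eq_bot_iff]
        intro x hx
        obtain ⟨y, rfl⟩ := (ρ (w ^ (i : ℕ))).surjective x
        have : y ∈ (⊥ : Submodule F V) := h ▸ Submodule.mem_comap.2 hx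
        rw [(Submodule.mem_bot F).1 this, map_zero]; exact Submodule.zero_mem _
      · right
        refine le_antisymm hle ?_
        rintro _ ⟨y, hy, rfl⟩
        exact Submodule.mem_comap.1 (h.symm ▸ hy))
    (fun i => (LinearEquiv.finrank_map_eq (ρ (w ^ (i : ℕ))) L₀).trans hd₀) Finset.univ
  have hpow : ∀ k : ℕ, ρ (w ^ k) = ρ (w ^ (k % q)) := fun k => by
    conv_lhs => rw [← Nat.mod_add_div k q, pow_add, pow_mul, hw, one_pow, mul_one]
  have hall : Finset.univ.sup L = ⊤ := by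
    refine (hirr _ htop fun x hx => ?_).resolve_left fun h => hL₀b ?_
    · have hle : (Finset.univ.sup L) ≤ (Finset.univ.sup L).comap (ρ w).toLinearMap := by
        refine Finset.sup_le fun i _ => ?_
        rintro _ ⟨y, hy, rfl⟩
        refine Finset.le_sup (f := L) (Finset.mem_univ ⟨((i : ℕ) + 1) % q, Nat.mod_lt _ hq.pos⟩) ?_
        refine ⟨y, hy, ?_⟩
        show ρ (w ^ (((i : ℕ) + 1) % q)) y = ρ w (ρ (w ^ (i : ℕ)) y)
        rw [← hpow, pow_succ', hcomp]
      exact hle hx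
    · rw [eq_bot_iff, ← h]
      intro x hx
      exact Finset.le_sup (f := L) (Finset.mem_univ ⟨0, hq.pos⟩) ⟨x, hx, by
        show ρ (w ^ 0) x = x
        rw [pow_zero, hone]⟩
  rw [hall, finrank_top, hdim] at hdvd
  have hd1 : Nat.find hex = 1 := (hq.eq_one_or_self_of_dvd _ hdvd).resolve_right hd_lt.ne
  obtain ⟨v₀, hv₀, hv₀0⟩ := Submodule.exists_mem_ne_zero_of_ne_bot hL₀b
  have hspan : L₀ = Submodule.span F {v₀} := (Submodule.eq_of_le_of_finrank_le
    ((Submodule.span_singleton_le_iff_mem _ _).2 hv₀) (by rw [hd₀, hd1, finrank_span_singleton hv₀0])).symm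
  have hchar : ∀ u ∈ U, ∃ c : F, c • v₀ = ρ u v₀ := fun u hu =>
    Submodule.mem_span_singleton.1 (hspan ▸ hL₀ u hu v₀ hv₀)
  choose! χ hχ using hchar
  let v : ZMod q → V := fun i => ρ (w ^ i.val) v₀
  haveI : NeZero q := ⟨hq.ne_zero⟩
  have hv : ∀ (i : ZMod q) u, u ∈ U → ρ u (v i) = χ ((w ^ i.val)⁻¹ * u * w ^ i.val) • v i := by
    intro i u hu
    show ρ u (ρ (w ^ i.val) v₀) = _ • ρ (w ^ i.val) v₀
    rw [← map_smul, hχ _ (hw1 _ u hu).1, ← hcomp, ← hcomp]; congr 2; group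
  obtain ⟨i, j, hij⟩ : ∃ i j, β (v i) (v j) ≠ 0 := by
    by_contra hc; push Not at hc
    refine hβ ?_
    have hspanv : ⊤ ≤ Submodule.span F (Set.range v) := by
      rw [← hall]
      refine Finset.sup_le fun k _ => ?_
      show L₀.map _ ≤ _
      rw [hspan, Submodule.map_span, Set.image_singleton]
      refine (Submodule.span_singleton_le_iff_mem _ _).2 (Submodule.subset_span ⟨((k : ℕ) : ZMod q), ?_⟩)
      show ρ (w ^ ((k : ℕ) : ZMod q).val) v₀ = _
      rw [ZMod.val_natCast, Nat.mod_eq_of_lt k.2]; rfl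
    refine LinearMap.ext_on_range (top_le_iff.1 hspanv) fun a => LinearMap.ext_on_range (top_le_iff.1 hspanv) fun b => ?_
    rw [hc]; rfl
  have hij' : i ≠ j := fun h => hij (h ▸ halt (v i))
  let c : ZMod q → A → F := fun i u => χ ((w ^ i.val)⁻¹ * u * w ^ i.val)
  have hprod : ∀ u ∈ U, c i u * c j u = 1 := fun u hu => by
    have h := hinv u hu (v i) (v j)
    simp only [hv i u hu, hv j u hu, map_smul, LinearMap.smul_apply, smul_eq_mul, ← mul_assoc] at h
    rw [mul_comm (c i u)]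
    exact (mul_eq_right₀ hij).1 h
  have hshift : ∀ (a k : ZMod q) u, u ∈ U → c a ((w ^ k.val)⁻¹ * u * w ^ k.val) = c (k + a) u := by
    intro a k u _
    show χ _ = χ _
    have : w ^ (k + a).val = w ^ k.val * w ^ a.val := by
      conv_rhs => rw [← pow_add, ← Nat.mod_add_div (k.val + a.val) q, pow_add, pow_mul, hw, one_pow, mul_one]
      rw [ZMod.val_add]
    rw [this]; congr 1; group
  set d := j - i with hd
  have hall2 : ∀ (a : ZMod q) u, u ∈ U → c a u * c (a + d) u = 1 := by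
    intro a u hu
    have h := hprod _ (hw1 (a - i).val u hu).1
    rwa [hshift _ _ u hu, hshift _ _ u hu, sub_add_cancel, show a - i + j = a + d by rw [hd]; ring] at h
  have hper : ∀ (a : ZMod q) u, u ∈ U → c (a + 2 * d) u = c a u := by
    intro a u hu
    have h1 := hall2 a u hu
    have h2 := hall2 (a + d) u hu
    rw [add_assoc, ← two_mul] at h2
    exact (left_inv_eq_right_inv h1 h2).symm
  haveI : Fact q.Prime := ⟨hq⟩
  have hconst : ∀ (a : ZMod q) u, u ∈ U → c a u = c 0 u := by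
    intro a u hu
    have h2d : (2 * d : ZMod q) ≠ 0 := by
      refine mul_ne_zero (fun h => hq2 ?_) (sub_ne_zero.2 hij'.symm)
      have : q ∣ 2 := (ZMod.natCast_eq_zero_iff 2 q).1 (by exact_mod_cast h)
      exact (Nat.prime_dvd_prime_iff_eq hq Nat.prime_two).1 this
    have hn : ∀ n : ℕ, c ((n : ZMod q) * (2 * d)) u = c 0 u := by
      intro n
      induction n with
      | zero => simp
      | succ n ih => rw [Nat.cast_succ, add_mul, one_mul, hper _ u hu, ih]
    have := hn (a * (2 * d)⁻¹).val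
    rwa [ZMod.natCast_val, ZMod.cast_id, mul_assoc, inv_mul_cancel₀ h2d, mul_one] at this
  refine hv₀0 (hfix v₀ fun u hu => ?_)
  have hc0 : ∀ u, c 0 u = χ u := fun u => by
    show χ _ = χ u
    simp
  have hsq : χ u * χ u = 1 := by
    have := hall2 0 u hu
    rwa [hconst (0 + d) u hu, hc0] at this
  have hsame : ρ (u * u) v₀ = v₀ := by
    rw [hcomp, ← hχ u hu, map_smul, ← hχ u hu, smul_smul, hsq, one_smul]
  obtain ⟨m, hm⟩ := hodd
  have hcard : u ^ Nat.card U = 1 := congrArg Subtype.val (pow_card_eq_one' (x := (⟨u, hu⟩ : U)))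
  have hn2 : ∀ n : ℕ, ρ ((u * u) ^ n) v₀ = v₀ := by
    intro n
    induction n with
    | zero => rw [pow_zero, hone]
    | succ n ih => rw [pow_succ, hcomp, hsame, ih]
  have := hn2 (m + 1)
  rwa [← pow_two, ← pow_mul, show 2 * (m + 1) = Nat.card U + 1 by omega, pow_succ, hcard, one_mul] at this

end Cfsg.Agent.OddChar.S11
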