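/-
Small group-theoretic tools for Peterfalvi, section 11.
-/
import Cfsg.Agent.Lib.CoprimeGen.Tools
import Mathlib.GroupTheory.PGroup
import Mathlib.GroupTheory.Commutator.Basic
import Mathlib.Algebra.Group.Subgroup.Pointwise
import Mathlib.GroupTheory.Index

set_option autoImplicit false

namespace Cfsg.Agent.OddChar.S11

variable {G : Type*} [Group G]

/-- A group of prime order acting without fixed points. -/
theorem card_modEq_one [Finite G] {W N : Subgroup G} {q : ℕ} (hq : q.Prime) (hW : Nat.card W = q)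
    (hWN : W ≤ Subgroup.normalizer (N : Set G))
    (hfix : ∀ n ∈ N, (∀ w ∈ W, w * n = n * w) → n = 1) : Nat.card N ≡ 1 [MOD q] := by
  haveI := Fact.mk hq
  letI : MulAction W N := MulAction.compHom N (N.normalizerMonoidHom.comp (Subgroup.inclusion hWN))
  have hsmul : ∀ (w : W) (n : N), ((w • n : N) : G) = (w : G) * n * (w : G)⁻¹ := fun _ _ => rfl
  have hp : IsPGroup q W := IsPGroup.of_card (n := 1) (by rw [hW, pow_one])
  have h := hp.card_modEq_card_fixedPoints N
  have h1 : Nat.card (MulAction.fixedPoints W N) = 1 := by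
    have e : MulAction.fixedPoints W N = {1} := by
      refine Set.eq_singleton_iff_unique_mem.2 ⟨fun w => Subtype.ext (by simp [hsmul]), fun n hn => ?_⟩
      refine Subtype.ext (hfix n n.2 fun w hw => ?_)
      have := congrArg (fun m : N => (m : G)) (hn ⟨w, hw⟩)
      rw [hsmul] at this
      exact mul_inv_eq_iff_eq_mul.1 this
    simp [e]
  rwa [h1] at h

theorem commutator_sup_le' {A B X : Subgroup G} [X.Normal] (hA : ⁅A, A⁆ ≤ X) (hAB : ⁅A, B⁆ ≤ X)
    (hB : ⁅B, B⁆ ≤ X) : ⁅A ⊔ B, A ⊔ B⁆ ≤ X := by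
  have key : ∀ P R : Subgroup G, ⁅P, A⁆ ≤ X → ⁅P, B⁆ ≤ X → R = A ⊔ B → ⁅P, R⁆ ≤ X := by
    rintro P R h1 h2 rfl
    rw [← QuotientGroup.ker_mk' X, ← Subgroup.map_eq_bot_iff, Subgroup.map_commutator,
      Subgroup.map_sup, Subgroup.commutator_eq_bot_iff_le_centralizer]
    refine fun x hx => ?_
    rw [Subgroup.mem_centralizer_iff]
    intro y hy
    have hle : A.map (QuotientGroup.mk' X) ⊔ B.map (QuotientGroup.mk' X) ≤
        Subgroup.centralizer ({x} : Set (G ⧸ X)) := by
      refine sup_le ?_ ?_ <;> intro z hz <;> rw [Subgroup.mem_centralizer_singleton_iff]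
      · have hc := (Subgroup.map_eq_bot_iff (f := QuotientGroup.mk' X) ⁅P, A⁆).2 (by rw [QuotientGroup.ker_mk']; exact h1)
        rw [Subgroup.map_commutator, Subgroup.commutator_eq_bot_iff_le_centralizer] at hc
        exact Subgroup.mem_centralizer_iff.1 (hc hx) z hz
      · have hc := (Subgroup.map_eq_bot_iff (f := QuotientGroup.mk' X) ⁅P, B⁆).2 (by rw [QuotientGroup.ker_mk']; exact h2)
        rw [Subgroup.map_commutator, Subgroup.commutator_eq_bot_iff_le_centralizer] at hc
        exact Subgroup.mem_centralizer_iff.1 (hc hx) z hz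
    exact Subgroup.mem_centralizer_singleton_iff.1 (hle hy)
  have hA' : ⁅A, A ⊔ B⁆ ≤ X := key A _ hA hAB rfl
  have hB' : ⁅B, A ⊔ B⁆ ≤ X := key B _ (by rwa [Subgroup.commutator_comm]) hB rfl
  exact key (A ⊔ B) _ (by rwa [Subgroup.commutator_comm]) (by rwa [Subgroup.commutator_comm]) rfl

theorem normal_of_normalizer {A B C X : Subgroup G} (hABC : A ⊔ B ⊔ C = ⊤)
    (hA : A ≤ Subgroup.normalizer (X : Set G)) (hB : B ≤ Subgroup.normalizer (X : Set G))
    (hC : C ≤ Subgroup.normalizer (X : Set G)) : X.Normal :=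
  Subgroup.normalizer_eq_top_iff.1 (top_le_iff.1 (hABC ▸ sup_le (sup_le hA hB) hC))

end Cfsg.Agent.OddChar.S11
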