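/-
Peterfalvi, section 11: the group-theoretic situation inside a maximal subgroup of Type III or IV, and its
elementary consequences.
-/
import Cfsg.Agent.Lib.OddChar.S11.Tools
import Mathlib.GroupTheory.Perm.Cycle.Type
import Cfsg.Agent.Lib.Char.CyclicTI.Semi
import Mathlib.GroupTheory.Solvable

set_option autoImplicit false

namespace Cfsg.Agent.OddChar.S11

open Cfsg.Agent

universe u

variable {L : Type u} [Group L] [Fintype L]

/-- The data `K = L'`, `H = L_F`, `U`, `W₁`, `W₂` of a group of Type III or IV, `p = |W₂|`, `q = |W₁|`. -/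
structure Struct (K H U W₁ W₂ : Subgroup L) (p q : ℕ) : Prop where
  semi : Char.CyclicTI.Semi K W₁ W₂
  H_normal : H.Normal
  odd : Odd (Nat.card L)
  H_le : H ≤ K
  U_le : U ≤ K
  inf_HU : H ⊓ U = ⊥
  sup_HU : H ⊔ U = K
  coprime_HU : (Nat.card H).Coprime (Nat.card U)
  nilH : Group.IsNilpotent H
  nilU : Group.IsNilpotent U
  U_norm : W₁ ≤ Subgroup.normalizer (U : Set L)
  W₂_le : W₂ ≤ H
  W₂_der : W₂ ≤ ⁅K, K⁆
  hp : p.Prime
  hq : q.Prime
  card_W₁ : Nat.card W₁ = q
  card_W₂ : Nat.card W₂ = p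
  not_cent : ¬ U ≤ Subgroup.centralizer (H : Set L)
  der_U : ⁅U, U⁆ ≤ Subgroup.centralizer (H : Set L)
  der_K : ⁅K, K⁆ ≤ H ⊔ (U ⊓ Subgroup.centralizer (H : Set L))

namespace Struct

variable {K H U W₁ W₂ : Subgroup L} {p q : ℕ} (D : Struct K H U W₁ W₂ p q)
include D

theorem normal : K.Normal := D.semi.normal

theorem U_norm_H : U ≤ Subgroup.normalizer (H : Set L) := by
  haveI := D.H_normal; exact Subgroup.le_normalizer_of_normal

theorem solvable : Group.IsSolvable K := by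
  haveI := D.H_normal
  haveI := D.nilH
  haveI := D.nilU
  haveI : Group.IsSolvable H := inferInstance
  haveI : Group.IsSolvable U := inferInstance
  let f := (QuotientGroup.mk' H).comp K.subtype
  haveI : (H.subgroupOf K).Normal := inferInstance
  haveI : Group.IsSolvable (H.subgroupOf K) :=
    Group.isSolvable_of_isSolvable_injective (f := (Subgroup.subgroupOfEquivOfLe D.H_le).toMonoidHom)
      (MulEquiv.injective _)
  haveI : Group.IsSolvable f.range := by
    refine Group.isSolvable_of_surjective (f := ((QuotientGroup.mk' H).comp U.subtype).codRestrict f.range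
      fun u => ⟨⟨u, D.U_le u.2⟩, rfl⟩) ?_
    rintro ⟨_, ⟨k, hk⟩, rfl⟩
    have hk' : k ∈ H ⊔ U := D.sup_HU ▸ hk
    obtain ⟨h, hh, v, hv, rfl⟩ := Subgroup.mem_sup_of_normal_left.1 hk'
    refine ⟨⟨v, hv⟩, Subtype.ext ?_⟩
    show (v : L ⧸ H) = ((h * v : L) : L ⧸ H)
    rw [QuotientGroup.mk_mul, (QuotientGroup.eq_one_iff h).2 hh, one_mul]
  refine Group.isSolvable_of_ker_le_range (H.subgroupOf K).subtype f.rangeRestrict fun k hk => ?_
  rw [MonoidHom.mem_ker, MonoidHom.rangeRestrict] at hk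
  refine ⟨⟨k, Subgroup.mem_subgroupOf.2 ((QuotientGroup.eq_one_iff (k : L)).1 ?_)⟩, rfl⟩
  exact congrArg Subtype.val hk

theorem q_odd : Odd q := D.card_W₁ ▸ D.odd.of_dvd_nat (Subgroup.card_subgroup_dvd_card W₁)

theorem p_odd : Odd p := D.card_W₂ ▸ D.odd.of_dvd_nat (Subgroup.card_subgroup_dvd_card W₂)

theorem three_le_q : 3 ≤ q := by
  obtain ⟨m, hm⟩ := D.q_odd; have := D.hq.two_le; omega

theorem three_le_p : 3 ≤ p := by
  obtain ⟨m, hm⟩ := D.p_odd; have := D.hp.two_le; omega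

theorem p_ne_q : p ≠ q := fun e => by
  haveI := D.normal
  have h := D.semi.coprime12
  rw [D.card_W₁, D.card_W₂, e, Nat.coprime_self] at h
  exact D.hq.ne_one h

theorem four_sq_lt : 4 * q ^ 2 + 1 < p ^ q := by
  have h3 := D.three_le_p
  have hq3 := D.three_le_q
  by_cases e : q = 3
  · subst e
    have : 5 ≤ p := by obtain ⟨m, hm⟩ := D.p_odd; have := D.p_ne_q; omega
    calc 4 * 3 ^ 2 + 1 < 5 ^ 3 := by norm_num
      _ ≤ p ^ 3 := Nat.pow_le_pow_left this 3
  · have h5 : 5 ≤ q := by obtain ⟨m, hm⟩ := D.q_odd; omega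
    refine lt_of_lt_of_le ?_ (Nat.pow_le_pow_left h3 q)
    clear e hq3 h3 D
    induction q, h5 using Nat.le_induction with
    | base => norm_num
    | succ n hn ih =>
      rw [pow_succ 3 n]
      nlinarith

theorem index_K : K.index = q := by
  haveI := D.normal
  rw [D.semi.index_eq, D.card_W₁]

theorem coprime_W₁ : q.Coprime (Nat.card K) := by
  haveI := D.normal
  rw [← D.card_W₁]; exact D.semi.coprime

theorem sup_top : H ⊔ U ⊔ W₁ = ⊤ := by rw [D.sup_HU]; exact D.semi.sup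

/-- Elements of `K` centralised by a non-identity element of `W₁` lie in `W₂`. -/
theorem mem_W₂ {x k : L} (hx : x ∈ W₁) (hx1 : x ≠ 1) (hk : k ∈ K) (h : x * k = k * x) : k ∈ W₂ := by
  rw [← D.semi.cent x hx hx1]
  exact ⟨hk, Subgroup.mem_centralizer_singleton_iff.2 h.symm⟩

theorem W₁_comm_W₂ {x w : L} (hx : x ∈ W₁) (hw : w ∈ W₂) : x * w = w * x := by
  by_cases hx1 : x = 1
  · simp [hx1]
  · rw [← D.semi.cent x hx hx1] at hw
    exact (Subgroup.mem_centralizer_singleton_iff.1 hw.2).symm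

theorem cent_W₁ : K ⊓ Subgroup.centralizer (W₁ : Set L) = W₂ := by
  refine le_antisymm (fun k hk => ?_) fun w hw => ⟨D.semi.le hw, Subgroup.mem_centralizer_iff.2 fun x hx => D.W₁_comm_W₂ hx hw⟩
  obtain ⟨x, hx, hx1⟩ := (Subgroup.bot_or_exists_ne_one W₁).resolve_left D.semi.ne1
  exact D.mem_W₂ hx hx1 hk.1 (Subgroup.mem_centralizer_iff.1 hk.2 x hx)

/-- `W₁` acts without fixed points on `U`. -/
theorem fpf_U : ∀ e ∈ W₁, e ≠ 1 → ∀ v ∈ U, e * v = v * e → v = 1 := fun e he he1 v hv h => by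
  have hm : v ∈ H ⊓ U := ⟨D.W₂_le (D.mem_W₂ he he1 (D.U_le hv) h), hv⟩
  rwa [D.inf_HU, Subgroup.mem_bot] at hm

theorem conj_U {e : L} (he : e ∈ W₁) {v : L} (hv : v ∈ U) : e * v * e⁻¹ ∈ U :=
  CoprimeAct.conj_mem_of_mem_normalizer (D.U_norm he) hv

theorem cop_U_H : (Nat.card U).Coprime (Nat.card H) := D.coprime_HU.symm

theorem cop_W₁_H : (Nat.card W₁).Coprime (Nat.card H) := by
  rw [D.card_W₁]; exact D.coprime_W₁.coprime_dvd_right (Subgroup.card_dvd_of_le D.H_le)

theorem cop_H_UW : (Nat.card H).Coprime (Nat.card ↥(U ⊔ W₁)) := by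
  haveI := D.normal
  refine Nat.coprime_of_dvd fun r hr hrH hrS => ?_
  haveI := Fact.mk hr
  obtain ⟨⟨x, hx⟩, hxo⟩ := exists_prime_orderOf_dvd_card' r hrS
  rw [Subgroup.orderOf_mk] at hxo
  have hx1 : (D.semi.pr x : L) = 1 := by
    have hd : orderOf (D.semi.pr x) ∣ r := hxo ▸ orderOf_map_dvd D.semi.pr x
    rcases (Nat.dvd_prime hr).1 hd with h1 | h1
    · rw [orderOf_eq_one_iff.1 h1]; rfl
    · exfalso
      have : r ∣ Nat.card W₁ := h1 ▸ orderOf_dvd_natCard _
      exact hr.ne_one (Nat.eq_one_of_dvd_coprimes D.cop_W₁_H this hrH)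
  have hxK : x ∈ K := (D.semi.pr_eq_one_iff x).1 (Subtype.ext hx1)
  obtain ⟨v, hv, e, he, rfl⟩ := (SolvBasic.mem_sup_iff_of_le_normalizer D.U_norm).1 hx
  have heK : e ∈ K ⊓ W₁ := ⟨by simpa using K.mul_mem (K.inv_mem (D.U_le hv)) hxK, he⟩
  rw [D.semi.inf, Subgroup.mem_bot] at heK
  subst heK
  rw [mul_one] at hxo
  have : r ∣ Nat.card U := hxo ▸ Subgroup.orderOf_dvd_natCard U hv
  exact hr.ne_one (Nat.eq_one_of_dvd_coprimes D.coprime_HU hrH this)

theorem normal_der_U : (⁅U, U⁆ : Subgroup L).Normal := by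
  haveI := D.H_normal
  refine normal_of_normalizer D.sup_top (fun h hh => ?_) (fun v hv => ?_) (fun e he => ?_)
  · rw [Subgroup.mem_normalizer_iff]
    intro x
    have key : ∀ y ∈ ⁅U, U⁆, h * y * h⁻¹ = y := fun y hy => by
      rw [(Subgroup.mem_centralizer_iff.1 (D.der_U hy) h hh), mul_inv_cancel_right]
    refine ⟨fun hx => (key x hx).symm ▸ hx, fun hx => ?_⟩
    have e1 : x = h * x * h⁻¹ := by
      have := key _ hx
      exact (mul_left_cancel (mul_right_cancel (this))).symm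
    exact e1 ▸ hx
  · exact CoprimeGen.mem_normalizer_commutator_of_mem (Subgroup.le_normalizer hv) (Subgroup.le_normalizer hv)
  · exact CoprimeGen.mem_normalizer_commutator_of_mem (D.U_norm he) (D.U_norm he)

/-- Fixed points of `W₁` modulo a normal subgroup of `K`. -/
theorem fixed_quot {N : Subgroup L} [N.Normal] (hN : N ≤ K) {k : L} (hk : k ∈ K)
    (h : ∀ e ∈ W₁, e * k * e⁻¹ * k⁻¹ ∈ N) : ∃ w ∈ W₂, k⁻¹ * w ∈ N := by
  haveI := D.normal
  obtain ⟨c, hc, hkc⟩ := CoprimeAct.exists_mem_centralizer (A := W₁) (K := K) Subgroup.le_normalizer_of_normal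
    D.semi.coprime (Or.inr D.solvable) hN Subgroup.le_normalizer_of_normal Subgroup.le_normalizer_of_normal hk h
  exact ⟨c, D.cent_W₁ ▸ hc, hkc⟩

/-- Order congruence for sections of `K` above `W₂`. -/
theorem relIndex_modEq_one {N X : Subgroup L} [N.Normal] [X.Normal] (hN : N ≤ K) (hX : X ≤ K) (hW : W₂ ≤ N) :
    N.relIndex X ≡ 1 [MOD q] := by
  set f := QuotientGroup.mk' N
  have hker : f.ker = N := QuotientGroup.ker_mk' N
  rw [← hker, Subgroup.relIndex_ker]
  have hW1 : Nat.card (W₁.map f) = q := by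
    rw [← Subgroup.relIndex_ker, hker, ← D.card_W₁, ← Subgroup.inf_relIndex_right,
      show N ⊓ W₁ = ⊥ from le_bot_iff.1 ((inf_le_inf_right W₁ hN).trans D.semi.inf.le),
      Subgroup.relIndex_bot_left]
  refine card_modEq_one D.hq hW1 ?_ fun n hn hfix => ?_
  · haveI : (X.map f).Normal := Subgroup.Normal.map inferInstance f (QuotientGroup.mk'_surjective N)
    exact Subgroup.le_normalizer_of_normal
  · obtain ⟨k, hk, rfl⟩ := hn
    obtain ⟨w, hw, hkw⟩ := D.fixed_quot hN (hX hk) fun e he => by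
      have := hfix (f e) (Subgroup.mem_map_of_mem f he)
      rw [← hker, MonoidHom.mem_ker, map_mul, map_mul, map_mul, map_inv, map_inv, this]
      group
    have h1 : f (k⁻¹ * w) = 1 := by rwa [← MonoidHom.mem_ker, hker]
    have h2 : f w = 1 := by rw [← MonoidHom.mem_ker, hker]; exact hW hw
    rw [map_mul, h2, mul_one, map_inv, inv_eq_one] at h1
    exact h1

end Struct

end Cfsg.Agent.OddChar.S11
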