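/-
Peterfalvi, section 11: a chief factor of `H` not centralised by `U`, and its order `p ^ q`.
-/
import Cfsg.Agent.Lib.OddChar.S11.Struct
import Cfsg.Agent.Lib.Char.WielandtFrobenius
import Cfsg.Agent.Lib.CoprimeGen.Nilpotent
import Mathlib.Data.Fintype.Sets
import Mathlib.Order.Preorder.Finite

set_option autoImplicit false

namespace Cfsg.Agent.OddChar.S11

open Cfsg.Agent

universe u

variable {L : Type u} [Group L] [Fintype L]

/-- A chief factor `H/H₀` on which `U` has no fixed points. -/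
structure Chief (H U W₂ H₀ : Subgroup L) (p q : ℕ) : Prop where
  normal : H₀.Normal
  lt : H₀ < H
  der : ⁅H, H⁆ ≤ H₀
  cent : H ⊓ Subgroup.centralizer (U : Set L) ≤ H₀
  min : ∀ N : Subgroup L, N.Normal → H₀ ≤ N → N ≤ H → N = H₀ ∨ N = H
  card : H₀.relIndex H = p ^ q
  W₂_inf : H₀ ⊓ W₂ = ⊥
  fixed : ∀ x ∈ H, (∀ v ∈ U, v * x * v⁻¹ * x⁻¹ ∈ H₀) → x ∈ H₀

namespace Struct

variable {K H U W₁ W₂ : Subgroup L} {p q : ℕ} (D : Struct K H U W₁ W₂ p q)
include D

theorem U_ne_bot : U ≠ ⊥ := fun e => D.not_cent (by rw [e]; exact bot_le)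

theorem exists_chief : ∃ H₀ : Subgroup L, Chief H U W₂ H₀ p q := by
  classical
  haveI := D.H_normal
  haveI := D.normal
  haveI := D.nilH
  set X : Subgroup L := ⁅H, H⁆ ⊔ (H ⊓ Subgroup.centralizer (U : Set L)) with hXdef
  have hXH : X ≤ H := sup_le (Subgroup.commutator_le_self H) inf_le_left
  have hXn : X.Normal := by
    have hn : ∀ g : L, g ∈ Subgroup.normalizer (U : Set L) → g ∈ Subgroup.normalizer (X : Set L) := fun g hg =>
      CoprimeGen.mem_normalizer_sup
        (CoprimeGen.mem_normalizer_commutator_of_mem (Subgroup.le_normalizer_of_normal (Subgroup.mem_top g))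
          (Subgroup.le_normalizer_of_normal (Subgroup.mem_top g)))
        (CoprimeGen.mem_normalizer_inf (Subgroup.le_normalizer_of_normal (Subgroup.mem_top g))
          (CoprimeGen.mem_normalizer_centralizer hg))
    refine normal_of_normalizer D.sup_top (fun g hg => ?_) (fun g hg => hn g (Subgroup.le_normalizer hg))
      (fun g hg => hn g (D.U_norm hg))
    rw [Subgroup.mem_normalizer_iff]
    have key : ∀ a ∈ H, ∀ y ∈ X, a * y * a⁻¹ ∈ X := fun a ha y hy => by
      have e : a * y * a⁻¹ = a * y * a⁻¹ * y⁻¹ * y := by group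
      rw [e]
      exact mul_mem (Subgroup.mem_sup_left (Subgroup.commutator_mem_commutator ha (hXH hy))) hy
    refine fun y => ⟨key g hg y, fun hy => ?_⟩
    simpa [mul_assoc] using key g⁻¹ (inv_mem hg) _ hy
  have hXlt : X < H := lt_of_le_of_ne hXH fun e => D.not_cent fun v hv => by
    have h1 := CoprimeGen.eq_of_sup_commutator (K := H) (A := H ⊓ Subgroup.centralizer (U : Set L))
      inf_le_left (by rw [sup_comm]; exact e)
    rw [Subgroup.mem_centralizer_iff]
    intro h hh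
    have h2 : h ∈ H ⊓ Subgroup.centralizer (U : Set L) := h1.symm ▸ hh
    exact (Subgroup.mem_centralizer_iff.1 h2.2 v hv).symm
  obtain ⟨H₀, hXH₀, ⟨hn, hlt⟩, hmax⟩ := Finite.exists_le_maximal
    (p := fun N : Subgroup L => N.Normal ∧ N < H) (a := X) ⟨hXn, hXlt⟩
  haveI := hn
  have hfixed : ∀ x ∈ H, (∀ v ∈ U, v * x * v⁻¹ * x⁻¹ ∈ H₀) → x ∈ H₀ := by
    intro x hx h
    obtain ⟨c, hc, hxc⟩ := CoprimeAct.exists_mem_centralizer D.U_norm_H D.cop_U_H (Or.inr inferInstance)
      hlt.le Subgroup.le_normalizer_of_normal Subgroup.le_normalizer_of_normal hx h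
    have hc' : c ∈ H₀ := hXH₀ (Subgroup.mem_sup_right hc)
    rw [show x = c * (x⁻¹ * c)⁻¹ by group]
    exact mul_mem hc' (inv_mem hxc)
  set f := QuotientGroup.mk' H₀ with hf
  have hker : f.ker = H₀ := QuotientGroup.ker_mk' H₀
  haveI : Group.IsSolvable (H.map f) :=
    Group.isSolvable_of_surjective (f := f.subgroupMap H) (f.subgroupMap_surjective H)
  have hCU : H.map f ⊓ Subgroup.centralizer ((U.map f : Subgroup (L ⧸ H₀)) : Set (L ⧸ H₀)) = ⊥ := by
    rw [← CoprimeAct.map_inf_centralizer f D.U_norm_H D.cop_U_H (Or.inr inferInstance),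
      Subgroup.map_eq_bot_iff, hker]
    exact le_sup_right.trans hXH₀
  have hCE : H.map f ⊓ Subgroup.centralizer ((W₁.map f : Subgroup (L ⧸ H₀)) : Set (L ⧸ H₀)) = W₂.map f := by
    rw [← CoprimeAct.map_inf_centralizer f Subgroup.le_normalizer_of_normal D.cop_W₁_H (Or.inr inferInstance)]
    congr 1
    refine le_antisymm ?_ ?_
    · rw [← D.cent_W₁]; exact inf_le_inf_right _ D.H_le
    · exact le_inf D.W₂_le (D.cent_W₁.ge.trans inf_le_right)
  have hmem : ∀ x, x ∈ H₀ → f x = 1 := fun x hx => by rwa [← MonoidHom.mem_ker, hker]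
  have hUW : (Nat.card (H.map f)).Coprime (Nat.card ↥(U.map f ⊔ W₁.map f)) := by
    rw [← Subgroup.map_sup]
    exact (Nat.Coprime.coprime_dvd_left (Subgroup.card_map_dvd H f) D.cop_H_UW).coprime_dvd_right
      (Subgroup.card_map_dvd (U ⊔ W₁) f)
  have hW := Char.Wielandt.frobenius_formula (U.map f) (W₁.map f) (H.map f) (by
      rw [eq_bot_iff]
      rintro _ ⟨⟨v, hv, rfl⟩, ⟨e, he, hve⟩⟩
      have h1 : e⁻¹ * v ∈ H₀ := (QuotientGroup.eq).1 hve
      have : e ∈ K ⊓ W₁ := ⟨by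
        have := K.mul_mem (D.U_le hv) (K.inv_mem (D.H_le (hlt.le h1)))
        simpa [mul_assoc] using this, he⟩
      rw [D.semi.inf, Subgroup.mem_bot] at this
      subst this
      rw [Subgroup.mem_bot, ← hve, map_one])
    (by
      rintro _ ⟨e, he, rfl⟩ _ ⟨v, hv, rfl⟩
      exact ⟨e * v * e⁻¹, D.conj_U he hv, by simp⟩)
    (by
      rintro _ ⟨e, he, rfl⟩ he1 _ ⟨v, hv, rfl⟩ hc
      have he1' : e ≠ 1 := fun h => he1 (by rw [h, map_one])
      have hcH : e * v * e⁻¹ * v⁻¹ ∈ H ⊓ U := by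
        refine ⟨hlt.le ?_, mul_mem (D.conj_U he hv) (U.inv_mem hv)⟩
        rw [← hker, MonoidHom.mem_ker, map_mul, map_mul, map_mul, map_inv, map_inv, hc]
        group
      rw [D.inf_HU, Subgroup.mem_bot, mul_inv_eq_one, mul_inv_eq_iff_eq_mul] at hcH
      rw [D.fpf_U e he he1' v hv hcH, map_one])
    (fun g _ h hh => ((Subgroup.Normal.map inferInstance f (QuotientGroup.mk'_surjective H₀) :
      (H.map f).Normal)).conj_mem h hh g)
    inferInstance hUW
  have hCUE : H.map f ⊓ Subgroup.centralizer ((U.map f ⊔ W₁.map f : Subgroup (L ⧸ H₀)) : Set (L ⧸ H₀)) = ⊥ :=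
    le_bot_iff.1 (hCU ▸ inf_le_inf_left _ (Subgroup.centralizer_le (SetLike.coe_subset_coe.2 le_sup_left)))
  rw [hCUE, hCU, hCE, Subgroup.card_bot, one_pow, one_mul, mul_one,
    show Nat.card (W₁.map f) = q from by
      rw [← Subgroup.relIndex_ker, hker, ← D.card_W₁, ← Subgroup.inf_relIndex_right,
        show H₀ ⊓ W₁ = ⊥ from le_bot_iff.1 ((inf_le_inf_right W₁ (hlt.le.trans D.H_le)).trans D.semi.inf.le),
        Subgroup.relIndex_bot_left],
    ← Subgroup.relIndex_ker, ← Subgroup.relIndex_ker, hker] at hW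
  have hdvd : H₀.relIndex W₂ ∣ p := D.card_W₂ ▸ Subgroup.relIndex_dvd_card _ _
  have hrel : H₀.relIndex W₂ = p := by
    rcases (Nat.dvd_prime D.hp).1 hdvd with h | h
    · exfalso
      rw [h, one_pow, Subgroup.relIndex_eq_one] at hW
      exact hlt.not_ge hW
    · exact h
  refine ⟨H₀, hn, hlt, le_sup_left.trans hXH₀, le_sup_right.trans hXH₀, fun N hN h1 h2 => ?_, by
    rw [hW, hrel], ?_, hfixed⟩
  · by_cases e : N = H
    · exact Or.inr e
    · exact Or.inl (le_antisymm (hmax ⟨hN, lt_of_le_of_ne h2 e⟩ h1) h1)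
  · have h := Subgroup.card_mul_index (H₀.subgroupOf W₂)
    rw [show (H₀.subgroupOf W₂).index = p from hrel, D.card_W₂] at h
    have h1 : Nat.card (H₀.subgroupOf W₂) = 1 := Nat.eq_of_mul_eq_mul_right D.hp.pos (by rw [h, one_mul])
    rwa [Subgroup.card_eq_one, Subgroup.subgroupOf_eq_bot, disjoint_iff] at h1

end Struct

end Cfsg.Agent.OddChar.S11
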