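/-
Peterfalvi (11.3)-(11.5): non-coherence of `S(H₀U')`, the resulting bound, and `K' = H C`.
-/
import Cfsg.Agent.Lib.OddChar.S11.Chief
import Cfsg.Agent.Lib.Char.CoherenceGrow
import Cfsg.Agent.Lib.Char.CyclicTI.SemiChar
import Cfsg.Agent.Lib.Components.Fitting

set_option autoImplicit false

namespace Cfsg.Agent.OddChar.S11

open Cfsg.Agent
open Cfsg.Agent.Char

universe u v

variable {L : Type u} [Group L] [Fintype L] {G : Type v} [Group G] [Fintype G]

/-- Elements of `U` acting trivially on `H/H₀`. -/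
def cQuot (H U H₀ : Subgroup L) [H₀.Normal] : Subgroup L :=
  U ⊓ (Subgroup.centralizer ((H.map (QuotientGroup.mk' H₀) : Subgroup (L ⧸ H₀)) : Set (L ⧸ H₀))).comap
    (QuotientGroup.mk' H₀)

theorem mem_cQuot {H U H₀ : Subgroup L} [H₀.Normal] {v : L} :
    v ∈ cQuot H U H₀ ↔ v ∈ U ∧ ∀ h ∈ H, h * v * h⁻¹ * v⁻¹ ∈ H₀ := by
  refine and_congr Iff.rfl ?_
  refine Subgroup.mem_comap.trans (Subgroup.mem_centralizer_iff.trans ?_)
  constructor
  · intro h x hx
    have := h _ (Subgroup.mem_map_of_mem _ hx)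
    rw [← QuotientGroup.eq_one_iff, QuotientGroup.mk_mul, QuotientGroup.mk_mul, QuotientGroup.mk_mul,
      QuotientGroup.mk_inv, QuotientGroup.mk_inv]
    simp only [QuotientGroup.mk'_apply] at this
    rw [this]; group
  · rintro h _ ⟨x, hx, rfl⟩
    have := (QuotientGroup.eq_one_iff _).2 (h x hx)
    simp only [QuotientGroup.mk_mul, QuotientGroup.mk_inv, mul_inv_eq_one, mul_inv_eq_iff_eq_mul] at this
    rw [one_mul] at this; exact this

namespace Struct

variable {K H U W₁ W₂ H₀ : Subgroup L} {p q : ℕ} (D : Struct K H U W₁ W₂ p q)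
include D

theorem inf_centralizer_le_cQuot [H₀.Normal] : U ⊓ Subgroup.centralizer (H : Set L) ≤ cQuot H U H₀ :=
  fun v hv => mem_cQuot.2 ⟨hv.1, fun h hh => by
    rw [Subgroup.mem_centralizer_iff.1 hv.2 h hh]; simp⟩

theorem U_der_le : ⁅U, U⁆ ≤ U ⊓ Subgroup.centralizer (H : Set L) :=
  le_inf (Subgroup.commutator_le_self U) D.der_U

theorem normal_sup_cQuot [H₀.Normal] : (H ⊔ cQuot H U H₀).Normal := by
  haveI := D.H_normal
  set C := cQuot H U H₀
  have hcq : ∀ g ∈ Subgroup.normalizer (U : Set L), g ∈ Subgroup.normalizer (C : Set L) := by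
    intro g hg
    refine CoprimeGen.mem_normalizer_inf hg ?_
    haveI : (H.map (QuotientGroup.mk' H₀)).Normal :=
      Subgroup.Normal.map inferInstance _ (QuotientGroup.mk'_surjective H₀)
    exact Subgroup.le_normalizer_of_normal (Subgroup.mem_top g)
  refine normal_of_normalizer D.sup_top (le_sup_left.trans Subgroup.le_normalizer) (fun g hg => ?_) (fun g hg => ?_)
  · exact CoprimeGen.mem_normalizer_sup (Subgroup.le_normalizer_of_normal (Subgroup.mem_top g))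
      (hcq g (Subgroup.le_normalizer hg))
  · exact CoprimeGen.mem_normalizer_sup (Subgroup.le_normalizer_of_normal (Subgroup.mem_top g))
      (hcq g (D.U_norm hg))

theorem cQuot_sup_inf [H₀.Normal] : (H ⊔ cQuot H U H₀) ⊓ U = cQuot H U H₀ := by
  haveI := D.H_normal
  refine le_antisymm (fun x hx => ?_) (le_inf le_sup_right inf_le_left)
  obtain ⟨h, hh, c, hc, rfl⟩ := Subgroup.mem_sup_of_normal_left.1 hx.1
  have hcU : c ∈ U := hc.1
  have : h ∈ H ⊓ U := ⟨hh, by simpa using U.mul_mem hx.2 (U.inv_mem hcU)⟩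
  rw [D.inf_HU, Subgroup.mem_bot] at this
  rw [this, one_mul]; exact hc

theorem relIndex_sup_cQuot [H₀.Normal] :
    (H ⊔ cQuot H U H₀).relIndex K = (cQuot H U H₀).relIndex U := by
  haveI := D.H_normal
  haveI := D.normal_sup_cQuot (H₀ := H₀)
  have e : (H ⊔ cQuot H U H₀).relIndex K = (H ⊔ cQuot H U H₀).relIndex U := by
    conv_lhs => rw [← D.sup_HU, show H ⊔ U = U ⊔ (H ⊔ cQuot H U H₀) by
      rw [← sup_assoc, sup_comm U H, sup_assoc, sup_eq_left.2 (show cQuot H U H₀ ≤ U from inf_le_left)]]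
    exact Subgroup.relIndex_sup_right _ _
  rw [e, ← Subgroup.inf_relIndex_right, D.cQuot_sup_inf]

theorem normal_sup_der [H₀.Normal] : (H₀ ⊔ ⁅U, U⁆).Normal := by
  haveI := D.normal_der_U
  exact Subgroup.sup_normal _ _

variable {τ : (L → ℂ) → (G → ℂ)} {R : (L → ℂ) → Finset (G → ℂ)}

/-- (11.3): `S(H₀U')` is not coherent. -/
theorem not_coherent_sup_der (hS : Cfsg.IsCoherenceSystem (Cfsg.inducedIrrAbove K ⊥) τ R)
    (hnc : ¬ Cfsg.IsCoherent (Cfsg.inducedIrrAbove K ⊥) ({1}ᶜ : Set L) τ)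
    (hch : Chief H U W₂ H₀ p q) : ¬ Cfsg.IsCoherent (Cfsg.inducedIrrAbove K (H₀ ⊔ ⁅U, U⁆)) ({1}ᶜ : Set L) τ := by
  intro hcoh
  haveI := D.normal
  haveI := hch.normal
  haveI := D.H_normal
  haveI := D.normal_der_U
  haveI := D.normal_sup_der (H₀ := H₀)
  haveI := D.nilH
  haveI := D.nilU
  haveI : Group.IsNilpotent ↥(⁅U, U⁆ : Subgroup L) :=
    Group.nilpotent_of_mulEquiv (Subgroup.subgroupOfEquivOfLe (Subgroup.commutator_le_self U))
  haveI : Group.IsNilpotent ↥(H ⊔ ⁅U, U⁆) := Components.isNilpotent_sup H ⁅U, U⁆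
  apply hnc
  refine Coherence.coherent_down K D.solvable hS ⊥ (H₀ ⊔ ⁅U, U⁆) (H ⊔ ⁅U, U⁆) bot_le
    (sup_le_sup_right hch.lt.le _) (sup_le D.H_le ((Subgroup.commutator_le_self U).trans D.U_le))
    (Coherence.nilpotent_map (M := ⊥) (H := H ⊔ ⁅U, U⁆) inferInstance) hcoh ?_
  have e : (H₀ ⊔ ⁅U, U⁆).relIndex (H ⊔ ⁅U, U⁆) = p ^ q := by
    rw [show H ⊔ ⁅U, U⁆ = H ⊔ (H₀ ⊔ ⁅U, U⁆) by rw [← sup_assoc, sup_eq_left.2 hch.lt.le],
      Subgroup.relIndex_sup_right, ← hch.card, ← Subgroup.inf_relIndex_right]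
    congr 1
    refine le_antisymm (fun x hx => ?_) (le_inf le_sup_left hch.lt.le)
    obtain ⟨h, hh, c, hc, rfl⟩ := Subgroup.mem_sup_of_normal_left.1 hx.1
    have : c ∈ H ⊓ U := ⟨by simpa using H.mul_mem (H.inv_mem (hch.lt.le hh)) hx.2, Subgroup.commutator_le_self U hc⟩
    rw [D.inf_HU, Subgroup.mem_bot] at this
    rw [this, mul_one]; exact hh
  rw [e, D.index_K]
  exact D.four_sq_lt

/-- (11.4). -/
theorem bound (hS : Cfsg.IsCoherenceSystem (Cfsg.inducedIrrAbove K ⊥) τ R)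
    (hnc : ¬ Cfsg.IsCoherent (Cfsg.inducedIrrAbove K ⊥) ({1}ᶜ : Set L) τ)
    (hch : Chief H U W₂ H₀ p q) [H₀.Normal] {A : Subgroup L} [A.Normal] (hA : ¬ K ≤ A)
    (hcoh : Cfsg.IsCoherent (Cfsg.inducedIrrAbove K A) ({1}ᶜ : Set L) τ) :
    A.relIndex K ≤ 2 * (q * (cQuot H U H₀).relIndex U) + 1 := by
  by_contra hlt
  push Not at hlt
  haveI := D.normal
  haveI := D.H_normal
  haveI := D.normal_der_U
  haveI := D.normal_sup_der (H₀ := H₀)
  set C := H ⊔ cQuot H U H₀ with hC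
  have hCK : C ≤ K := sup_le D.H_le (inf_le_left.trans D.U_le)
  have hBK : ¬ K ≤ H₀ ⊔ ⁅U, U⁆ := fun h => by
    have h1 : W₂ ≤ H₀ := fun w hw => by
      obtain ⟨a, ha, c, hc, e⟩ := Subgroup.mem_sup_of_normal_left.1 (h (D.semi.le hw))
      have hc' : c ∈ H ⊓ U := ⟨by
        have := H.mul_mem (H.inv_mem (hch.lt.le ha)) (D.W₂_le hw)
        rw [← e] at this
        simpa using this, Subgroup.commutator_le_self U hc⟩
      rw [D.inf_HU, Subgroup.mem_bot] at hc'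
      rw [← e, hc', mul_one]; exact ha
    have h2 := hch.W₂_inf
    rw [inf_eq_right.2 h1] at h2
    exact D.semi.ne2 h2
  have hcc : ⁅C, C⁆ ≤ H₀ ⊔ ⁅U, U⁆ := by
    refine commutator_sup_le' (hch.der.trans le_sup_left) ?_ ?_
    · rw [Subgroup.commutator_le]
      intro h hh c hc
      exact Subgroup.mem_sup_left ((mem_cQuot.1 hc).2 h hh)
    · exact (Subgroup.commutator_mono inf_le_left inf_le_left).trans le_sup_right
  refine D.not_coherent_sup_der hS hnc hch (Coherence.coherent_above K D.solvable hS A (H₀ ⊔ ⁅U, U⁆) C C hA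
    hBK hCK (fun x hx y hy => hcc (Subgroup.commutator_mem_commutator hx hy)) hcoh ?_)
  rw [Subgroup.relIndex_self, mul_one]
  have hidx : C.index = (cQuot H U H₀).relIndex U * q := by
    rw [← Subgroup.relIndex_mul_index hCK, D.index_K, hC, D.relIndex_sup_cQuot]
  rw [hidx]
  have h2 : 2 * ((cQuot H U H₀).relIndex U * q) < A.relIndex K - 1 := by
    rw [mul_comm _ q]; omega
  calc 4 * ((cQuot H U H₀).relIndex U * q) ^ 2 = (2 * ((cQuot H U H₀).relIndex U * q)) ^ 2 := by ring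
    _ < _ := Nat.pow_lt_pow_left h2 two_ne_zero

/-- The characters induced from non-principal linear characters over `K'` are irreducible. -/
theorem irr_over_der {θ : K → ℂ} [hKn : K.Normal] (hθ : Cfsg.IsIrrCharacter K θ) (hθ1 : θ ≠ fun _ => 1)
    (hker : ∀ a : K, (a : L) ∈ ⁅K, K⁆ → θ a = θ 1) :
    θ 1 = 1 ∧ Cfsg.IsIrrCharacter L (Cfsg.indFun K θ) := by
  haveI : (⁅K, K⁆ : Subgroup L).Normal := Subgroup.commutator_normal K K
  obtain ⟨d, hd0, hd⟩ := IsIrrCharacter.exists_degree hθ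
  have hd1 : d = 1 := by
    have h := IndSet.degree_sq_le (K := K) (B := ⁅K, K⁆) (C := K) (D := K) le_rfl
      (fun x hx y hy => Subgroup.commutator_mem_commutator hx hy) hθ hker hd
    rw [Subgroup.relIndex_self] at h
    nlinarith
  have h1 : θ 1 = 1 := by rw [hd, hd1, Nat.cast_one]
  refine ⟨h1, D.semi.isIrr_ind hθ fun hinv => hθ1 ?_⟩
  obtain ⟨f, hf⟩ := exists_hom_of_degree_one (IsIrrCharacter.isCharacter hθ) h1
  subst hf
  set N : Subgroup L := f.ker.map K.subtype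
  haveI : N.Normal := ⟨by
    rintro _ ⟨a, ha, rfl⟩ g
    refine ⟨⟨g * a * g⁻¹, hKn.conj_mem a a.2 g⟩, Units.ext ?_, rfl⟩
    have := congrFun (hinv g) a
    exact this.trans (by rw [show f a = 1 from ha])⟩
  have hNK : N ≤ K := Subgroup.map_subtype_le _
  have hPN : ⁅K, K⁆ ≤ N := fun a ha => by
    refine ⟨⟨a, Subgroup.commutator_le_self K ha⟩, Units.ext ?_, rfl⟩
    have := hker ⟨a, Subgroup.commutator_le_self K ha⟩ ha
    simp only [map_one, Units.val_one] at this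
    exact this
  funext k
  obtain ⟨w, hw, hkw⟩ := D.fixed_quot hNK k.2 fun e he => by
    refine ⟨⟨e * k * e⁻¹ * (k : L)⁻¹, K.mul_mem (hKn.conj_mem k k.2 e) (K.inv_mem k.2)⟩, Units.ext ?_, rfl⟩
    have := congrFun (hinv e) k
    have e1 : f ⟨e * k * e⁻¹, hKn.conj_mem k k.2 e⟩ = f k := Units.ext this
    rw [show (⟨e * k * e⁻¹ * (k : L)⁻¹, K.mul_mem (hKn.conj_mem k k.2 e) (K.inv_mem k.2)⟩ : K) =
      ⟨e * k * e⁻¹, hKn.conj_mem k k.2 e⟩ * k⁻¹ from rfl, map_mul, map_inv, e1, mul_inv_cancel]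
  have hk : (k : L) ∈ N := by
    have := N.mul_mem (hPN (D.W₂_der hw)) (N.inv_mem hkw)
    simpa using this
  obtain ⟨k', hk', e⟩ := hk
  rw [Subtype.ext e] at hk'
  rw [show f k = 1 from hk', Units.val_one]

/-- `S(K')` is coherent. -/
theorem coherent_der (hS : Cfsg.IsCoherenceSystem (Cfsg.inducedIrrAbove K ⊥) τ R) (hK : ¬ K ≤ ⁅K, K⁆) :
    Cfsg.IsCoherent (Cfsg.inducedIrrAbove K ⁅K, K⁆) ({1}ᶜ : Set L) τ := by
  haveI := D.normal
  haveI : (⁅K, K⁆ : Subgroup L).Normal := Subgroup.commutator_normal K K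
  refine Coherence.coherent_of_equal_degree (Coherence.sys_mono hS (IndSet.above_subset_bot K _)
    (fun φ hφ => IndSet.conj_mem_above K _ hφ) (IndSet.above_nonempty K hK)) ?_
  rintro φ ⟨θ, hθ, hθ1, hker, rfl⟩ ψ ⟨θ', hθ', hθ'1, hker', rfl⟩
  rw [indFun_one_apply, indFun_one_apply, (D.irr_over_der hθ hθ1 hker).1, (D.irr_over_der hθ' hθ'1 hker').1]

end Struct

end Cfsg.Agent.OddChar.S11
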