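/-
Peterfalvi (11.5)-(11.6): `K' = H U'`, `U ∩ C(H) = U'`, `H = [H, U]`, and `U` centralises `H₀ ≤ Z(H)`.
-/
import Cfsg.Agent.Lib.OddChar.S11.Bound

set_option autoImplicit false

namespace Cfsg.Agent.OddChar.S11

open Cfsg.Agent
open Cfsg.Agent.Char

universe u v

variable {L : Type u} [Group L] [Fintype L] {G : Type v} [Group G] [Fintype G]

namespace Struct

variable {K H U W₁ W₂ H₀ : Subgroup L} {p q : ℕ} (D : Struct K H U W₁ W₂ p q)
include D

theorem cQuot_relIndex_ne_one [H₀.Normal] (hch : Chief H U W₂ H₀ p q) : (cQuot H U H₀).relIndex U ≠ 1 := fun h => by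
  rw [Subgroup.relIndex_eq_one] at h
  refine hch.lt.not_ge fun x hx => hch.fixed x hx fun v hv => ?_
  have := (inferInstance : H₀.Normal).conj_mem _ (inv_mem ((mem_cQuot.1 (h hv)).2 x hx)) 1
  rw [inv_one, mul_one, one_mul] at this
  have e : (x * v * x⁻¹ * v⁻¹)⁻¹ = v * x * v⁻¹ * x⁻¹ := by group
  rwa [e] at this

theorem cQuot_modEq [H₀.Normal] : (cQuot H U H₀).relIndex U ≡ 1 [MOD q] := by
  haveI := D.normal
  haveI := D.normal_sup_cQuot (H₀ := H₀)
  rw [← D.relIndex_sup_cQuot]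
  exact D.relIndex_modEq_one (sup_le D.H_le (inf_le_left.trans D.U_le)) le_rfl (D.W₂_le.trans le_sup_left)

variable {τ : (L → ℂ) → (G → ℂ)} {R : (L → ℂ) → Finset (G → ℂ)}
  (hS : Cfsg.IsCoherenceSystem (Cfsg.inducedIrrAbove K ⊥) τ R)
  (hnc : ¬ Cfsg.IsCoherent (Cfsg.inducedIrrAbove K ⊥) ({1}ᶜ : Set L) τ)
  (hch : Chief H U W₂ H₀ p q)
include hS hnc hch

/-- (11.5): `H C ≤ K'`. -/
theorem sup_cQuot_le_der [H₀.Normal] : H ⊔ cQuot H U H₀ ≤ ⁅K, K⁆ := by
  haveI := D.normal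
  haveI := D.solvable
  haveI := D.H_normal
  haveI := D.normal_sup_cQuot (H₀ := H₀)
  haveI hPn : (⁅K, K⁆ : Subgroup L).Normal := Subgroup.commutator_normal K K
  set C := H ⊔ cQuot H U H₀
  set u := (cQuot H U H₀).relIndex U
  have hKne : K ≠ ⊥ := fun e => D.semi.ne2 (le_bot_iff.1 (e ▸ D.semi.le))
  have hK' : ¬ K ≤ ⁅K, K⁆ := fun h =>
    (Group.IsSolvable.commutator_lt_of_ne_bot (G := K) (H := ⊤) (by
      rw [Ne, Subgroup.eq_bot_iff_forall]
      intro h0
      exact hKne ((Subgroup.eq_bot_iff_forall K).2 fun x hx => congrArg Subtype.val (h0 ⟨x, hx⟩ trivial)))).ne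
      (Subgroup.map_injective K.subtype_injective (by
        rw [Subgroup.map_commutator, ← MonoidHom.range_eq_map, Subgroup.range_subtype]
        exact le_antisymm (Subgroup.commutator_le_self K) h))
  have hPC : ⁅K, K⁆ ≤ C := D.der_K.trans (sup_le_sup_left D.inf_centralizer_le_cQuot H)
  have hCK : C ≤ K := sup_le D.H_le (inf_le_left.trans D.U_le)
  have hb := D.bound hS hnc hch hK' (D.coherent_der hS hK')
  rw [← Subgroup.relIndex_mul_relIndex _ _ _ hPC hCK, D.relIndex_sup_cQuot] at hb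
  change (⁅K, K⁆ : Subgroup L).relIndex C * u ≤ 2 * (q * u) + 1 at hb
  have hmod := D.relIndex_modEq_one (N := ⁅K, K⁆) (X := C) (hPC.trans hCK) hCK D.W₂_der
  have hu0 : u ≠ 0 := fun h => Nat.card_pos.ne' (zero_dvd_iff.1 (h ▸ Subgroup.relIndex_dvd_card (cQuot H U H₀) U : 0 ∣ Nat.card U))
  have hu1 : u ≠ 1 := D.cQuot_relIndex_ne_one hch
  have hodd : Odd ((⁅K, K⁆ : Subgroup L).relIndex C) :=
    D.odd.of_dvd_nat ((Subgroup.relIndex_dvd_card _ _).trans (Subgroup.card_subgroup_dvd_card C))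
  rw [← Subgroup.relIndex_eq_one]
  by_contra he
  set e := (⁅K, K⁆ : Subgroup L).relIndex C
  obtain ⟨k, hk⟩ := hodd
  have hdvd : q ∣ 2 * k := by
    have := (Nat.modEq_iff_dvd' (show 1 ≤ e by omega)).1 hmod.symm
    rwa [show e - 1 = 2 * k by omega] at this
  have hqk : q ∣ k := ((Nat.coprime_two_right.2 D.q_odd).dvd_of_dvd_mul_left hdvd)
  have hkq : q ≤ k := Nat.le_of_dvd (by omega) hqk
  have h2 : (2 * q + 1) * u ≤ e * u := Nat.mul_le_mul_right u (by omega)
  have h3 : (2 * q + 1) * u = 2 * (q * u) + u := by ring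
  omega

theorem cQuot_eq [H₀.Normal] : cQuot H U H₀ = U ⊓ Subgroup.centralizer (H : Set L) := by
  haveI := D.H_normal
  refine le_antisymm (fun v hv => ?_) D.inf_centralizer_le_cQuot
  have h1 : v ∈ H ⊔ (U ⊓ Subgroup.centralizer (H : Set L)) :=
    D.der_K (D.sup_cQuot_le_der hS hnc hch (Subgroup.mem_sup_right hv))
  obtain ⟨h, hh, c, hc, rfl⟩ := Subgroup.mem_sup_of_normal_left.1 h1
  have : h ∈ H ⊓ U := ⟨hh, by simpa using U.mul_mem hv.1 (U.inv_mem hc.1)⟩
  rw [D.inf_HU, Subgroup.mem_bot] at this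
  rw [this, one_mul]; exact hc

/-- (11.6): `H = [H, U]` and `U ∩ C(H) = U'`. -/
theorem der_facts : ⁅H, U⁆ = H ∧ U ⊓ Subgroup.centralizer (H : Set L) = ⁅U, U⁆ ∧ ⁅K, K⁆ = H ⊔ ⁅U, U⁆ := by
  haveI := hch.normal
  haveI := D.H_normal
  haveI := D.normal
  haveI := D.normal_der_U
  haveI := D.nilH
  have hC := D.sup_cQuot_le_der hS hnc hch
  rw [D.cQuot_eq hS hnc hch] at hC
  haveI hHU : (⁅H, U⁆ : Subgroup L).Normal := by
    refine normal_of_normalizer D.sup_top (Subgroup.normalizer_commutator_ge_left H U)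
      (Subgroup.normalizer_commutator_ge_right H U) fun e he =>
        CoprimeGen.mem_normalizer_commutator_of_mem (Subgroup.le_normalizer_of_normal (Subgroup.mem_top e)) (D.U_norm he)
  set R := ⁅H, H⁆ ⊔ ⁅H, U⁆ with hR
  haveI : R.Normal := Subgroup.sup_normal _ _
  haveI : (R ⊔ ⁅U, U⁆).Normal := Subgroup.sup_normal _ _
  have hRH : R ≤ H := sup_le (Subgroup.commutator_le_self H) (CoprimeAct.commutator_le_left D.U_norm_H)
  have hKle : ⁅K, K⁆ ≤ R ⊔ ⁅U, U⁆ := by
    rw [← D.sup_HU]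
    exact commutator_sup_le' (le_sup_left.trans le_sup_left) (le_sup_right.trans le_sup_left) le_sup_right
  have hsplit : ∀ x ∈ R ⊔ ⁅U, U⁆, (x ∈ H → x ∈ R) ∧ (x ∈ U → x ∈ (⁅U, U⁆ : Subgroup L)) := by
    intro x hx
    obtain ⟨a, ha, c, hc, rfl⟩ := Subgroup.mem_sup_of_normal_left.1 hx
    have hcU : c ∈ U := Subgroup.commutator_le_self U hc
    refine ⟨fun h => ?_, fun h => ?_⟩
    · have : c ∈ H ⊓ U := ⟨by simpa using H.mul_mem (H.inv_mem (hRH ha)) h, hcU⟩
      rw [D.inf_HU, Subgroup.mem_bot] at this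
      rw [this, mul_one]; exact ha
    · have : a ∈ H ⊓ U := ⟨hRH ha, by simpa using U.mul_mem h (U.inv_mem hcU)⟩
      rw [D.inf_HU, Subgroup.mem_bot] at this
      rw [this, one_mul]; exact hc
  have hRH' : R = H := le_antisymm hRH fun h hh => (hsplit h (hKle (hC (Subgroup.mem_sup_left hh)))).1 hh
  have hHU' : ⁅H, U⁆ = H := CoprimeGen.eq_of_sup_commutator (K := H) (A := ⁅H, U⁆)
    (CoprimeAct.commutator_le_left D.U_norm_H) (by rw [sup_comm, ← hR, hRH'])
  have hUc : U ⊓ Subgroup.centralizer (H : Set L) = ⁅U, U⁆ :=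
    le_antisymm (fun v hv => (hsplit v (hKle (hC (Subgroup.mem_sup_right hv)))).2 hv.1) D.U_der_le
  refine ⟨hHU', hUc, le_antisymm (hKle.trans (by rw [hRH'])) ?_⟩
  rwa [hUc] at hC

omit hS hnc in
/-- `U` centralises `H₀`. -/
theorem cent_chief : H₀ ≤ Subgroup.centralizer (U : Set L) := by
  haveI := hch.normal
  haveI := D.normal
  haveI := D.nilH
  haveI : Group.IsSolvable H₀ :=
    Group.isSolvable_of_isSolvable_injective (Subgroup.inclusion_injective hch.lt.le)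
  have hE : H₀ ⊓ Subgroup.centralizer (W₁ : Set L) = ⊥ := by
    rw [← le_bot_iff, ← hch.W₂_inf, ← D.cent_W₁]
    exact le_inf inf_le_left (inf_le_inf_right _ (hch.lt.le.trans D.H_le))
  have hUE : H₀ ⊓ Subgroup.centralizer ((U ⊔ W₁ : Subgroup L) : Set L) = ⊥ :=
    le_bot_iff.1 (hE ▸ inf_le_inf_left _ (Subgroup.centralizer_le (SetLike.coe_subset_coe.2 le_sup_right)))
  have hW := Char.Wielandt.frobenius_formula U W₁ H₀
    (le_bot_iff.1 ((inf_le_inf_right W₁ D.U_le).trans D.semi.inf.le))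
    (fun e he v hv => D.conj_U he hv) D.fpf_U (fun g _ h hh => hch.normal.conj_mem h hh g) inferInstance
    (D.cop_H_UW.coprime_dvd_left (Subgroup.card_dvd_of_le hch.lt.le))
  rw [hUE, hE, Subgroup.card_bot, one_pow, one_mul, one_mul] at hW
  exact inf_eq_left.1 (Subgroup.eq_of_le_of_card_ge inf_le_left hW.le)

/-- `H₀` is central in `H`. -/
theorem chief_central : H₀ ≤ Subgroup.centralizer (H : Set L) := by
  haveI := hch.normal
  have hU : ⁅H₀, U⁆ = ⊥ := Subgroup.commutator_eq_bot_iff_le_centralizer.2 (D.cent_chief hch)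
  have h : ⁅⁅H, U⁆, H₀⁆ = ⊥ := by
    refine Subgroup.commutator_commutator_eq_bot_of_rotate ?_ ?_
    · rw [Subgroup.commutator_comm U H₀, hU, Subgroup.commutator_bot_left]
    · exact le_bot_iff.1 ((Subgroup.commutator_mono (Subgroup.commutator_le_left H₀ H) le_rfl).trans hU.le)
  rw [(D.der_facts hS hnc hch).1, Subgroup.commutator_comm] at h
  exact Subgroup.commutator_eq_bot_iff_le_centralizer.1 h

end Struct

end Cfsg.Agent.OddChar.S11
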