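/-
Peterfalvi (11.7): `H` is elementary abelian of order `p ^ q` and a minimal normal subgroup.
-/
import Cfsg.Agent.Lib.OddChar.S11.Der
import Cfsg.Agent.Lib.OddChar.S11.Alt
import Mathlib.LinearAlgebra.Dual.Lemmas
import Mathlib.Algebra.Module.ZMod
import Mathlib.FieldTheory.Finiteness
import Cfsg.Prelude.Def_Transfer

set_option autoImplicit false

namespace Cfsg.Agent.OddChar.S11

open Cfsg.Agent
open Cfsg.Agent.Char
open scoped commutatorElement

universe u v

variable {L : Type u} [Group L] [Fintype L] {G : Type v} [Group G] [Fintype G]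

theorem commutator_mul_left_of_comm {a b y : L} (h : ⁅b, y⁆ * a = a * ⁅b, y⁆) :
    ⁅a * b, y⁆ = ⁅b, y⁆ * ⁅a, y⁆ := by
  have e : ⁅a * b, y⁆ = a * ⁅b, y⁆ * a⁻¹ * ⁅a, y⁆ := by simp [commutatorElement_def, mul_assoc]
  rw [e, ← h, mul_inv_cancel_right]

theorem commutator_mul_right_of_comm {x a b : L} (h : ⁅x, b⁆ * a = a * ⁅x, b⁆) :
    ⁅x, a * b⁆ = ⁅x, a⁆ * ⁅x, b⁆ := by
  have e : ⁅x, a * b⁆ = ⁅x, a⁆ * (a * ⁅x, b⁆ * a⁻¹) := by simp [commutatorElement_def, mul_assoc]
  rw [e, ← h, mul_inv_cancel_right]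

/-- The results of (11.3)-(11.7). -/
structure Facts (K H U : Subgroup L) (p q : ℕ) (τ : (L → ℂ) → (G → ℂ)) : Prop where
  elem : Cfsg.IsElementaryAbelian p H
  card_H : Nat.card H = p ^ q
  cent_H : U ⊓ Subgroup.centralizer (H : Set L) = ⁅U, U⁆
  cent_U : H ⊓ Subgroup.centralizer (U : Set L) = ⊥
  der_K : ⁅K, K⁆ = H ⊔ ⁅U, U⁆
  hu : H = ⁅H, U⁆
  min : ∀ N : Subgroup L, N.Normal → N ≤ H → N = ⊥ ∨ N = H
  not_coherent : ¬ Cfsg.IsCoherent (Cfsg.inducedIrrAbove K ⁅U, U⁆) ({1}ᶜ : Set L) τ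
  u_ne_one : (⁅U, U⁆ : Subgroup L).relIndex U ≠ 1
  u_modEq : (⁅U, U⁆ : Subgroup L).relIndex U ≡ 1 [MOD q]

namespace Struct

variable {K H U W₁ W₂ H₀ : Subgroup L} {p q : ℕ} (D : Struct K H U W₁ W₂ p q)
include D

theorem pow_mem_chief [H₀.Normal] (hch : Chief H U W₂ H₀ p q) {x : L} (hx : x ∈ H) : x ^ p ∈ H₀ := by
  haveI := D.H_normal
  set f := QuotientGroup.mk' H₀
  have hker : f.ker = H₀ := QuotientGroup.ker_mk' H₀
  set E : Subgroup L :=
    { carrier := {y | y ∈ H ∧ y ^ p ∈ H₀}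
      one_mem' := ⟨H.one_mem, by simp⟩
      inv_mem' := fun {y} hy => ⟨H.inv_mem hy.1, by rw [inv_pow]; exact H₀.inv_mem hy.2⟩
      mul_mem' := fun {a b} ha hb => ⟨H.mul_mem ha.1 hb.1, by
        have hc : f a * f b = f b * f a := by
          rw [← map_mul, ← map_mul]
          refine QuotientGroup.eq.2 ?_
          rw [mul_inv_rev]
          have := hch.der (Subgroup.commutator_mem_commutator (H.inv_mem hb.1) (H.inv_mem ha.1))
          simpa [commutatorElement_def, mul_assoc] using this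
        rw [← hker, MonoidHom.mem_ker, map_pow, map_mul, Commute.mul_pow hc, ← map_pow, ← map_pow,
          show f (a ^ p) = 1 by rw [← MonoidHom.mem_ker, hker]; exact ha.2,
          show f (b ^ p) = 1 by rw [← MonoidHom.mem_ker, hker]; exact hb.2, one_mul]⟩ }
  have hEn : E.Normal := ⟨fun y hy g => ⟨D.H_normal.conj_mem y hy.1 g, by
    rw [conj_pow]; exact (inferInstance : H₀.Normal).conj_mem _ hy.2 g⟩⟩
  rcases hch.min E hEn (fun y hy => ⟨hch.lt.le hy, H₀.pow_mem hy p⟩) (fun y hy => hy.1) with h | h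
  · exfalso
    haveI := Fact.mk D.hp
    have hcard : Nat.card (H.map f) = p ^ q := by rw [← Subgroup.relIndex_ker, hker, hch.card]
    obtain ⟨y, hy⟩ := exists_prime_orderOf_dvd_card' p (hcard ▸ dvd_pow_self p D.hq.ne_zero)
    obtain ⟨_, ⟨x, hx', rfl⟩⟩ := y
    rw [← Subgroup.orderOf_coe] at hy
    have hxE : x ∈ E := ⟨hx', by rw [← hker, MonoidHom.mem_ker, map_pow, ← hy, pow_orderOf_eq_one]⟩
    rw [h] at hxE
    have h1 : f x = 1 := by rw [← MonoidHom.mem_ker, hker]; exact hxE
    exact D.hp.ne_one (hy.symm.trans (orderOf_eq_one_iff.2 h1))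
  · exact (h.ge hx).2

/-- An invariant alternating form on a chief factor is trivial, so `H` is abelian. -/
theorem commutator_eq_one [H₀.Normal] (hch : Chief H U W₂ H₀ p q)
    (hcentU : H₀ ≤ Subgroup.centralizer (U : Set L)) (hcentH : H₀ ≤ Subgroup.centralizer (H : Set L))
    {x y : L} (hx : x ∈ H) (hy : y ∈ H) : ⁅x, y⁆ = 1 := by
  classical
  haveI := D.H_normal
  haveI := D.normal
  haveI : Fact p.Prime := ⟨D.hp⟩
  set f := QuotientGroup.mk' H₀
  have hker : f.ker = H₀ := QuotientGroup.ker_mk' H₀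
  set B := H.map f with hB
  haveI hBn : B.Normal := Subgroup.Normal.map inferInstance f (QuotientGroup.mk'_surjective H₀)
  have hBcomm : ∀ a b : B, a * b = b * a := by
    rintro ⟨_, a, ha, rfl⟩ ⟨_, b, hb, rfl⟩
    refine Subtype.ext (?_ : f a * f b = f b * f a)
    rw [← map_mul, ← map_mul]
    refine QuotientGroup.eq.2 ?_
    rw [mul_inv_rev]
    have := hch.der (Subgroup.commutator_mem_commutator (H.inv_mem hb) (H.inv_mem ha))
    simpa [commutatorElement_def, mul_assoc] using this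
  letI : CommGroup B := { (inferInstance : Group B) with mul_comm := hBcomm }
  have hpV : ∀ a : (Additive B), p • a = 0 := by
    intro a
    obtain ⟨⟨_, z, hz, rfl⟩, rfl⟩ := Additive.ofMul.surjective a
    refine congrArg Additive.ofMul (Subtype.ext ?_ : (⟨f z, _⟩ : B) ^ p = 1)
    show (f z) ^ p = 1
    rw [← map_pow, ← MonoidHom.mem_ker, hker]
    exact D.pow_mem_chief hch hz
  haveI : Module (ZMod p) (Additive B) := AddCommGroup.zmodModule hpV
  let ρ : L →* ((Additive B) ≃ₗ[ZMod p] (Additive B)) :=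
    { toFun := fun g => (MulEquiv.toAdditive ((MulAut.conjNormal (H := B)) (f g))).toLinearEquiv
        fun c a => ZMod.map_smul (MulEquiv.toAdditive ((MulAut.conjNormal (H := B)) (f g))).toAddMonoidHom c a
      map_one' := LinearEquiv.ext fun (a : Additive B) => by
        rw [LinearEquiv.coe_one, id]
        refine Additive.toMul.injective (Subtype.ext ?_)
        show f 1 * ((Additive.toMul a : B) : L ⧸ H₀) * (f 1)⁻¹ = ((Additive.toMul a : B) : L ⧸ H₀)
        rw [map_one, one_mul, inv_one, mul_one]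
      map_mul' := fun g h => LinearEquiv.ext fun (a : Additive B) => by
        rw [LinearEquiv.mul_apply]
        refine Additive.toMul.injective (Subtype.ext ?_)
        show f (g * h) * ((Additive.toMul a : B) : L ⧸ H₀) * (f (g * h))⁻¹ =
          f g * (f h * ((Additive.toMul a : B) : L ⧸ H₀) * (f h)⁻¹) * (f g)⁻¹
        rw [map_mul, mul_inv_rev]
        simp only [mul_assoc] }
  have hρ : ∀ (g : L) (a : (Additive B)), (((Additive.toMul (ρ g a) : B)) : L ⧸ H₀) =
      f g * ((Additive.toMul a : B) : L ⧸ H₀) * (f g)⁻¹ := fun g a => rfl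
  have hcardV : Nat.card (Additive B) = p ^ q := by
    show Nat.card B = _
    rw [hB, ← Subgroup.relIndex_ker, hker, hch.card]
  have hdim : Module.finrank (ZMod p) (Additive B) = q := by
    have h := Module.natCard_eq_pow_finrank (K := ZMod p) (V := Additive B)
    rw [hcardV, Nat.card_zmod] at h
    exact (Nat.pow_right_injective D.hp.two_le h).symm
  obtain ⟨w, hw, hw1⟩ := (Subgroup.bot_or_exists_ne_one W₁).resolve_left D.semi.ne1
  have hwq : w ^ q = 1 := by
    have := congrArg Subtype.val (pow_card_eq_one' (x := (⟨w, hw⟩ : W₁)))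
    rwa [D.card_W₁] at this
  have hWz : W₁ = Subgroup.zpowers w := by
    haveI := Fact.mk D.hq
    refine le_antisymm (fun g hg => ?_) (Subgroup.zpowers_le.2 hw)
    obtain ⟨k, hk⟩ := mem_zpowers_of_prime_card (G := W₁) D.card_W₁
      (fun h => hw1 (congrArg Subtype.val h) : (⟨w, hw⟩ : W₁) ≠ 1) (g' := ⟨g, hg⟩)
    exact ⟨k, by simpa using congrArg Subtype.val hk⟩
  -- representatives
  have hsur : ∀ a : (Additive B), ∃ z ∈ H, ((Additive.toMul a : B) : L ⧸ H₀) = f z := fun a => by
    obtain ⟨z, hz, e⟩ := (Additive.toMul a : B).2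
    exact ⟨z, hz, e.symm⟩
  choose rep hrepH hrep using hsur
  have hwd : ∀ {a a' b b' : L}, a ∈ H → a' ∈ H → b ∈ H → b' ∈ H → f a = f a' → f b = f b' →
      ⁅a, b⁆ = ⁅a', b'⁆ := by
    intro a a' b b' ha ha' hb hb' e1 e2
    have h1 : a⁻¹ * a' ∈ H₀ := QuotientGroup.eq.1 e1
    have h2 : b⁻¹ * b' ∈ H₀ := QuotientGroup.eq.1 e2
    have c1 : ⁅a⁻¹ * a', b'⁆ = 1 := commutatorElement_eq_one_iff_mul_comm.2
      (Subgroup.mem_centralizer_iff.1 (hcentH h1) b' hb').symm
    have c2 : ⁅a, b⁻¹ * b'⁆ = 1 := commutatorElement_eq_one_iff_mul_comm.2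
      (Subgroup.mem_centralizer_iff.1 (hcentH h2) a ha)
    have e3 : ⁅a', b'⁆ = ⁅a, b'⁆ := by
      conv_lhs => rw [show a' = a * (a⁻¹ * a') by group]
      rw [commutator_mul_left_of_comm (by rw [c1]; simp), c1, one_mul]
    have e4 : ⁅a, b'⁆ = ⁅a, b⁆ := by
      conv_lhs => rw [show b' = b * (b⁻¹ * b') by group]
      rw [commutator_mul_right_of_comm (by rw [c2]; simp), c2, mul_one]
    rw [e3, e4]
  have hmem : ∀ {a b : L}, a ∈ H → b ∈ H → ⁅a, b⁆ ∈ H₀ := fun ha hb =>
    hch.der (Subgroup.commutator_mem_commutator ha hb)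
  have hbil : ∀ {a b z : L}, a ∈ H → b ∈ H → z ∈ H → ⁅a * b, z⁆ = ⁅a, z⁆ * ⁅b, z⁆ := by
    intro a b z ha hb hz
    have hb' : ∀ g ∈ H, g * ⁅b, z⁆ = ⁅b, z⁆ * g := fun g hg =>
      Subgroup.mem_centralizer_iff.1 (hcentH (hmem hb hz)) g hg
    rw [commutator_mul_left_of_comm (hb' a ha).symm, (hb' _ (hch.lt.le (hmem ha hz))).symm]
  have hbil' : ∀ {a b z : L}, a ∈ H → b ∈ H → z ∈ H → ⁅z, a * b⁆ = ⁅z, a⁆ * ⁅z, b⁆ := by
    intro a b z ha hb hz
    exact commutator_mul_right_of_comm (Subgroup.mem_centralizer_iff.1 (hcentH (hmem hz hb)) a ha).symm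
  have hexp : ∀ {a b : L}, a ∈ H → b ∈ H → ⁅a, b⁆ ^ p = 1 := by
    intro a b ha hb
    have hn : ∀ n : ℕ, ⁅a ^ n, b⁆ = ⁅a, b⁆ ^ n := by
      intro n
      induction n with
      | zero => simp
      | succ n ih => rw [pow_succ, hbil (H.pow_mem ha n) ha hb, ih, pow_succ]
    rw [← hn, commutatorElement_eq_one_iff_mul_comm]
    exact (Subgroup.mem_centralizer_iff.1 (hcentH (D.pow_mem_chief hch ha)) b hb).symm
  -- the target
  set Z : Subgroup L :=
    { carrier := {z | z ∈ H₀ ∧ z ^ p = 1}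
      one_mem' := ⟨H₀.one_mem, one_pow p⟩
      inv_mem' := fun {z} hz => ⟨H₀.inv_mem hz.1, by rw [inv_pow, hz.2, inv_one]⟩
      mul_mem' := fun {a b} ha hb => ⟨H₀.mul_mem ha.1 hb.1, by
        rw [Commute.mul_pow (Subgroup.mem_centralizer_iff.1 (hcentH hb.1) a (hch.lt.le ha.1)), ha.2, hb.2,
          one_mul]⟩ }
  letI : CommGroup Z := { (inferInstance : Group Z) with mul_comm := fun a b => Subtype.ext (Subgroup.mem_centralizer_iff.1 (hcentH b.2.1) a (hch.lt.le a.2.1)) }
  have hpZ : ∀ a : Additive Z, p • a = 0 := fun a => by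
    obtain ⟨z, rfl⟩ := Additive.ofMul.surjective a
    exact congrArg Additive.ofMul (Subtype.ext z.2.2 : z ^ p = 1)
  haveI : Module (ZMod p) (Additive Z) := AddCommGroup.zmodModule hpZ
  let c : (Additive B) → (Additive B) → Additive Z := fun a b =>
    Additive.ofMul ⟨⁅rep a, rep b⁆, hmem (hrepH a) (hrepH b), hexp (hrepH a) (hrepH b)⟩
  have hc : ∀ (a b : (Additive B)) (z t : L) (hz : z ∈ H) (ht : t ∈ H), f z = ((Additive.toMul a : B) : L ⧸ H₀) →
      f t = ((Additive.toMul b : B) : L ⧸ H₀) → c a b = Additive.ofMul ⟨⁅z, t⁆, hmem hz ht, hexp hz ht⟩ :=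
    fun a b z t hz ht e1 e2 => congrArg Additive.ofMul (Subtype.ext
      (hwd (hrepH a) hz (hrepH b) ht ((hrep a).symm.trans e1.symm) ((hrep b).symm.trans e2.symm)))
  have hcl : ∀ a a' b, c (a + a') b = c a b + c a' b := fun a a' b => by
    rw [hc (a + a') b (rep a * rep a') (rep b) (H.mul_mem (hrepH a) (hrepH a')) (hrepH b)
      (by rw [map_mul, ← hrep, ← hrep]; rfl) (hrep b).symm]
    exact congrArg Additive.ofMul (Subtype.ext (hbil (hrepH a) (hrepH a') (hrepH b)))
  have hcr : ∀ a b b', c a (b + b') = c a b + c a b' := fun a b b' => by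
    rw [hc a (b + b') (rep a) (rep b * rep b') (hrepH a) (H.mul_mem (hrepH b) (hrepH b'))
      (hrep a).symm (by rw [map_mul, ← hrep, ← hrep]; rfl)]
    exact congrArg Additive.ofMul (Subtype.ext (hbil' (hrepH b) (hrepH b') (hrepH a)))
  have hzero : ∀ (χ : Module.Dual (ZMod p) (Additive Z)) (a b : (Additive B)), χ (c a b) = 0 := by
    intro χ
    let β : (Additive B) →ₗ[ZMod p] (Additive B) →ₗ[ZMod p] ZMod p :=
      (AddMonoidHom.mk' (fun a => (AddMonoidHom.mk' (fun b => χ (c a b))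
        (fun b b' => by rw [hcr, map_add])).toZModLinearMap p)
        (fun a a' => LinearMap.ext fun b => by
          show χ (c (a + a') b) = χ (c a b) + χ (c a' b)
          rw [hcl, map_add])).toZModLinearMap p
    have hβ := alt_eq_zero ρ U (D.odd.of_dvd_nat (Subgroup.card_subgroup_dvd_card U)) w D.hq
      (by have := D.three_le_q; omega) hdim hwq
      (fun v hv => by simpa using CoprimeAct.conj_mem_of_mem_normalizer (D.U_norm (W₁.inv_mem hw)) hv)
      (fun v hv => D.conj_U hw hv) ?_ ?_ β ?_ ?_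
    · intro a b
      exact congrFun (congrArg DFunLike.coe (congrFun (congrArg DFunLike.coe hβ) a)) b
    · intro S hSU hSw
      let S' : Subgroup B :=
        { carrier := {s | (Additive.ofMul s : (Additive B)) ∈ S}
          one_mem' := S.zero_mem
          mul_mem' := fun ha hb => S.add_mem ha hb
          inv_mem' := fun ha => S.neg_mem ha }
      set N := (S'.map B.subtype).comap f
      have hmemN : ∀ z : L, z ∈ N ↔ ∃ hz : f z ∈ B, (Additive.ofMul ⟨f z, hz⟩ : (Additive B)) ∈ S := by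
        intro z
        constructor
        · rintro ⟨s, hs, e⟩
          have hz : f z ∈ B := by rw [← e]; exact s.2
          refine ⟨hz, ?_⟩
          rw [show (⟨f z, hz⟩ : B) = s from Subtype.ext e.symm]
          exact hs
        · rintro ⟨hz, hs⟩; exact ⟨⟨f z, hz⟩, hs, rfl⟩
      have hnorm : ∀ g : L, (∀ a ∈ S, ρ g a ∈ S) → g ∈ Subgroup.normalizer (N : Set L) := by
        intro g hg
        refine CoprimeGen.mem_normalizer_of_map_conj_le ?_
        rintro _ ⟨z, hz, rfl⟩
        obtain ⟨hzB, hzS⟩ := (hmemN z).1 hz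
        refine (hmemN _).2 ⟨?_, ?_⟩
        · simp only [MulEquiv.coe_toMonoidHom, MulAut.conj_apply, map_mul, map_inv]
          exact hBn.conj_mem _ hzB _
        · convert hg _ hzS using 1
          refine congrArg Additive.ofMul (Subtype.ext ?_)
          simp only [MulEquiv.coe_toMonoidHom, MulAut.conj_apply, map_mul, map_inv]
          rfl
      have hNn : N.Normal := by
        refine normal_of_normalizer D.sup_top (fun h hh => hnorm h fun a ha => ?_)
          (fun v hv => hnorm v (hSU v hv)) (by rw [hWz]; exact Subgroup.zpowers_le.2 (hnorm w hSw))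
        convert ha using 1
        refine Additive.toMul.injective (Subtype.ext ?_)
        rw [hρ]
        have := congrArg Subtype.val (hBcomm ⟨f h, Subgroup.mem_map_of_mem f hh⟩ (Additive.toMul a))
        simp only [Subgroup.coe_mul] at this
        rw [this, mul_inv_cancel_right]
      have h0 : H₀ ≤ N := fun z hz => by
        have e : f z = 1 := by rw [← MonoidHom.mem_ker, hker]; exact hz
        exact ⟨1, S'.one_mem, e.symm⟩
      have hNH : N ≤ H := fun z hz => by
        obtain ⟨hzB, -⟩ := (hmemN z).1 hz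
        obtain ⟨h, hh, e⟩ := hzB
        have := hch.lt.le (QuotientGroup.eq.1 e)
        simpa using H.mul_mem hh this
      rcases hch.min N hNn h0 hNH with e | e
      · left
        rw [Submodule.eq_bot_iff]
        intro a ha
        obtain ⟨z, hz, ez⟩ := (Additive.toMul a : B).2
        have hzN : z ∈ N := (hmemN z).2 ⟨Subgroup.mem_map_of_mem f hz, by convert ha using 1; exact Additive.toMul.injective (Subtype.ext ez)⟩
        rw [e] at hzN
        refine Additive.toMul.injective (Subtype.ext ?_)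
        rw [← ez]
        show f z = 1
        rw [← MonoidHom.mem_ker, hker]; exact hzN
      · right
        rw [Submodule.eq_top_iff']
        intro a
        obtain ⟨z, hz, ez⟩ := (Additive.toMul a : B).2
        obtain ⟨hzB, hzS⟩ := (hmemN z).1 (e.ge hz)
        convert hzS using 1
        exact Additive.toMul.injective (Subtype.ext ez.symm)
    · intro a ha
      obtain ⟨z, hz, ez⟩ := (Additive.toMul a : B).2
      refine Additive.toMul.injective (Subtype.ext ?_)
      rw [← ez]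
      show f z = 1
      rw [← MonoidHom.mem_ker, hker]
      refine hch.fixed z hz fun v hv => ?_
      rw [← hker, MonoidHom.mem_ker]
      have h2 := hρ v a
      rw [ha v hv, ← ez] at h2
      simp only [map_mul, map_inv]
      rw [← h2, mul_inv_cancel]
    · intro a
      show χ (c a a) = 0
      have : c a a = 0 := congrArg Additive.ofMul (Subtype.ext (commutatorElement_self _))
      rw [this, map_zero]
    · intro v hv a b
      show χ (c (ρ v a) (ρ v b)) = χ (c a b)
      congr 1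
      rw [hc (ρ v a) (ρ v b) (v * rep a * v⁻¹) (v * rep b * v⁻¹) (D.H_normal.conj_mem _ (hrepH a) v)
        (D.H_normal.conj_mem _ (hrepH b) v) (by rw [hρ, hrep a]; simp) (by rw [hρ, hrep b]; simp)]
      refine congrArg Additive.ofMul (Subtype.ext ?_)
      show ⁅v * rep a * v⁻¹, v * rep b * v⁻¹⁆ = ⁅rep a, rep b⁆
      rw [show ⁅v * rep a * v⁻¹, v * rep b * v⁻¹⁆ = v * ⁅rep a, rep b⁆ * v⁻¹ from
          (map_commutatorElement (MulAut.conj v) _ _).symm,
        Subgroup.mem_centralizer_iff.1 (hcentU (hmem (hrepH a) (hrepH b))) v hv, mul_inv_cancel_right]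
  let a : (Additive B) := Additive.ofMul ⟨f x, Subgroup.mem_map_of_mem f hx⟩
  let b : (Additive B) := Additive.ofMul ⟨f y, Subgroup.mem_map_of_mem f hy⟩
  have h1 : c a b = 0 := (Module.forall_dual_apply_eq_zero_iff (ZMod p) (c a b)).1 fun χ => hzero χ a b
  rw [hc a b x y hx hy rfl rfl] at h1
  exact congrArg (fun t : Additive Z => ((Additive.toMul t : Z) : L)) h1

variable {τ : (L → ℂ) → (G → ℂ)} {R : (L → ℂ) → Finset (G → ℂ)}
  (hS : Cfsg.IsCoherenceSystem (Cfsg.inducedIrrAbove K ⊥) τ R)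
  (hnc : ¬ Cfsg.IsCoherent (Cfsg.inducedIrrAbove K ⊥) ({1}ᶜ : Set L) τ)
include hS hnc

/-- (11.3)-(11.7). -/
theorem facts : Facts K H U p q τ := by
  obtain ⟨H₀, hch⟩ := D.exists_chief
  haveI := hch.normal
  haveI := D.H_normal
  obtain ⟨hHU, hUc, hdK⟩ := D.der_facts hS hnc hch
  have hcomm : ∀ a ∈ H, ∀ b ∈ H, a * b = b * a := fun a ha b hb =>
    commutatorElement_eq_one_iff_mul_comm.1
      (D.commutator_eq_one hch (D.cent_chief hch) (D.chief_central hS hnc hch) ha hb)
  haveI hHc : IsMulCommutative H := ⟨⟨fun a b => Subtype.ext (hcomm a a.2 b b.2)⟩⟩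
  have hcU : H ⊓ Subgroup.centralizer (U : Set L) = ⊥ := by
    have h := CoprimeAct.centralizer_inf_commutator_eq_bot (A := U) (V := H) D.U_norm_H D.cop_U_H
    rwa [hHU, inf_right_comm, inf_idem] at h
  have h0 : H₀ = ⊥ := le_bot_iff.1 (hcU ▸ le_inf hch.lt.le (D.cent_chief hch))
  have hcq : cQuot H U H₀ = ⁅U, U⁆ := by rw [D.cQuot_eq hS hnc hch, hUc]
  refine ⟨⟨hHc, fun a ha => ?_⟩, ?_, hUc, hcU, hdK, hHU.symm, fun N hN hle => ?_, ?_, ?_, ?_⟩
  · have := D.pow_mem_chief hch ha
    rwa [h0, Subgroup.mem_bot] at this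
  · rw [← Subgroup.relIndex_bot_left, ← h0, hch.card]
  · have := hch.min N hN (h0 ▸ bot_le) hle
    rwa [h0] at this
  · have := D.not_coherent_sup_der hS hnc hch
    rwa [h0, bot_sup_eq] at this
  · rw [← hcq]; exact D.cQuot_relIndex_ne_one hch
  · rw [← hcq]; exact D.cQuot_modEq

end Struct

end Cfsg.Agent.OddChar.S11
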