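/-
Characters induced from a linear character of a normal subgroup, and linear characters trivial on a
subgroup containing the commutators.
-/
import Cfsg.Agent.Lib.Char.Clifford
import Cfsg.Agent.Lib.Char.InducedSet
import Cfsg.Agent.Lib.Char.CyclicTI.Basic

set_option autoImplicit false
set_option linter.unusedSectionVars false

namespace Cfsg.Agent.OddChar.S11

open Cfsg.Agent Cfsg.Agent.Char
open scoped Classical commutatorElement

universe u

variable {X : Type u} [Group X] [Fintype X] (D : Subgroup X)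

/-- A linear character as a function. -/
abbrev linf (f : D →* ℂˣ) : D → ℂ := fun d => (f d : ℂ)

theorem linf_irr (f : D →* ℂˣ) : Cfsg.IsIrrCharacter D (linf D f) := isIrrCharacter_linear f

/-- Unit complex numbers adding up to their number are all `1`. -/
theorem eq_one_of_sum_eq_card {ι : Type*} (s : Finset ι) (z : ι → ℂ) (hz : ∀ i ∈ s, ‖z i‖ = 1)
    (h : ∑ i ∈ s, z i = s.card) {i : ι} (hi : i ∈ s) : z i = 1 := by
  have hre : ∀ j ∈ s, (z j).re ≤ 1 := fun j hj => (Complex.re_le_norm _).trans (hz j hj).le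
  have hsum : ∑ j ∈ s, (z j).re = ∑ _j ∈ s, (1 : ℝ) := by
    rw [← Complex.re_sum, h]; simp
  have h1 := (Finset.sum_eq_sum_iff_of_le hre).1 hsum i hi
  refine Complex.ext h1 ?_
  have h2 := Complex.normSq_apply (z i)
  rw [Complex.normSq_eq_norm_sq, hz i hi, h1] at h2
  have : (z i).im * (z i).im = 0 := by linarith
  simpa using mul_self_eq_zero.1 this

variable [hD : D.Normal]

theorem isChar_indLin (f : D →* ℂˣ) : Cfsg.IsCharacter X (Cfsg.indFun D (linf D f)) :=
  isCharacter_indFun D (IsIrrCharacter.isCharacter (linf_irr D f))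

theorem indLin_one (f : D →* ℂˣ) : Cfsg.indFun D (linf D f) 1 = (D.index : ℂ) := by
  rw [indFun_one_apply]; simp [linf]

theorem isIrr_indLin {f : D →* ℂˣ} (h : ∀ x : X, conjChar D x (linf D f) = linf D f → x ∈ D) :
    Cfsg.IsIrrCharacter X (Cfsg.indFun D (linf D f)) := by
  refine IsCharacter.isIrr_of_norm_one (isChar_indLin D f) ?_
  have e : Nat.card {x : X // conjChar D x (linf D f) = linf D f} = Nat.card D :=
    Nat.card_congr (Equiv.subtypeEquivRight fun x => ⟨h x, fun hx =>
      conjChar_of_mem D (IsCharacter.isClassFunction (IsIrrCharacter.isCharacter (linf_irr D f))) hx⟩)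
  rw [classInner_indFun_normal D (linf_irr D f) (linf_irr D f), e,
    inv_mul_cancel₀ (Nat.cast_ne_zero.mpr Nat.card_pos.ne')]

theorem indLin_apply (f : D →* ℂˣ) (a : D) :
    Cfsg.indFun D (linf D f) a = (Nat.card D : ℂ)⁻¹ * ∑ x : X, (f (conjHom D x a) : ℂ) := by
  rw [indFun_normal_apply]; rfl

theorem indLin_eq_deg {f : D →* ℂˣ} {a : D} (h : ∀ x : X, f (conjHom D x a) = 1) :
    Cfsg.indFun D (linf D f) a = Cfsg.indFun D (linf D f) 1 := by
  rw [indLin_one, indLin_apply, Finset.sum_congr rfl fun x _ => by rw [h x, Units.val_one]]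
  rw [Finset.sum_const, Finset.card_univ, nsmul_one, ← Nat.card_eq_fintype_card, ← D.card_mul_index]
  push_cast
  field_simp

theorem eq_one_of_indLin_eq_deg {f : D →* ℂˣ} {a : D}
    (h : Cfsg.indFun D (linf D f) a = Cfsg.indFun D (linf D f) 1) : f a = 1 := by
  rw [indLin_one, indLin_apply, inv_mul_eq_iff_eq_mul₀ (Nat.cast_ne_zero.mpr Nat.card_pos.ne'),
    ← Nat.cast_mul, D.card_mul_index] at h
  have hn : ∀ x ∈ (Finset.univ : Finset X), ‖((f (conjHom D x a) : ℂˣ) : ℂ)‖ = 1 := fun x _ => by
    refine norm_eq_one_of_pow (Nat.card_pos (α := D)).ne' ?_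
    rw [← Units.val_pow_eq_pow_val, ← map_pow, pow_card_eq_one', map_one, Units.val_one]
  have := eq_one_of_sum_eq_card Finset.univ _ hn (by rw [h, Finset.card_univ, Nat.card_eq_fintype_card])
    (Finset.mem_univ (1 : X))
  rw [conjHom_one] at this
  exact Units.ext this

/-- The linear characters inducing to a given character are at most `|X : D|`. -/
theorem card_indLin_fiber (f : D →* ℂˣ) (s : Finset (D →* ℂˣ))
    (hs : ∀ g ∈ s, Cfsg.indFun D (linf D g) = Cfsg.indFun D (linf D f)) : s.card ≤ D.index := by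
  have hsub : s.card ≤ (conjOrbit D (linf D f)).card := by
    refine Finset.card_le_card_of_injOn (linf D) (fun g hg => ?_) (fun a _ b _ e => ?_)
    · obtain ⟨x, hx⟩ := (IndSet.ind_eq_iff D (linf_irr D f) (linf_irr D g)).1 (hs g hg).symm
      exact (mem_conjOrbit D).2 ⟨x, hx.symm⟩
    · exact MonoidHom.ext fun d => Units.ext (congrFun e d)
  refine hsub.trans ?_
  rw [card_conjOrbit]
  exact Nat.le_of_dvd (Nat.pos_of_ne_zero D.index_ne_zero_of_finite) (Subgroup.index_dvd_of_le
    (le_inertia D (IsCharacter.isClassFunction (IsIrrCharacter.isCharacter (linf_irr D f)))))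

omit hD in
theorem quot_comm (N : Subgroup D) [N.Normal] (hcomm : commutator D ≤ N) : IsMulCommutative (D ⧸ N) := by
  refine ⟨⟨fun a b => ?_⟩⟩
  obtain ⟨a, rfl⟩ := QuotientGroup.mk_surjective a
  obtain ⟨b, rfl⟩ := QuotientGroup.mk_surjective b
  rw [← QuotientGroup.mk_mul, ← QuotientGroup.mk_mul, QuotientGroup.eq]
  refine hcomm ?_
  have e : (a * b)⁻¹ * (b * a) = ⁅b⁻¹, a⁻¹⁆ := by simp [commutatorElement_def, mul_assoc]
  rw [e]
  exact Subgroup.commutator_mem_commutator (Subgroup.mem_top _) (Subgroup.mem_top _)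

omit hD in
/-- Linear characters trivial on a normal subgroup containing the commutators. -/
theorem card_hom_trivialOn (N : Subgroup D) [N.Normal] (hcomm : commutator D ≤ N) :
    Nat.card {f : D →* ℂˣ // ∀ a ∈ N, f a = 1} = N.index := by
  haveI : IsMulCommutative (D ⧸ N) := quot_comm D N hcomm
  rw [Subgroup.index_eq_card, ← CyclicTI.card_hom (H := D ⧸ N)]
  refine Nat.card_congr
    { toFun := fun f => QuotientGroup.lift N f.1 fun a ha => f.2 a ha
      invFun := fun g => ⟨g.comp (QuotientGroup.mk' N), fun a ha => by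
        rw [MonoidHom.comp_apply, QuotientGroup.mk'_apply, (QuotientGroup.eq_one_iff a).2 ha, map_one]⟩
      left_inv := fun f => Subtype.ext (MonoidHom.ext fun a => rfl)
      right_inv := fun g => MonoidHom.ext fun a => by
        obtain ⟨a, rfl⟩ := QuotientGroup.mk_surjective a
        rfl }

omit hD in
/-- A linear character separating an element from a normal subgroup containing the commutators. -/
theorem exists_hom_trivialOn (N : Subgroup D) [N.Normal] (hcomm : commutator D ≤ N) {h : D} (hh : h ∉ N) :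
    ∃ f : D →* ℂˣ, (∀ a ∈ N, f a = 1) ∧ f h ≠ 1 := by
  haveI : IsMulCommutative (D ⧸ N) := quot_comm D N hcomm
  obtain ⟨g, hg⟩ := CyclicTI.exists_hom_ne_one (H := D ⧸ N) (x := (h : D ⧸ N))
    fun e => hh ((QuotientGroup.eq_one_iff h).1 e)
  exact ⟨g.comp (QuotientGroup.mk' N), fun a ha => by
    rw [MonoidHom.comp_apply, QuotientGroup.mk'_apply, (QuotientGroup.eq_one_iff a).2 ha, map_one], hg⟩

end Cfsg.Agent.OddChar.S11
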