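/-
Peterfalvi, section 11: the characters induced from the derived subgroup that are trivial on `U'`.
-/
import Cfsg.Agent.Lib.OddChar.S11.Elementary
import Cfsg.Agent.Lib.OddChar.S11.Lin

set_option autoImplicit false
set_option linter.unusedSectionVars false

namespace Cfsg.Agent.OddChar.S11

open Cfsg.Agent Cfsg.Agent.Char
open scoped Classical commutatorElement

universe u v

variable {L : Type u} [Group L] [Fintype L] {G : Type v} [Group G] [Fintype G]

namespace Struct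

variable {K H U W₁ W₂ : Subgroup L} {p q : ℕ} (D : Struct K H U W₁ W₂ p q)
  {τ : (L → ℂ) → (G → ℂ)} (hf : Facts K H U p q τ)
include D

theorem normal_HC : (H ⊔ ⁅U, U⁆).Normal := by
  haveI := D.H_normal
  haveI := D.normal_der_U
  exact Subgroup.sup_normal _ _

theorem HC_le : H ⊔ ⁅U, U⁆ ≤ K := sup_le D.H_le ((Subgroup.commutator_le_self U).trans D.U_le)

theorem inf_H_der {x : L} (h1 : x ∈ H) (h2 : x ∈ (⁅U, U⁆ : Subgroup L)) : x = 1 := by
  have h : x ∈ H ⊓ U := ⟨h1, Subgroup.commutator_le_self U h2⟩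
  rwa [D.inf_HU, Subgroup.mem_bot] at h

theorem relIndex_HC : (H ⊔ ⁅U, U⁆).relIndex K = (⁅U, U⁆ : Subgroup L).relIndex U := by
  haveI := D.H_normal
  haveI := D.normal_HC
  have e : (H ⊔ ⁅U, U⁆).relIndex K = (H ⊔ ⁅U, U⁆).relIndex U := by
    conv_lhs => rw [← D.sup_HU, show H ⊔ U = U ⊔ (H ⊔ ⁅U, U⁆) by
      rw [← sup_assoc, sup_comm U H, sup_assoc, sup_eq_left.2 (Subgroup.commutator_le_self U)]]
    exact Subgroup.relIndex_sup_right _ _
  rw [e, ← Subgroup.inf_relIndex_right]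
  congr 1
  refine le_antisymm (fun x hx => ?_) (le_inf le_sup_right (Subgroup.commutator_le_self U))
  obtain ⟨h, hh, c, hc, rfl⟩ := Subgroup.mem_sup_of_normal_left.1 hx.1
  have : h ∈ H ⊓ U := ⟨hh, by simpa using U.mul_mem hx.2 (U.inv_mem (Subgroup.commutator_le_self U hc))⟩
  rw [D.inf_HU, Subgroup.mem_bot] at this
  rw [this, one_mul]; exact hc

theorem u_odd : Odd ((⁅U, U⁆ : Subgroup L).relIndex U) :=
  D.odd.of_dvd_nat ((Subgroup.relIndex_dvd_card _ _).trans (Subgroup.card_subgroup_dvd_card U))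

include hf

theorem u_form : ∃ n : ℕ, 2 ≤ n ∧ (⁅U, U⁆ : Subgroup L).relIndex U = 1 + n * q := by
  obtain ⟨m, hm⟩ := D.u_odd
  obtain ⟨k, hk⟩ := D.q_odd
  have h1 : 1 ≤ (⁅U, U⁆ : Subgroup L).relIndex U := by omega
  obtain ⟨n, hn⟩ := (Nat.modEq_iff_dvd' h1).1 hf.u_modEq.symm
  refine ⟨n, ?_, by rw [mul_comm]; omega⟩
  by_contra hlt
  rcases Nat.lt_or_ge n 1 with h | h
  · have : n = 0 := by omega
    subst this
    exact hf.u_ne_one (by omega)
  · have : n = 1 := by omega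
    subst this
    omega

theorem comm_HC {x y : L} (hx : x ∈ H ⊔ ⁅U, U⁆) (hy : y ∈ H ⊔ ⁅U, U⁆) :
    x * y * x⁻¹ * y⁻¹ ∈ (⁅U, U⁆ : Subgroup L) := by
  haveI := D.normal_der_U
  refine (commutator_sup_le' (A := H) (B := ⁅U, U⁆) ?_ ?_ (Subgroup.commutator_le_self _))
    (Subgroup.commutator_mem_commutator hx hy)
  · rw [Subgroup.commutator_le]
    intro a ha b hb
    haveI := hf.elem.1
    rw [commutatorElement_eq_one_iff_mul_comm.2 (congrArg Subtype.val (mul_comm' (⟨a, ha⟩ : H) ⟨b, hb⟩))]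
    exact one_mem _
  · rw [Subgroup.commutator_le]
    intro a ha b hb
    rw [commutatorElement_eq_one_iff_mul_comm.2 (Subgroup.mem_centralizer_iff.1 (D.der_U hb) a ha)]
    exact one_mem _

theorem deg_le [K.Normal] {θ : K → ℂ} (hθ : Cfsg.IsIrrCharacter K θ)
    (hker : ∀ a : K, (a : L) ∈ (⁅U, U⁆ : Subgroup L) → θ a = θ 1) {d : ℕ} (hd : θ 1 = d) :
    d ≤ (⁅U, U⁆ : Subgroup L).relIndex U := by
  haveI := D.normal_der_U
  have h := IndSet.degree_sq_le (K := K) (B := ⁅U, U⁆) (C := H ⊔ ⁅U, U⁆) (D := H ⊔ ⁅U, U⁆) D.HC_le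
    (fun x hx y hy => D.comm_HC hf hx hy) hθ hker hd
  rw [Subgroup.relIndex_self, mul_one, D.relIndex_HC] at h
  exact (Nat.pow_le_pow_iff_left two_ne_zero).1 h

theorem deg_SC [K.Normal] {φ : L → ℂ} (hφ : φ ∈ Cfsg.inducedIrrAbove K ⁅U, U⁆) :
    ∃ d : ℕ, d ≤ (⁅U, U⁆ : Subgroup L).relIndex U ∧ φ 1 = ((q * d : ℕ) : ℂ) := by
  obtain ⟨θ, hθ, -, hker, rfl⟩ := hφ
  obtain ⟨d, -, hd⟩ := IsIrrCharacter.exists_degree hθ
  refine ⟨d, D.deg_le hf hθ hker hd, ?_⟩
  rw [indFun_one_apply, D.index_K, hd]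
  push_cast; rfl

/-- An invariant irreducible character of degree `u` that is trivial on `U'`. -/
theorem exists_theta [K.Normal] : ∃ θ : K → ℂ, Cfsg.IsIrrCharacter K θ ∧
    θ 1 = (((⁅U, U⁆ : Subgroup L).relIndex U : ℕ) : ℂ) ∧
    (∀ a : K, (a : L) ∈ (⁅U, U⁆ : Subgroup L) → θ a = θ 1) ∧ θ ≠ (fun _ => 1) ∧
    ∀ g : L, conjChar K g θ = θ := by
  haveI hHn := D.H_normal
  haveI hCn := D.normal_der_U
  haveI hDn := D.normal_HC
  haveI := hf.elem.1
  set C : Subgroup L := ⁅U, U⁆ with hCdef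
  set N₁ : Subgroup L := ⁅H, W₁⁆ with hN₁def
  have hN₁H : N₁ ≤ H := CoprimeAct.commutator_le_left (Subgroup.le_normalizer_of_normal)
  set D₀ := (H ⊔ C).subgroupOf K with hD₀
  haveI : D₀.Normal := inferInstance
  set N : Subgroup D₀ := ((C ⊔ N₁).subgroupOf K).subgroupOf D₀ with hNdef
  have hmemN : ∀ a : D₀, a ∈ N ↔ ((a : K) : L) ∈ C ⊔ N₁ := fun a => Iff.rfl
  have hcomm : commutator D₀ ≤ N := by
    rw [_root_.commutator, Subgroup.commutator_le]
    intro a _ b _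
    rw [hmemN]
    exact Subgroup.mem_sup_left (by simpa [commutatorElement_def] using D.comm_HC hf a.2 b.2)
  haveI : N.Normal := ⟨fun n hn g => by
    have h : g * n * g⁻¹ = ⁅g, n⁆ * n := by simp [commutatorElement_def]
    rw [h]
    exact N.mul_mem (hcomm (Subgroup.commutator_mem_commutator (Subgroup.mem_top _) (Subgroup.mem_top _))) hn⟩
  obtain ⟨w, hw, hw1⟩ := (Subgroup.bot_or_exists_ne_one W₂).resolve_left D.semi.ne2
  have hwH : w ∈ H := D.W₂_le hw
  have hwN : (⟨⟨w, D.semi.le hw⟩, Subgroup.mem_sup_left hwH⟩ : D₀) ∉ N := by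
    rw [hmemN]
    intro hmem
    obtain ⟨c, hc, n, hn, e⟩ := Subgroup.mem_sup_of_normal_left.1 hmem
    have hc1 : c = 1 := D.inf_H_der (by
      have := H.mul_mem hwH (H.inv_mem (hN₁H hn))
      simp only at e
      rw [← e] at this
      simpa using this) hc
    simp only [hc1, one_mul] at e
    have h0 := CoprimeAct.centralizer_inf_commutator_eq_bot (A := W₁) (V := H)
      Subgroup.le_normalizer_of_normal D.cop_W₁_H
    refine hw1 (Subgroup.mem_bot.1 (h0 ▸ ?_))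
    exact ⟨⟨hwH, Subgroup.mem_centralizer_iff.2 fun x hx => D.W₁_comm_W₂ hx hw⟩, e ▸ hn⟩
  obtain ⟨f, hfN, hfw⟩ := exists_hom_trivialOn D₀ N hcomm hwN
  set ev : L → ℂˣ := fun x => if h : x ∈ H ⊔ C then f ⟨⟨x, D.HC_le h⟩, h⟩ else 1 with hevdef
  have hev : ∀ a : D₀, ev ((a : K) : L) = f a := fun a => dif_pos a.2
  have hevmul : ∀ x ∈ H ⊔ C, ∀ y ∈ H ⊔ C, ev (x * y) = ev x * ev y := fun x hx y hy => by
    simp only [hevdef]
    rw [dif_pos hx, dif_pos hy, dif_pos ((H ⊔ C).mul_mem hx hy), ← map_mul]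
    rfl
  have hevker : ∀ x ∈ C ⊔ N₁, ev x = 1 := fun x hx => by
    have hx' : x ∈ H ⊔ C := sup_le le_sup_right (hN₁H.trans le_sup_left) hx
    simp only [hevdef]
    rw [dif_pos hx']
    exact hfN _ hx
  have hevinv : ∀ x ∈ H ⊔ C, ev x⁻¹ = (ev x)⁻¹ := fun x hx => by
    refine eq_inv_of_mul_eq_one_left ?_
    rw [← hevmul _ (inv_mem hx) _ hx, inv_mul_cancel]
    exact hevker 1 (one_mem _)
  have hevconj : ∀ x ∈ H ⊔ C, ∀ y ∈ H ⊔ C, ev (x * y * x⁻¹) = ev y := fun x hx y hy => by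
    rw [hevmul _ (mul_mem hx hy) _ (inv_mem hx), hevmul _ hx _ hy, hevinv _ hx, mul_comm (ev x),
      mul_inv_cancel_right]
  have hevW : ∀ e ∈ W₁, ∀ y ∈ H ⊔ C, ev (e * y * e⁻¹) = ev y := by
    intro e he y hy
    obtain ⟨h, hh, c, hc, rfl⟩ := Subgroup.mem_sup_of_normal_left.1 hy
    have e1 : e * (h * c) * e⁻¹ = ⁅e, h⁆ * h * (e * c * e⁻¹) := by simp [commutatorElement_def, mul_assoc]
    have hn : ⁅e, h⁆ ∈ N₁ := by
      rw [hN₁def, Subgroup.commutator_comm]; exact Subgroup.commutator_mem_commutator he hh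
    have hec : e * c * e⁻¹ ∈ C := hCn.conj_mem c hc e
    rw [e1, hevmul _ (mul_mem (Subgroup.mem_sup_left (hN₁H hn)) (Subgroup.mem_sup_left hh)) _
        (Subgroup.mem_sup_right hec), hevmul _ (Subgroup.mem_sup_left (hN₁H hn)) _ (Subgroup.mem_sup_left hh),
      hevker _ (Subgroup.mem_sup_right hn), hevker _ (Subgroup.mem_sup_left hec), one_mul, mul_one,
      hevmul _ (Subgroup.mem_sup_left hh) _ (Subgroup.mem_sup_right hc), hevker c (Subgroup.mem_sup_left hc), mul_one]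
  have hHmem : ∀ {x : L}, x ∈ H → ∀ v : L, v * x * v⁻¹ ∈ H := fun hx v => hHn.conj_mem _ hx v
  let T : Subgroup L :=
    { carrier := {v | v ∈ U ∧ ∀ x ∈ H, ev (v * x * v⁻¹) = ev x}
      one_mem' := ⟨U.one_mem, fun x _ => by simp⟩
      mul_mem' := fun {a b} ha hb => ⟨U.mul_mem ha.1 hb.1, fun x hx => by
        rw [show a * b * x * (a * b)⁻¹ = a * (b * x * b⁻¹) * a⁻¹ by group, ha.2 _ (hHmem hx b), hb.2 x hx]⟩
      inv_mem' := fun {a} ha => ⟨U.inv_mem ha.1, fun x hx => by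
        have := ha.2 _ (hHmem hx a⁻¹)
        rw [show a * (a⁻¹ * x * a⁻¹⁻¹) * a⁻¹ = x by group] at this
        exact this.symm⟩ }
  have hTU : T ≤ U := fun v hv => hv.1
  have hCT : C ≤ T := fun v hv => ⟨Subgroup.commutator_le_self U hv, fun x hx => by
    rw [show v * x * v⁻¹ = x by rw [← Subgroup.mem_centralizer_iff.1 (D.der_U hv) x hx, mul_inv_cancel_right]]⟩
  have hTC : T ≤ C := by
    have hnU : ∀ g ∈ U, g ∈ Subgroup.normalizer (T : Set L) := fun g hg => by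
      refine CoprimeGen.mem_normalizer_of_map_conj_le ?_
      rintro _ ⟨v, hv, rfl⟩
      show g * v * g⁻¹ ∈ T
      rw [show g * v * g⁻¹ = ⁅g, v⁆ * v by simp [commutatorElement_def]]
      exact T.mul_mem (hCT (Subgroup.commutator_mem_commutator hg (hTU hv))) hv
    have hnW : ∀ g ∈ W₁, g ∈ Subgroup.normalizer (T : Set L) := fun g hg => by
      refine CoprimeGen.mem_normalizer_of_map_conj_le ?_
      rintro _ ⟨v, hv, rfl⟩
      refine ⟨D.conj_U hg (hTU hv), fun x hx => ?_⟩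
      show ev (g * v * g⁻¹ * x * (g * v * g⁻¹)⁻¹) = ev x
      have hx' := hHmem hx g⁻¹
      rw [show g * v * g⁻¹ * x * (g * v * g⁻¹)⁻¹ = g * (v * (g⁻¹ * x * g⁻¹⁻¹) * v⁻¹) * g⁻¹ by group,
        hevW g hg _ (Subgroup.mem_sup_left (hHmem hx' v)), hv.2 _ hx',
        hevW g⁻¹ (W₁.inv_mem hg) x (Subgroup.mem_sup_left hx)]
    haveI hNn : (⁅H, T⁆ : Subgroup L).Normal :=
      normal_of_normalizer D.sup_top (Subgroup.normalizer_commutator_ge_left H T)
        (fun g hg => CoprimeGen.mem_normalizer_commutator_of_mem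
          (Subgroup.le_normalizer_of_normal (Subgroup.mem_top g)) (hnU g hg))
        (fun g hg => CoprimeGen.mem_normalizer_commutator_of_mem
          (Subgroup.le_normalizer_of_normal (Subgroup.mem_top g)) (hnW g hg))
    have hTH : T ≤ Subgroup.normalizer (H : Set L) := hTU.trans D.U_norm_H
    rcases hf.min _ hNn (CoprimeAct.commutator_le_left hTH) with h | h
    · rw [hCdef, ← hf.cent_H]
      refine le_inf hTU ?_
      rwa [← Subgroup.commutator_eq_bot_iff_le_centralizer, Subgroup.commutator_comm]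
    · exfalso
      let N₂ : Subgroup L :=
        { carrier := {x | x ∈ H ∧ ev x = 1}
          one_mem' := ⟨H.one_mem, hevker 1 (one_mem _)⟩
          mul_mem' := fun {a b} ha hb => ⟨H.mul_mem ha.1 hb.1, by
            rw [hevmul _ (Subgroup.mem_sup_left ha.1) _ (Subgroup.mem_sup_left hb.1), ha.2, hb.2, one_mul]⟩
          inv_mem' := fun {a} ha => ⟨H.inv_mem ha.1, by
            rw [hevinv _ (Subgroup.mem_sup_left ha.1), ha.2, inv_one]⟩ }
      have hle : ⁅H, T⁆ ≤ N₂ := Subgroup.commutator_le.2 fun x hx v hv => by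
        have hv' := hHmem (H.inv_mem hx) v
        refine ⟨?_, ?_⟩
        · rw [show ⁅x, v⁆ = x * (v * x⁻¹ * v⁻¹) by simp [commutatorElement_def, mul_assoc]]
          exact H.mul_mem hx hv'
        · rw [show ⁅x, v⁆ = x * (v * x⁻¹ * v⁻¹) by simp [commutatorElement_def, mul_assoc],
            hevmul _ (Subgroup.mem_sup_left hx) _ (Subgroup.mem_sup_left hv'), hv.2 _ (H.inv_mem hx),
            hevinv _ (Subgroup.mem_sup_left hx), mul_inv_cancel]
      refine hfw ?_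
      rw [← hev]
      exact ((h ▸ hle) hwH).2
  have hirr : Cfsg.IsIrrCharacter K (Cfsg.indFun D₀ (linf D₀ f)) := by
    refine isIrr_indLin D₀ fun k hk => ?_
    obtain ⟨h, hh, v, hv, e⟩ := Subgroup.mem_sup_of_normal_left.1 (show (k : L) ∈ H ⊔ U by rw [D.sup_HU]; exact k.2)
    have hvT : v ∈ T := ⟨hv, fun x hx => by
      have h1 := congrFun hk (⟨⟨x, D.H_le hx⟩, Subgroup.mem_sup_left hx⟩ : D₀)
      have h2 : f (conjHom D₀ k ⟨⟨x, D.H_le hx⟩, Subgroup.mem_sup_left hx⟩) =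
          f ⟨⟨x, D.H_le hx⟩, Subgroup.mem_sup_left hx⟩ := Units.ext h1
      rw [← hev, ← hev] at h2
      change ev ((k : L) * x * (k : L)⁻¹) = ev x at h2
      rw [← e, show h * v * x * (h * v)⁻¹ = h * (v * x * v⁻¹) * h⁻¹ by group,
        hevconj _ (Subgroup.mem_sup_left hh) _ (Subgroup.mem_sup_left (hHmem hx v))] at h2
      exact h2⟩
    show (k : L) ∈ H ⊔ C
    rw [← e]
    exact Subgroup.mul_mem_sup hh (hTC hvT)
  have hdeg : Cfsg.indFun D₀ (linf D₀ f) 1 = ((C.relIndex U : ℕ) : ℂ) := by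
    rw [indLin_one, show D₀.index = (H ⊔ C).relIndex K from rfl, D.relIndex_HC]
  refine ⟨_, hirr, hdeg, fun a ha => ?_, fun e => ?_, ?_⟩
  · rw [show a = ((⟨a, Subgroup.mem_sup_right ha⟩ : D₀) : K) from rfl]
    refine indLin_eq_deg D₀ fun x => ?_
    rw [← hev]
    exact hevker _ (Subgroup.mem_sup_left (hCn.conj_mem _ ha _))
  · have := congrFun e 1
    rw [hdeg] at this
    exact hf.u_ne_one (by exact_mod_cast this)
  · refine D.semi.invariant_of_W1 (IsCharacter.isClassFunction (IsIrrCharacter.isCharacter hirr))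
      fun e he => funext fun a => ?_
    show Cfsg.indFun D₀ (linf D₀ f) (conjHom K e a) = _
    by_cases ha : (a : L) ∈ H ⊔ C
    · show Cfsg.indFun D₀ (linf D₀ f) ((⟨conjHom K e a, hDn.conj_mem _ ha e⟩ : D₀) : K) =
        Cfsg.indFun D₀ (linf D₀ f) ((⟨a, ha⟩ : D₀) : K)
      rw [indLin_apply, indLin_apply]
      congr 1
      have hKn : K.Normal := inferInstance
      refine Fintype.sum_equiv
        { toFun := fun x => conjHom K e⁻¹ x
          invFun := fun x => conjHom K e x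
          left_inv := fun x => by simp only [← conjHom_mul, mul_inv_cancel, conjHom_one]
          right_inv := fun x => by simp only [← conjHom_mul, inv_mul_cancel, conjHom_one] } _ _ fun x => ?_
      refine congrArg Units.val ?_
      rw [← hev, ← hev]
      set z : L := e⁻¹ * (x : L) * e⁻¹⁻¹ * (a : L) * (e⁻¹ * (x : L) * e⁻¹⁻¹)⁻¹ with hz
      show ev ((x : L) * (e * (a : L) * e⁻¹) * (x : L)⁻¹) = ev z
      rw [show (x : L) * (e * (a : L) * e⁻¹) * (x : L)⁻¹ = e * z * e⁻¹ by rw [hz]; group]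
      exact hevW e he z (hDn.conj_mem _ ha _)
    · rw [indFun_eq_zero_of_not_mem D₀ _ (show a ∉ D₀ from ha),
        indFun_eq_zero_of_not_mem D₀ _ (show conjHom K e a ∉ D₀ from fun h => ha ?_)]
      have := hDn.conj_mem _ h e⁻¹
      simpa [mul_assoc] using this

/-- The characters over `H U'`. -/
theorem exists_X0 [K.Normal] : ∃ X : Finset (L → ℂ), (↑X : Set (L → ℂ)) = Cfsg.inducedIrrAbove K ⁅K, K⁆ ∧
    (∀ φ ∈ X, Cfsg.IsIrrCharacter L φ ∧ φ 1 = (q : ℂ)) ∧
    X.card * q + 1 = (⁅U, U⁆ : Subgroup L).relIndex U := by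
  haveI : (⁅K, K⁆ : Subgroup L).Normal := Subgroup.commutator_normal K K
  set X := (IndSet.over K ⁅K, K⁆).image (fun θ : Cfsg.IrrCharacter K => Cfsg.indFun K (θ : K → ℂ)) with hX
  have hset : (↑X : Set (L → ℂ)) = Cfsg.inducedIrrAbove K ⁅K, K⁆ := by
    ext φ
    rw [IndSet.mem_above_iff_exists]
    simp [hX]
  have hall : ∀ φ ∈ Cfsg.inducedIrrAbove K ⁅K, K⁆, Cfsg.IsIrrCharacter L φ ∧ φ 1 = (q : ℂ) := by
    rintro φ ⟨θ, hθ, hθ1, hker, rfl⟩
    obtain ⟨h1, h2⟩ := D.irr_over_der hθ hθ1 hker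
    exact ⟨h2, by rw [indFun_one_apply, D.index_K, h1, mul_one]⟩
  refine ⟨X, hset, fun φ hφ => hall φ (hset ▸ hφ), ?_⟩
  have h := IndSet.sum_above K ⁅K, K⁆ (fun _ => q) (fun _ => 1) (fun φ hφ => (hall φ hφ).2)
    (fun φ hφ => by rw [classInner_self_irr (hall φ hφ).1, Nat.cast_one])
  have hu : (⁅K, K⁆ : Subgroup L).relIndex K = (⁅U, U⁆ : Subgroup L).relIndex U := by
    rw [hf.der_K, D.relIndex_HC]
  rw [hu, D.index_K, Finset.sum_const, nsmul_eq_mul, ← hX] at h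
  have hq : (0 : ℝ) < q := by exact_mod_cast D.hq.pos
  have h' : (X.card : ℝ) * q + 1 = ((⁅U, U⁆ : Subgroup L).relIndex U : ℝ) := by
    rw [Nat.cast_one, div_one] at h
    have := mul_left_cancel₀ hq.ne' (show (q : ℝ) * ((X.card : ℝ) * q) = q * (((⁅U, U⁆ : Subgroup L).relIndex U : ℝ) - 1) by rw [← h]; ring)
    linarith
  exact_mod_cast h'

end Struct

end Cfsg.Agent.OddChar.S11
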