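/-
Counting lemmas for integer coefficient arrays of the form `r l + s k`, as they arise from inner products
with a family attached to a cyclic subgroup (used in Peterfalvi, section 11).
-/
import Mathlib.Algebra.Order.BigOperators.Group.Finset
import Mathlib.Algebra.BigOperators.Fin
import Mathlib.Algebra.BigOperators.Ring.Finset
import Mathlib.Algebra.Order.Ring.Int
import Mathlib.Data.Fintype.Card
import Mathlib.Tactic.Linarith
import Mathlib.Tactic.Ring

set_option autoImplicit false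

namespace Cfsg.Agent.OddChar.S11

open Finset

variable {ι κ : Type*} [Fintype ι] [Fintype κ] [DecidableEq ι] [DecidableEq κ]

theorem exists_ne_two (h : 3 ≤ Fintype.card ι) (a b : ι) : ∃ c, c ≠ a ∧ c ≠ b := by
  by_contra hc
  push Not at hc
  have hsub : (univ : Finset ι) ⊆ {a, b} := fun c _ => by
    by_cases hca : c = a
    · simp [hca]
    · simp [hc c hca]
  have := card_le_card hsub
  rw [card_univ] at this
  have h2 : ({a, b} : Finset ι).card ≤ 2 := card_le_two
  omega

theorem one_le_sum_sq (f : ι → ℤ) {a : ι} (ha : f a ≠ 0) : 1 ≤ ∑ l, f l ^ 2 :=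
  le_trans (by nlinarith [mul_self_pos.mpr ha]) (single_le_sum (fun l _ => sq_nonneg (f l)) (mem_univ a))

theorem pair_le_sum {f : ι → ℤ} (hf : ∀ l, 0 ≤ f l) {a b : ι} (hab : a ≠ b) : f a + f b ≤ ∑ l, f l := by
  rw [← sum_pair hab]
  exact sum_le_sum_of_subset_of_nonneg (subset_univ _) fun l _ _ => hf l

theorem triple_le_sum {f : ι → ℤ} (hf : ∀ l, 0 ≤ f l) {a b c : ι} (hab : a ≠ b) (hac : a ≠ c) (hbc : b ≠ c) :
    f a + f b + f c ≤ ∑ l, f l := by
  refine le_trans (le_of_eq ?_) (sum_le_sum_of_subset_of_nonneg (subset_univ {a, b, c}) fun l _ _ => hf l)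
  rw [sum_insert (by simp [hab, hac]), sum_pair hbc]
  ring

/-- An additive array with few squares is zero. -/
theorem additive_small (hι : 3 ≤ Fintype.card ι) (hκ : 3 ≤ Fintype.card κ) (r : ι → ℤ) (s : κ → ℤ)
    (h : ∑ l, ∑ k, (r l + s k) ^ 2 ≤ 2) (l : ι) (k : κ) : r l + s k = 0 := by
  by_contra hne
  by_cases hr : ∀ l', r l' = r l
  · obtain ⟨l₁, hl₁, -⟩ := exists_ne_two hι l l
    obtain ⟨l₂, hl₂, hl₂'⟩ := exists_ne_two hι l l₁
    have h3 := triple_le_sum (f := fun x => ∑ y, (r x + s y) ^ 2) (fun x => sum_nonneg fun y _ => sq_nonneg _)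
      hl₁.symm hl₂.symm hl₂'.symm
    simp only [hr l₁, hr l₂] at h3
    have := one_le_sum_sq (fun y => r l + s y) (a := k) hne
    omega
  · push Not at hr
    obtain ⟨l', hl'⟩ := hr
    rw [sum_comm] at h
    have hcol : ∀ y, (1 : ℤ) ≤ ∑ x, (r x + s y) ^ 2 := fun y => by
      by_cases h0 : r l + s y = 0
      · exact one_le_sum_sq (fun x => r x + s y) (a := l') (by omega)
      · exact one_le_sum_sq (fun x => r x + s y) (a := l) h0
    have : ∑ _y : κ, (1 : ℤ) ≤ ∑ y, ∑ x, (r x + s y) ^ 2 := sum_le_sum fun y _ => hcol y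
    simp only [sum_const, card_univ, nsmul_eq_mul, mul_one] at this
    omega

/-- The array with entries `1`, `-1` at two places of one row. -/
def pairArr (i : ι) (a b : κ) (l : ι) (k : κ) : ℤ :=
  (if l = i ∧ k = a then 1 else 0) - if l = i ∧ k = b then 1 else 0

theorem pairArr_swap (i : ι) (a b : κ) (l : ι) (k : κ) : pairArr i b a l k = -pairArr i a b l k := by
  simp [pairArr]

theorem pairArr_off (i : ι) {a b k : κ} (ha : k ≠ a) (hb : k ≠ b) (l : ι) : pairArr i a b l k = 0 := by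
  simp [pairArr, ha, hb]

theorem pairArr_left (i : ι) {a b : κ} (hab : a ≠ b) (l : ι) :
    pairArr i a b l a = if l = i then 1 else 0 := by
  simp [pairArr, hab]

theorem pairArr_right (i : ι) {a b : κ} (hab : a ≠ b) (l : ι) :
    pairArr i a b l b = if l = i then -1 else 0 := by
  simp [pairArr, hab.symm]; split_ifs <;> rfl

/-- An additive perturbation of a difference of two places of one row with few squares is trivial. -/
theorem additive_pair (hι : 3 ≤ Fintype.card ι) (hκ : 3 ≤ Fintype.card κ) (r : ι → ℤ) (s : κ → ℤ) (i : ι)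
    {a b : κ} (hab : a ≠ b) (h : ∑ l, ∑ k, (r l + s k + pairArr i a b l k) ^ 2 ≤ 2) (l : ι) (k : κ) :
    r l + s k = 0 := by
  rw [sum_comm] at h
  set col : κ → ℤ := fun y => ∑ x, (r x + s y + pairArr i a b x y) ^ 2 with hcoldef
  have hnn : ∀ y, 0 ≤ col y := fun y => sum_nonneg fun x _ => sq_nonneg _
  obtain ⟨l₁, hl₁, -⟩ := exists_ne_two hι i i
  obtain ⟨l₂, hl₂, hl₂'⟩ := exists_ne_two hι i l₁
  by_cases hr : ∀ x, r x = r i
  · have hoff : ∀ y, y ≠ a → y ≠ b → 3 * (r i + s y) ^ 2 ≤ col y := fun y ha hb => by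
      refine le_trans ?_ (triple_le_sum (fun x => sq_nonneg _) hl₁.symm hl₂.symm hl₂'.symm)
      simp only [pairArr_off i ha hb, hr l₁, hr l₂]; ring_nf; rfl
    have hA : 2 * (r i + s a) ^ 2 + (r i + s a + 1) ^ 2 ≤ col a := by
      refine le_trans ?_ (triple_le_sum (fun x => sq_nonneg _) hl₁.symm hl₂.symm hl₂'.symm)
      simp only [pairArr_left i hab, hr l₁, hr l₂, if_neg hl₁, if_neg hl₂, if_true]; ring_nf; rfl
    have hB : 2 * (r i + s b) ^ 2 + (r i + s b - 1) ^ 2 ≤ col b := by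
      refine le_trans ?_ (triple_le_sum (fun x => sq_nonneg _) hl₁.symm hl₂.symm hl₂'.symm)
      simp only [pairArr_right i hab, hr l₁, hr l₂, if_neg hl₁, if_neg hl₂, if_true]; ring_nf; rfl
    have hab2 := pair_le_sum hnn hab
    have hA1 : 1 ≤ 2 * (r i + s a) ^ 2 + (r i + s a + 1) ^ 2 := by
      nlinarith [sq_nonneg (r i + s a), sq_nonneg (3 * (r i + s a) + 1)]
    have hB1 : 1 ≤ 2 * (r i + s b) ^ 2 + (r i + s b - 1) ^ 2 := by
      nlinarith [sq_nonneg (r i + s b), sq_nonneg (3 * (r i + s b) - 1)]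
    rw [hr l]
    by_contra hk
    have hk1 : 1 ≤ (r i + s k) ^ 2 := by nlinarith [mul_self_pos.mpr hk]
    by_cases hka : k = a
    · subst hka
      have : 2 ≤ 2 * (r i + s k) ^ 2 + (r i + s k + 1) ^ 2 := by nlinarith [sq_nonneg (r i + s k + 1)]
      linarith
    · by_cases hkb : k = b
      · subst hkb
        have : 2 ≤ 2 * (r i + s k) ^ 2 + (r i + s k - 1) ^ 2 := by nlinarith [sq_nonneg (r i + s k - 1)]
        linarith
      · have h3 := triple_le_sum hnn hab (Ne.symm hka) (Ne.symm hkb)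
        have := hoff k hka hkb
        linarith
  · exfalso
    push Not at hr
    obtain ⟨l', hl'⟩ := hr
    have hoff : ∀ y, y ≠ a → y ≠ b → 1 ≤ col y := fun y ha hb => by
      by_cases h0 : r i + s y = 0
      · exact one_le_sum_sq (fun x => r x + s y + pairArr i a b x y) (a := l')
          (by simp only [pairArr_off i ha hb]; omega)
      · exact one_le_sum_sq (fun x => r x + s y + pairArr i a b x y) (a := i)
          (by simp only [pairArr_off i ha hb]; omega)
    obtain ⟨c, hca, hcb⟩ := exists_ne_two hκ a b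
    have h3 := triple_le_sum hnn hab hca.symm hcb.symm
    have hc1 := hoff c hca hcb
    by_cases hA : ∀ x, r x + s a + pairArr i a b x a = 0
    · have hA0 : col a = 0 := sum_eq_zero fun x _ => by rw [hA x]; rfl
      have hB2 : 2 ≤ col b := by
        have e1 := hA i
        have e2 := hA l₁
        have e3 := hA l₂
        rw [pairArr_left i hab, if_pos rfl] at e1
        rw [pairArr_left i hab, if_neg hl₁] at e2
        rw [pairArr_left i hab, if_neg hl₂] at e3
        refine le_trans ?_ (triple_le_sum (fun x => sq_nonneg _) hl₁.symm hl₂.symm hl₂'.symm)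
        simp only [pairArr_right i hab, if_neg hl₁, if_neg hl₂, if_true]
        nlinarith [sq_nonneg (r l₁ + s b), sq_nonneg (r l₁ + s b - 1)]
      linarith
    · by_cases hB : ∀ x, r x + s b + pairArr i a b x b = 0
      · have hB0 : col b = 0 := sum_eq_zero fun x _ => by rw [hB x]; rfl
        have hA2 : 2 ≤ col a := by
          have e1 := hB i
          have e2 := hB l₁
          have e3 := hB l₂
          rw [pairArr_right i hab, if_pos rfl] at e1
          rw [pairArr_right i hab, if_neg hl₁] at e2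
          rw [pairArr_right i hab, if_neg hl₂] at e3
          refine le_trans ?_ (triple_le_sum (fun x => sq_nonneg _) hl₁.symm hl₂.symm hl₂'.symm)
          simp only [pairArr_left i hab, if_neg hl₁, if_neg hl₂, if_true]
          nlinarith [sq_nonneg (r l₁ + s a), sq_nonneg (r l₁ + s a + 1)]
        linarith
      · push Not at hA hB
        obtain ⟨x, hx⟩ := hA
        obtain ⟨y, hy⟩ := hB
        have h1 : 1 ≤ col a := one_le_sum_sq (fun x => r x + s a + pairArr i a b x a) hx
        have h2 : 1 ≤ col b := one_le_sum_sq (fun x => r x + s b + pairArr i a b x b) hy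
        linarith

/-- The two possible shapes of the array of `τ (μ₀ - ζ)`. -/
theorem psi_cases (hκ : 3 ≤ Fintype.card κ) (i₀ : ι) (k₀ : κ) (r : ι → ℤ) (s : κ → ℤ) (hr : r i₀ = 1)
    (hs : s k₀ = 1) (T : ℤ) (hT : 1 ≤ T)
    (h : ∑ l, ∑ k, (r l + s k - 1) ^ 2 + T ≤ (Fintype.card ι : ℤ) + 1) :
    ((∀ l k, r l + s k - 1 = if k = k₀ then 1 else 0) ∧ T = 1) ∨
      ((∀ k, s k = 1) ∧
        (Fintype.card κ : ℤ) * (∑ l ∈ univ.erase i₀, r l ^ 2) + (Fintype.card κ : ℤ) ≤ Fintype.card ι) := by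
  set row : ι → ℤ := fun l => ∑ k, (r l + s k - 1) ^ 2 with hrow
  have hsplit : ∀ l, row l = r l ^ 2 + ∑ k ∈ univ.erase k₀, (r l + s k - 1) ^ 2 := fun l => by
    show ∑ k, (r l + s k - 1) ^ 2 = _
    rw [← add_sum_erase _ _ (mem_univ k₀)]
    simp [hs]
  have htot : ∑ l, row l = row i₀ + ∑ l ∈ univ.erase i₀, row l := (add_sum_erase _ _ (mem_univ i₀)).symm
  have hι1 : ((univ.erase i₀).card : ℤ) = (Fintype.card ι : ℤ) - 1 := by
    rw [card_erase_of_mem (mem_univ i₀), card_univ]
    have : 1 ≤ Fintype.card ι := Fintype.card_pos_iff.mpr ⟨i₀⟩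
    omega
  by_cases hs0 : ∀ k, k ≠ k₀ → s k = 0
  · left
    have hrow1 : ∀ l, row l = r l ^ 2 + ((Fintype.card κ : ℤ) - 1) * (r l - 1) ^ 2 := fun l => by
      rw [hsplit l, sum_congr rfl (fun k hk => by rw [hs0 k (ne_of_mem_erase hk)]), sum_const,
        card_erase_of_mem (mem_univ k₀), card_univ, nsmul_eq_mul, Nat.cast_sub (by omega)]
      push_cast; ring
    have hge : ∀ l, (1 : ℤ) + (r l - 1) ^ 2 ≤ row l ∨ r l = 1 := fun l => by
      by_cases h1 : r l = 1
      · exact Or.inr h1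
      · left
        rw [hrow1 l]
        have hp : (3 : ℤ) ≤ Fintype.card κ := by exact_mod_cast hκ
        have : 1 ≤ (r l - 1) ^ 2 := by nlinarith [mul_self_pos.mpr (sub_ne_zero.mpr h1)]
        nlinarith [sq_nonneg (r l)]
    have hge1 : ∀ l, (1 : ℤ) ≤ row l := fun l => by
      rcases hge l with h1 | h1
      · nlinarith [sq_nonneg (r l - 1)]
      · rw [hrow1 l, h1]; norm_num
    have hall : ∀ l, r l = 1 := fun l => by
      by_contra h1
      have hlt : ∑ _x : ι, (1 : ℤ) < ∑ x, row x := by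
        refine sum_lt_sum (fun x _ => hge1 x) ⟨l, mem_univ l, ?_⟩
        have := (hge l).resolve_right h1
        nlinarith [mul_self_pos.mpr (sub_ne_zero.mpr h1)]
      simp only [sum_const, card_univ, nsmul_eq_mul, mul_one] at hlt
      linarith
    refine ⟨fun l k => ?_, ?_⟩
    · by_cases hk : k = k₀
      · rw [if_pos hk, hk, hs, hall l]; ring
      · rw [if_neg hk, hs0 k hk, hall l]; ring
    · have : ∑ _x : ι, (1 : ℤ) ≤ ∑ x, row x := sum_le_sum fun x _ => hge1 x
      simp only [sum_const, card_univ, nsmul_eq_mul, mul_one] at this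
      linarith
  · right
    push Not at hs0
    obtain ⟨k₁, hk₁, hk₁'⟩ := hs0
    have hall : ∀ k, s k = 1 := fun k => by
      by_contra hk
      have hkk : k ≠ k₀ := fun e => hk (e ▸ hs)
      have hge1 : ∀ l, (1 : ℤ) ≤ row l := fun l => by
        by_cases hl : r l = 0
        · exact one_le_sum_sq (fun y => r l + s y - 1) (a := k) (by omega)
        · exact one_le_sum_sq (fun y => r l + s y - 1) (a := k₀) (by omega)
      have h2 : (2 : ℤ) ≤ row i₀ := by
        rw [hsplit i₀, hr]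
        have h1 : (1 + s k₁ - 1) ^ 2 ≤ ∑ k ∈ univ.erase k₀, (1 + s k - 1) ^ 2 :=
          single_le_sum (f := fun y => (1 + s y - 1) ^ 2) (fun y _ => sq_nonneg _) (by simp [hk₁])
        have : (1 : ℤ) ≤ (1 + s k₁ - 1) ^ 2 := by nlinarith [mul_self_pos.mpr hk₁']
        linarith
      have : ∑ _x ∈ univ.erase i₀, (1 : ℤ) ≤ ∑ x ∈ univ.erase i₀, row x := sum_le_sum fun x _ => hge1 x
      simp only [sum_const, nsmul_eq_mul, mul_one] at this
      linarith
    refine ⟨hall, ?_⟩
    have hrow2 : ∀ l, row l = (Fintype.card κ : ℤ) * r l ^ 2 := fun l => by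
      simp only [hrow, hall, add_sub_cancel_right, sum_const, card_univ, nsmul_eq_mul]
    have e := sum_congr (s₁ := univ.erase i₀) rfl fun l _ => hrow2 l
    rw [← mul_sum] at e
    have e0 := hrow2 i₀
    rw [hr] at e0
    nlinarith

/-- The shape of the array of `τ (μ_j - m ξ)`. -/
theorem gamma_cases (i₀ : ι) (r : ι → ℤ) (s : κ → ℤ) (hr : r i₀ = 0) {k₀ j k₂ : κ}
    (hj : j ≠ k₀) (hk₂ : k₂ ≠ k₀) (hk₂' : k₂ ≠ j) (hk : s k₀ = 0) (e2 : s j = s k₂ + 1) :
    (Fintype.card ι : ℤ) ≤ ∑ l, ∑ k, (r l + s k) ^ 2 ∧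
      (∑ l, ∑ k, (r l + s k) ^ 2 ≤ (Fintype.card ι : ℤ) →
        ∃ j' : κ, ∃ ε : ℤ, j' ≠ k₀ ∧ (ε = 1 ∨ ε = -1) ∧ ∀ l k, r l + s k = if k = j' then ε else 0) := by
  set row : ι → ℤ := fun l => ∑ k, (r l + s k) ^ 2 with hrow
  have h3 : ∀ l, r l ^ 2 + (r l + s j) ^ 2 + (r l + s k₂) ^ 2 ≤ row l := fun l => by
    have := triple_le_sum (f := fun k => (r l + s k) ^ 2) (fun k => sq_nonneg _) hj.symm hk₂.symm hk₂'.symm
    simpa [hk] using this
  have hge : ∀ l, (1 : ℤ) + r l ^ 2 ≤ row l := fun l => by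
    refine le_trans ?_ (h3 l)
    rw [e2]
    by_cases h0 : r l + s k₂ = 0
    · rw [show r l + (s k₂ + 1) = 1 by omega, h0]; linarith
    · nlinarith [mul_self_pos.mpr h0, sq_nonneg (r l + (s k₂ + 1))]
  refine ⟨?_, fun hle => ?_⟩
  · have : ∑ _x : ι, (1 : ℤ) ≤ ∑ x, row x := sum_le_sum fun x _ => by
      nlinarith [hge x, sq_nonneg (r x)]
    simpa using this
  have hr0 : ∀ l, r l = 0 := fun l => by
    by_contra h1
    have hlt : ∑ _x : ι, (1 : ℤ) < ∑ x, row x :=
      sum_lt_sum (fun x _ => by nlinarith [hge x, sq_nonneg (r x)])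
        ⟨l, mem_univ l, by nlinarith [hge l, mul_self_pos.mpr h1]⟩
    simp only [sum_const, card_univ, nsmul_eq_mul, mul_one] at hlt
    linarith
  have hrow1 : ∑ k, s k ^ 2 ≤ 1 := by
    have e : ∑ x, row x = (Fintype.card ι : ℤ) * ∑ k, s k ^ 2 := by
      simp [hrow, hr0]
    have : 1 ≤ Fintype.card ι := Fintype.card_pos_iff.mpr ⟨i₀⟩
    have hle' : (Fintype.card ι : ℤ) * ∑ k, s k ^ 2 ≤ (Fintype.card ι : ℤ) * 1 := by
      rw [← e, mul_one]; exact hle
    exact le_of_mul_le_mul_left hle' (by exact_mod_cast this)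
  have hone : ∀ a b, a ≠ b → s a ≠ 0 → s b = 0 := fun a b hab ha => by
    by_contra hb
    have := pair_le_sum (f := fun k => s k ^ 2) (fun k => sq_nonneg _) hab
    nlinarith [mul_self_pos.mpr ha, mul_self_pos.mpr hb]
  obtain ⟨j', hj'⟩ : ∃ j', s j' ≠ 0 := by
    by_contra hc
    push Not at hc
    have := hc j; have := hc k₂; omega
  have hunit : s j' = 1 ∨ s j' = -1 := by
    have := single_le_sum (f := fun k => s k ^ 2) (fun k _ => sq_nonneg _) (mem_univ j')
    have h4 : s j' ≤ 1 := by nlinarith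
    have h5 : -1 ≤ s j' := by nlinarith
    omega
  refine ⟨j', s j', fun e => hj' (e ▸ hk), hunit, fun l k => ?_⟩
  rw [hr0 l, zero_add]
  by_cases e : k = j'
  · rw [if_pos e, e]
  · rw [if_neg e]; exact hone j' k (Ne.symm e) hj'

end Cfsg.Agent.OddChar.S11
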