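/-
Peterfalvi, section 11: integer coefficient arrays on the cyclic family, and Bessel's inequality for them.
-/
import Cfsg.Agent.Lib.OddChar.PF10.Bridge
import Cfsg.Agent.Lib.OddChar.S11.Count

set_option autoImplicit false
set_option linter.unusedSectionVars false

namespace Cfsg.Agent.OddChar.S11

open Cfsg.Agent Cfsg.Agent.Char Cfsg.Agent.OddChar.P10
open scoped Classical

attribute [local instance] P10.dualFintype

universe u

variable {G : Type u} [Group G] [Fintype G] {M K U₀ : Subgroup G} {c : Ctx M K U₀} [Fintype M]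

/-- The members of the cyclic family indexed by pairs. -/
noncomputable abbrev ee (F : Fam c) (i : (ka M K →* ℂˣ) × (kb M K →* ℂˣ)) : G → ℂ := F.η (Fam.cell c i)

theorem cell_one (c : Ctx M K U₀) (l : ka M K →* ℂˣ) : Fam.cell c (l, 1) = row c 1 l := by
  simp [Fam.cell, CyclicTI.pull2_one]

theorem cell_one_one (c : Ctx M K U₀) : Fam.cell c (1, 1) = 1 := by
  exact CyclicTI.pull_one_one c.semi.split

theorem ee_one (F : Fam c) : ee F (1, 1) = fun _ => 1 := by
  show F.η _ = _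
  rw [cell_one_one, F.η_one]

theorem ee_orth (F : Fam c) (i j : (ka M K →* ℂˣ) × (kb M K →* ℂˣ)) :
    Cfsg.classInner (ee F i) (ee F j) = if i = j then 1 else 0 := by
  rw [F.η_orth]
  exact if_congr (Fam.cell_injective c).eq_iff rfl rfl

/-- Coefficients are additive up to a prescribed difference of two members. -/
theorem exists_array (F : Fam c) {f : G → ℂ} (hf : Cfsg.IsGeneralizedCharacter G f) (δ : ℤ)
    (i : ka M K →* ℂˣ) (g : kb M K →* ℂˣ)
    (hV : ∀ w : ↥(ka M K ⊔ kb M K), (w : M) ∉ ka M K → (w : M) ∉ kb M K →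
      f ((w : M) : G) = (δ : ℂ) * ((Fam.cell c (i, g) w : ℂ) - (Fam.cell c (i, 1) w : ℂ))) :
    ∃ (r : (ka M K →* ℂˣ) → ℤ) (s : (kb M K →* ℂˣ) → ℤ), s 1 = 0 ∧ ∀ l k,
      Cfsg.classInner f (ee F (l, k)) = ((r l + s k + δ * pairArr i g 1 l k : ℤ) : ℂ) := by
  haveI : Fintype ↥(K ⊔ wTwo M K) := Fintype.ofFinite _
  choose x hx using fun t => IsGeneralizedCharacter.exists_classInner_int hf (F.η_gen (Fam.cell c t))
  set θ : G → ℂ := f - (δ : ℂ) • (ee F (i, g) - ee F (i, 1)) with hθdef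
  have hθ : Cfsg.IsClassFunction G θ := IsGeneralizedCharacter.isClassFunction
    (IsGeneralizedCharacter.sub hf (IsGeneralizedCharacter.int_smul
      (IsGeneralizedCharacter.sub (F.η_gen _) (F.η_gen _)) δ))
  have hθV : ∀ w : ↥(K ⊔ wTwo M K), (w : G) ∉ K → (w : G) ∉ wTwo M K → θ w = 0 := by
    intro w h1 h2
    have e : (w : G) = (((c.wEquiv.symm w : ↥(ka M K ⊔ kb M K)) : M) : G) := by
      rw [← c.coe_wEquiv, MulEquiv.apply_symm_apply]
    rw [e] at h1 h2 ⊢
    simp only [hθdef, Pi.sub_apply, Pi.smul_apply, smul_eq_mul, ee]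
    rw [hV (c.wEquiv.symm w) h1 h2, F.η_eq _ (c.wEquiv.symm w) h1 h2, F.η_eq _ (c.wEquiv.symm w) h1 h2,
      sub_self]
  set y : (ka M K →* ℂˣ) → (kb M K →* ℂˣ) → ℤ := fun l k => x (l, k) - δ * pairArr i g 1 l k with hy
  have hcoef : ∀ l k, Cfsg.classInner θ (ee F (l, k)) = (y l k : ℂ) := by
    intro l k
    simp only [hθdef, classInner_sub_left, classInner_smul_left, hy, pairArr, ee_orth, Prod.mk.injEq]
    rw [show Cfsg.classInner f (ee F (l, k)) = _ from hx (l, k)]
    simp only [eq_comm (a := i), eq_comm (a := g), eq_comm (a := (1 : kb M K →* ℂˣ))]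
    push_cast
    ring
  refine ⟨fun l => y l 1, fun k => y 1 k - y 1 1, sub_self _, fun l k => ?_⟩
  have hadd : (y l k : ℂ) = y l 1 + y 1 k - y 1 1 := by
    rw [← hcoef, ← hcoef, ← hcoef, ← hcoef]
    simp only [ee, Fam.η]
    have h := CyclicTI.coeff_add c.selfNormalizing F.hχ hθ hθV
      (φ := (CyclicTI.pull1 c.semi.split l).comp c.wEquiv.symm.toMonoidHom)
      (ψ := (CyclicTI.pull2 c.semi.split k).comp c.wEquiv.symm.toMonoidHom)
      (fun w hw => CyclicTI.pull1_apply_of_mem c.semi.split l (c.wEquiv.symm w)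
        (by rw [Subgroup.mem_subgroupOf, ← c.coe_wEquiv, MulEquiv.apply_symm_apply]; exact hw))
      (fun w hw => CyclicTI.pull2_apply_of_mem c.semi.split k (c.wEquiv.symm w)
        (by rw [Subgroup.mem_subgroupOf, ← c.coe_wEquiv, MulEquiv.apply_symm_apply]; exact hw))
    simp only [Fam.cell, P10.row, CyclicTI.pull_one_left, CyclicTI.pull_one_right, CyclicTI.pull_one_one,
      MonoidHom.one_comp]
    rw [MonoidHom.mul_comp]
    exact h
  have hx' : Cfsg.classInner f (ee F (l, k)) = (x (l, k) : ℂ) := hx (l, k)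
  rw [hx']
  have h2 : y l k = y l 1 + (y 1 k - y 1 1) := by
    have h : ((y l k : ℤ) : ℂ) = ((y l 1 + (y 1 k - y 1 1) : ℤ) : ℂ) := by
      rw [hadd]; push_cast; ring
    exact_mod_cast h
  refine congrArg _ ?_
  simp only [hy] at h2 ⊢
  linarith

/-- Bessel's inequality for the cyclic family together with further orthonormal members. -/
theorem bessel_grid (F : Fam c) {f : G → ℂ} {N : ℤ} (hN : Cfsg.classInner f f = (N : ℂ))
    (x : (ka M K →* ℂˣ) → (kb M K →* ℂˣ) → ℤ)
    (hx : ∀ l k, Cfsg.classInner f (ee F (l, k)) = (x l k : ℂ)) {A : Type*} (T : Finset A)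
    (v : A → G → ℂ) (y : A → ℤ)
    (horth : ∀ a ∈ T, ∀ b ∈ T, Cfsg.classInner (v a) (v b) = if a = b then 1 else 0)
    (hperp : ∀ a ∈ T, ∀ ω, Cfsg.classInner (v a) (F.η ω) = 0)
    (hy : ∀ a ∈ T, Cfsg.classInner f (v a) = (y a : ℂ)) :
    (∑ l, ∑ k, x l k ^ 2) + ∑ a ∈ T, y a ^ 2 ≤ N ∧
      (N ≤ (∑ l, ∑ k, x l k ^ 2) + ∑ a ∈ T, y a ^ 2 →
        f = (∑ l, ∑ k, (x l k : ℂ) • ee F (l, k)) + ∑ a ∈ T, (y a : ℂ) • v a) := by
  let w : ((ka M K →* ℂˣ) × (kb M K →* ℂˣ)) ⊕ A → G → ℂ := Sum.elim (ee F) v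
  let b : ((ka M K →* ℂˣ) × (kb M K →* ℂˣ)) ⊕ A → ℝ := fun i => ((Sum.elim (fun t => x t.1 t.2) y i : ℤ) : ℝ)
  have hperp' : ∀ a ∈ T, ∀ ω, Cfsg.classInner (F.η ω) (v a) = 0 := fun a ha ω => by
    rw [← classInner_conj_symm, hperp a ha, map_zero]
  have hB := Coherence.bessel (Finset.univ.disjSum T) w (fun _ => 1) b (fun _ _ => one_pos)
    (fun i hi j hj hne => by
      rcases i with i | i <;> rcases j with j | j <;>
        simp only [Finset.inr_mem_disjSum, Finset.inl_mem_disjSum] at hi hj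
      · show Cfsg.classInner (ee F i) (ee F j) = 0
        rw [ee_orth, if_neg fun e => hne (congrArg Sum.inl e)]
      · exact hperp' j hj _
      · exact hperp i hi _
      · show Cfsg.classInner (v i) (v j) = 0
        rw [horth i hi j hj, if_neg fun e => hne (congrArg Sum.inr e)])
    (fun i hi => by
      rcases i with i | i <;> simp only [Finset.inr_mem_disjSum, Finset.inl_mem_disjSum] at hi
      · simp [w, ee_orth]
      · simp [w, horth i hi i hi])
    (x := f) (fun i hi => by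
      rcases i with i | i <;> simp only [Finset.inr_mem_disjSum, Finset.inl_mem_disjSum] at hi
      · simpa [w, b] using hx i.1 i.2
      · simpa [w, b] using hy i hi)
    (N := (N : ℝ)) (by rw [hN, Complex.ofReal_intCast])
  simp only [Finset.sum_disjSum, div_one, Fintype.sum_prod_type, b, w, Sum.elim_inl, Sum.elim_inr] at hB
  refine ⟨by exact_mod_cast hB.1, fun h => ?_⟩
  simpa using hB.2 (by exact_mod_cast h)

end Cfsg.Agent.OddChar.S11
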