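/-
Peterfalvi (11.8): the Dade image of `μ₀ - ζ` for a linearly induced character `ζ`.
-/
import Cfsg.Agent.Lib.OddChar.S11.Chars
import Cfsg.Agent.Lib.OddChar.S11.Coeff

set_option autoImplicit false
set_option linter.unusedSectionVars false

namespace Cfsg.Agent.OddChar.S11

open Cfsg.Agent Cfsg.Agent.Char Cfsg.Agent.OddChar.P10
open scoped Classical ComplexConjugate

attribute [local instance] P10.dualFintype

universe u

variable {G : Type u} [Group G] [Fintype G] {M K U₀ : Subgroup G} {c : Ctx M K U₀} [Fintype M]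

/-! ## Complex conjugation -/

theorem conjFun_add' {X : Type u} (f g : X → ℂ) :
    Cfsg.conjFun (f + g) = Cfsg.conjFun f + Cfsg.conjFun g :=
  funext fun _ => map_add _ _ _

theorem conjFun_sub' {X : Type u} (f g : X → ℂ) :
    Cfsg.conjFun (f - g) = Cfsg.conjFun f - Cfsg.conjFun g :=
  funext fun _ => map_sub _ _ _

theorem conjFun_zsmul' {X : Type u} (n : ℤ) (f : X → ℂ) : Cfsg.conjFun (n • f) = n • Cfsg.conjFun f :=
  funext fun _ => by simp [Cfsg.conjFun]

theorem classInner_conj_conj {X : Type u} [Group X] [Fintype X] (a b : X → ℂ) :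
    Cfsg.classInner (Cfsg.conjFun a) (Cfsg.conjFun b) = conj (Cfsg.classInner a b) := by
  simp only [Cfsg.classInner, Cfsg.conjFun, map_mul, map_inv₀, map_natCast, map_sum]

theorem tau_conj (f : M → ℂ) : tau M (Cfsg.conjFun f) = Cfsg.conjFun (tau M f) := by
  funext x
  by_cases h : ∃ a : ↥M, (a : G) ∈ Cfsg.typeA0 M ∧ ∃ y : G, ∃ u ∈ Cfsg.supportR M (a : G),
    y * x * y⁻¹ = (a : G) * u <;> simp [tau, Cfsg.dadeIsometry, Cfsg.conjFun, h]

theorem conj_ind_mem {A : Subgroup M} {φ : M → ℂ} (h : φ ∈ Cfsg.inducedIrrAbove (kd M) A) :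
    Cfsg.conjFun φ ∈ Cfsg.inducedIrrAbove (kd M) A := IndSet.conj_mem_above _ _ h

/-- `τ (φ - conj φ)` is orthogonal to the cyclic family. -/
theorem diff_perp (F : Fam c) {φ : M → ℂ} (hS : φ ∈ calS M) (h : Cfsg.IsIrrCharacter M φ) (ω : Chr M K) :
    Cfsg.classInner (tau M (φ - Cfsg.conjFun φ)) (F.η ω) = 0 := by
  obtain ⟨μ, hμ, hne, he, -, -⟩ := c.tau_irr_sub hS h
  obtain ⟨o1, o2⟩ := F.orth_eta_irr hS h hμ hne he ω
  rw [he, classInner_sub_left, o1, o2, sub_zero]

/-! ## The setting -/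

variable {H U : Subgroup M} {p q : ℕ} (F : Fam c)
  (D : Struct (kd M) H U (ka M K) (kb M K) p q) (hf : Facts (kd M) H U p q (tau M))

include c D in
theorem card_K : Nat.card K = q := by rw [← c.card_ka, D.card_W₁]

include D in
theorem card_rows : Fintype.card (ka M K →* ℂˣ) = q := by
  haveI := D.semi.comm1
  rw [← Nat.card_eq_fintype_card, CyclicTI.card_hom, D.card_W₁]

include D in
theorem card_cols : Fintype.card (kb M K →* ℂˣ) = p := by
  haveI := D.semi.comm2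
  rw [← Nat.card_eq_fintype_card, CyclicTI.card_hom, D.card_W₂]

theorem μ_one (F : Fam c) : F.μ 1 = fun _ => 1 := by
  rw [(F.μ_triv 1 fun _ _ => MonoidHom.one_apply _).2]
  funext g; simp

theorem psi_inner_one (F : Fam c) {ζ : M → ℂ} (hζ : ζ ∈ calS M) (hirr : Cfsg.IsIrrCharacter M ζ) :
    Cfsg.classInner (F.psi ζ) (fun _ => 1) = 1 := by
  rw [← μ_one F, Fam.psi, classInner_sub_left, F.mus_inner_μ,
    if_pos ((exists_row_eq_iff c 1 1).mpr fun _ _ => rfl), ← classInner_conj_symm (F.μ 1) ζ,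
    F.μ_inner_irr hζ hirr, map_zero, sub_zero]

include F D hf

/-- An exceptional character of degree `u` whose sum over a column is trivial on `U'`. -/
theorem exists_col : ∃ g : kb M K →* ℂˣ, g ≠ 1 ∧
    F.μ (CyclicTI.pull2 c.semi.split g) 1 = (((⁅U, U⁆ : Subgroup M).relIndex U : ℕ) : ℂ) ∧
    F.δ (CyclicTI.pull2 c.semi.split g) = 1 ∧
    F.mus (CyclicTI.pull2 c.semi.split g) ∈ Cfsg.inducedIrrAbove (kd M) ⁅U, U⁆ := by
  obtain ⟨θ, hθ, hdeg, hker, hne, hinv⟩ := D.exists_theta hf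
  set φ := Cfsg.indFun (kd M) θ with hφ
  have hmem : φ ∈ Cfsg.inducedIrrAbove (kd M) ⁅U, U⁆ := ⟨θ, hθ, hne, hker, rfl⟩
  have hS : φ ∈ calS M := IndSet.above_subset_bot (kd M) _ hmem
  have hnot : ¬ Cfsg.IsIrrCharacter M φ := fun h => by
    have h1 := classInner_self_irr h
    rw [hφ, classInner_indFun_normal (kd M) hθ hθ,
      Nat.card_congr (Equiv.subtypeUnivEquiv hinv), inv_mul_eq_one₀ (Nat.cast_ne_zero.mpr Nat.card_pos.ne')] at h1
    have h2 : Nat.card (kd M) = Nat.card M := by exact_mod_cast h1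
    have h3 := (kd M).card_mul_index
    rw [D.index_K, h2] at h3
    exact D.hq.ne_one (Nat.eq_of_mul_eq_mul_left Nat.card_pos (h3.trans (mul_one _).symm))
  obtain ⟨ω, hI, hJ, he⟩ := (F.cases_calS hS).resolve_left hnot
  obtain ⟨g, hg⟩ : ∃ g, CyclicTI.pull2 c.semi.split g = ω :=
    ⟨_, (CyclicTI.hom_eq_pull2 c.semi.split hI).symm⟩
  subst hg
  have hdeg' : F.μ (CyclicTI.pull2 c.semi.split g) 1 = (((⁅U, U⁆ : Subgroup M).relIndex U : ℕ) : ℂ) := by
    have h1 := congrFun he 1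
    rw [F.mus_on _ (one_mem (kd M)), hφ, indFun_one_apply, D.index_K, hdeg, card_K (c := c) D] at h1
    exact (mul_left_cancel₀ (Nat.cast_ne_zero.mpr D.hq.ne_zero) h1).symm
  refine ⟨g, fun e => hJ ?_, hdeg', ?_, he ▸ hmem⟩
  · rw [e, CyclicTI.pull2_one]
    exact fun _ _ => MonoidHom.one_apply _
  · obtain ⟨m, hm⟩ := F.μ_deg (CyclicTI.pull2 c.semi.split g)
    obtain ⟨n, -, hn⟩ := D.u_form hf
    rw [hdeg', hn, card_K (c := c) D] at hm
    have h1 : (1 : ℤ) + n * q = F.δ (CyclicTI.pull2 c.semi.split g) + m * q := by exact_mod_cast hm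
    rcases Int.eq_one_or_neg_one_of_mul_eq_one (F.δ_sq (CyclicTI.pull2 c.semi.split g)) with h | h
    · exact h
    · rw [h] at h1
      have h2 : (q : ℤ) ∣ 2 := ⟨m - n, by linarith⟩
      have := Int.le_of_dvd two_pos h2
      have := D.three_le_q
      omega

/-- The characters over `K'`. -/
abbrev X0 (M : Subgroup G) [Fintype M] : Set (M → ℂ) := Cfsg.inducedIrrAbove (kd M) ⁅kd M, kd M⁆

theorem exists_coh : ∃ ζ : M → ℂ, Nonempty (Coh c (X0 M) ζ) := by
  obtain ⟨X, hX, hall, hcard⟩ := D.exists_X0 hf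
  haveI : (⁅kd M, kd M⁆ : Subgroup M).Normal := Subgroup.commutator_normal _ _
  have hK : ¬ kd M ≤ ⁅kd M, kd M⁆ := fun h => by
    rw [← Subgroup.relIndex_eq_one, hf.der_K, D.relIndex_HC] at h
    exact hf.u_ne_one h
  obtain ⟨-, t, hiso, hag⟩ := D.coherent_der F.system hK
  obtain ⟨ζ, hζ⟩ := IndSet.above_nonempty (kd M) hK
  have hζX : ζ ∈ X := by rw [← Finset.mem_coe, hX]; exact hζ
  exact ⟨ζ, ⟨⟨t, IndSet.above_subset_bot _ _, hζ, conj_ind_mem hζ, (hall ζ hζX).1,
    by rw [(hall ζ hζX).2, card_K (c := c) D], hiso, hag⟩⟩⟩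

/-- Coefficients on the images of `X0`. -/
theorem X0_inner {ζ : M → ℂ} (h : Coh c (X0 M) ζ) {β : M → ℂ} (hβ : Cfsg.IsClassFunction M β) (hs : Supp β)
    {φ : M → ℂ} (hφ : φ ∈ X0 M) :
    Cfsg.classInner (tau M β) (h.t φ) =
      Cfsg.classInner β φ + (Cfsg.classInner (tau M β) h.u - Cfsg.classInner β ζ) := by
  obtain ⟨X, hX, hall, -⟩ := D.exists_X0 hf
  have hφX : φ ∈ X := by rw [← Finset.mem_coe, hX]; exact hφ
  rw [h.transfer hβ hs hφ (d := 1) (by rw [(hall φ hφX).2, card_K (c := c) D, Nat.cast_one, one_mul]),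
    Nat.cast_one, one_mul]

/-- Bessel's inequality with the cyclic family and the images of `X0`. -/
theorem bessel_X0 {ζ : M → ℂ} (h : Coh c (X0 M) ζ) {β : M → ℂ} (hβ : Cfsg.IsClassFunction M β) (hs : Supp β)
    (hgen : Cfsg.IsGeneralizedCharacter G (tau M β)) {N : ℤ} (hN : Cfsg.classInner β β = (N : ℂ))
    (x : (ka M K →* ℂˣ) → (kb M K →* ℂˣ) → ℤ)
    (hx : ∀ l k, Cfsg.classInner (tau M β) (ee F (l, k)) = (x l k : ℂ))
    {z : ℤ} (hz : Cfsg.classInner β ζ = (z : ℂ)) (hβ0 : ∀ φ ∈ X0 M, φ ≠ ζ → Cfsg.classInner β φ = 0) :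
    ∃ (b : ℤ) (X : Finset (M → ℂ)), (↑X : Set (M → ℂ)) = X0 M ∧ ζ ∈ X ∧
      X.card * q + 1 = (⁅U, U⁆ : Subgroup M).relIndex U ∧
      Cfsg.classInner (tau M β) h.u = (b : ℂ) ∧
      (∑ l, ∑ k, x l k ^ 2) + (b ^ 2 + ((X.card : ℤ) - 1) * (b - z) ^ 2) ≤ N ∧
      (N ≤ (∑ l, ∑ k, x l k ^ 2) + (b ^ 2 + ((X.card : ℤ) - 1) * (b - z) ^ 2) →
        tau M β = (∑ l, ∑ k, (x l k : ℂ) • ee F (l, k)) +
          ((b : ℂ) • h.u + ∑ φ ∈ X.erase ζ, ((b : ℂ) - z) • h.t φ)) := by
  obtain ⟨X, hX, hall, hcard⟩ := D.exists_X0 hf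
  have hmem : ∀ φ, φ ∈ X ↔ φ ∈ X0 M := fun φ => by rw [← Finset.mem_coe, hX]
  obtain ⟨b, hb⟩ := IsGeneralizedCharacter.exists_classInner_int hgen h.u_gen
  have hζX : ζ ∈ X := (hmem ζ).2 h.mem
  refine ⟨b, X, hX, hζX, hcard, hb, ?_⟩
  set y : (M → ℂ) → ℤ := fun φ => if φ = ζ then b else b - z with hy
  have hB := bessel_grid F (f := tau M β) (N := N) (by rw [c.tau_inner hβ hs hβ, hN]) x hx X h.t y
    (fun a ha a' ha' => by
      rw [h.t_inner ((hmem a).1 ha) ((hmem a').1 ha'), classInner_irr (hall a ha).1 (hall a' ha').1]; congr)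
    (fun a ha ω => h.orth_eta F ((hmem a).1 ha) (conj_ind_mem ((hmem a).1 ha)) (hall a ha).1 ω)
    (fun a ha => by
      by_cases e : a = ζ
      · subst e; simpa [hy, Coh.u] using hb
      · rw [X0_inner F D hf h hβ hs ((hmem a).1 ha), hβ0 a ((hmem a).1 ha) e, hb, hz]
        simp [hy, e])
  have e1 : ∑ φ ∈ X, y φ ^ 2 = b ^ 2 + ((X.card : ℤ) - 1) * (b - z) ^ 2 := by
    rw [← Finset.add_sum_erase X _ hζX, Finset.sum_congr rfl (g := fun _ => (b - z) ^ 2)
      fun φ hφ => by simp [hy, Finset.ne_of_mem_erase hφ]]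
    rw [Finset.sum_const, Finset.card_erase_of_mem hζX, nsmul_eq_mul,
      Nat.cast_sub (Finset.card_pos.2 ⟨ζ, hζX⟩)]
    simp [hy]
  have e2 : ∑ φ ∈ X, (y φ : ℂ) • h.t φ = (b : ℂ) • h.u + ∑ φ ∈ X.erase ζ, ((b : ℂ) - z) • h.t φ := by
    rw [← Finset.add_sum_erase X _ hζX]
    congr 1
    · simp [hy, Coh.u]
    · exact Finset.sum_congr rfl fun φ hφ => by simp [hy, Finset.ne_of_mem_erase hφ]
  rw [e1, e2] at hB
  exact hB

/-- (11.8): the two possible forms of `τ (μ₀ - ζ)`. -/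
theorem psi_dich :
    (∃ (ζ : M → ℂ) (h : Coh c (X0 M) ζ), tau M (F.psi ζ) = (∑ f, F.η (P10.row c 1 f)) - h.u) ∨
    ∃ (ζ : M → ℂ) (_ : Coh c (X0 M) ζ) (r : (ka M K →* ℂˣ) → ℤ), r 1 = 1 ∧ (∀ l, r l⁻¹ = r l) ∧
      (∀ l k, Cfsg.classInner (tau M (F.psi ζ)) (ee F (l, k)) = (r l : ℂ)) ∧
      (p : ℤ) * (∑ l ∈ Finset.univ.erase 1, r l ^ 2) + p ≤ q := by
  obtain ⟨ζ, ⟨h⟩⟩ := exists_coh F D hf
  obtain ⟨X', hX', hall', -⟩ := D.exists_X0 hf
  have hallX : ∀ φ ∈ X0 M, Cfsg.IsIrrCharacter M φ := fun φ hφ => (hall' φ (by rw [← Finset.mem_coe, hX']; exact hφ)).1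
  have hζS := h.zetaS
  have hgen := F.psi_gen (ζ := ζ) hζS
  have hc := IsGeneralizedCharacter.isClassFunction hgen
  have hs := F.psi_supp hζS h.deg
  have hYgen := c.tau_gen hgen hs
  obtain ⟨r, s, hs1, hrs⟩ := exists_array F hYgen 0 1 1 fun w h1 h2 => by
    have hk : (w : M) ∉ kd M := fun hk => h2 ((c.semi.mem_W2_iff w).mpr hk)
    rw [c.tau_outer hc w h1 h2]
    simp [Fam.psi, F.mus_off 1 hk, (calS_off hζS).1 _ hk]
  simp only [zero_mul, add_zero] at hrs
  have hr1 : r 1 = 1 := by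
    have h1 := hrs 1 1
    rw [ee_one, c.tau_inner_one hc hs, psi_inner_one F hζS h.irr, hs1, add_zero] at h1
    exact_mod_cast h1.symm
  obtain ⟨b, X, hX, hζX, hcard, hb, hle, heq⟩ := bessel_X0 F D hf h (β := F.psi ζ) hc hs hYgen
    (N := (q : ℤ) + 1) (by rw [F.psi_norm hζS h.irr, card_K (c := c) D]; push_cast; rfl)
    (fun l k => r l + (s k + 1) - 1) (fun l k => by rw [hrs]; ring_nf)
    (z := -1) (by rw [F.psi_inner_zeta hζS h.irr]; simp)
    (fun φ hφ hne => by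
      rw [Fam.psi, classInner_sub_left, F.mus_inner_irr (h.sub hφ) (hallX φ hφ),
        classInner_irr_of_ne h.irr (hallX φ hφ) hne.symm, sub_zero])
  obtain ⟨nn, hnn, hu⟩ := D.u_form hf
  have hXc : X.card = nn := Nat.eq_of_mul_eq_mul_right D.hq.pos (by omega)
  have hT : 1 ≤ b ^ 2 + ((X.card : ℤ) - 1) * (b - -1) ^ 2 := by
    have h2 : (2 : ℤ) ≤ X.card := by rw [hXc]; exact_mod_cast hnn
    by_cases hb0 : b = 0
    · subst hb0; norm_num; omega
    · nlinarith [mul_self_pos.mpr hb0, sq_nonneg (b - -1)]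
  have hcases := psi_cases (ι := ka M K →* ℂˣ) (κ := kb M K →* ℂˣ)
    (by rw [card_cols D]; exact D.three_le_p) 1 1 r (fun k => s k + 1) hr1 (by simp [hs1]) _ hT
    (by rw [card_rows D]; exact hle)
  rcases hcases with ⟨harr, hTone⟩ | ⟨hs', hbound⟩
  · left
    have heq' := heq (by
      rw [hTone, Finset.sum_congr rfl fun l _ => Finset.sum_congr rfl fun k _ => by rw [harr l k]]
      simp [card_rows D])
    have hgrid : (∑ l, ∑ k, ((r l + (s k + 1) - 1 : ℤ) : ℂ) • ee F (l, k)) = ∑ f, F.η (P10.row c 1 f) := by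
      refine Finset.sum_congr rfl fun l _ => ?_
      rw [Finset.sum_eq_single (1 : kb M K →* ℂˣ)]
      · rw [harr, if_pos rfl, Int.cast_one, one_smul]
        show F.η _ = _
        rw [cell_one]
      · intro k _ hk; rw [harr, if_neg hk, Int.cast_zero, zero_smul]
      · simp
    rw [hgrid] at heq'
    have h2 : (2 : ℤ) ≤ X.card := by rw [hXc]; exact_mod_cast hnn
    by_cases hb1 : b = -1
    · refine ⟨ζ, h, ?_⟩
      rw [heq', hb1]
      simp [sub_eq_add_neg]
    · have hb0 : b = 0 := by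
        by_contra hne
        nlinarith [mul_self_pos.mpr hne, mul_self_pos.mpr (show b + 1 ≠ 0 by omega)]
      subst hb0
      have hX2 : X.card = 2 := by
        have : ((X.card : ℤ) - 1) = 1 := by simpa using hTone
        omega
      have hcne : Cfsg.conjFun ζ ≠ ζ := c.conj_ne hζS
      have hcX : Cfsg.conjFun ζ ∈ X := by rw [← Finset.mem_coe, hX]; exact h.cmem
      have hXeq : X = {ζ, Cfsg.conjFun ζ} :=
        (Finset.eq_of_subset_of_card_le (by simp [Finset.insert_subset_iff, hζX, hcX])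
          (by rw [hX2, Finset.card_pair hcne.symm])).symm
      have hconj : ∀ α ∈ Cfsg.zspan (X0 M), Cfsg.conjFun α ∈ Cfsg.zspan (X0 M) := fun α hα => by
        induction hα using Submodule.span_induction with
        | mem x hx => exact Submodule.subset_span (conj_ind_mem hx)
        | zero => rw [show Cfsg.conjFun (0 : M → ℂ) = 0 from funext fun _ => map_zero _]; exact Submodule.zero_mem _
        | add x y _ _ hx hy => rw [conjFun_add']; exact Submodule.add_mem _ hx hy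
        | smul n x _ hx => rw [conjFun_zsmul']; exact Submodule.smul_mem _ n hx
      have hiso' : Cfsg.IsLinearIsometryOn (Cfsg.zspan (X0 M)) fun α => -h.t (Cfsg.conjFun α) := by
        refine ⟨fun α ha β hb' => ?_, fun α ha n => ?_, fun α ha β hb' => ?_, fun α ha => ?_⟩ <;> beta_reduce
        · rw [conjFun_add', h.iso.1 _ (hconj α ha) _ (hconj β hb'), neg_add]
        · rw [conjFun_zsmul', h.iso.2.1 _ (hconj α ha) n, smul_neg]
        · have hgX : ∀ {γ}, γ ∈ Cfsg.zspan (X0 M) → Cfsg.IsGeneralizedCharacter M γ := fun hγ =>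
            Coherence.zspan_gen (fun φ hφ => calS_gen (h.sub hφ)) hγ
          rw [classInner_neg_left, classInner_neg_right, neg_neg,
            h.iso.2.2.1 _ (hconj α ha) _ (hconj β hb'), classInner_conj_conj]
          obtain ⟨k, hk⟩ := IsGeneralizedCharacter.exists_classInner_int (hgX ha) (hgX hb')
          rw [hk, map_intCast]
        · exact IsGeneralizedCharacter.neg (h.iso.2.2.2 _ (hconj α ha))
      have hagree' : ∀ α ∈ Cfsg.zspanOn (X0 M) ({1}ᶜ : Set M), -h.t (Cfsg.conjFun α) = tau M α := by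
        intro α hα
        obtain ⟨hα', h1⟩ := Coherence.mem_zspanOn_one.mp hα
        rw [Coherence.mem_zspan, ← hX, hXeq, Finset.coe_pair, Submodule.mem_span_pair] at hα'
        obtain ⟨m₁, m₂, e⟩ := hα'
        have hm : (m₁ : ℂ) + m₂ = 0 := by
          have h1' := congrFun e 1
          simp only [Pi.add_apply, zsmul_eq_mul, Pi.mul_apply, Pi.intCast_apply, Coherence.conjFun_one h.irr, h.deg, h1] at h1'
          have hK0 : (Nat.card K : ℂ) ≠ 0 := Nat.cast_ne_zero.mpr Nat.card_pos.ne'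
          have : ((m₁ : ℂ) + m₂) * (Nat.card K : ℂ) = 0 := by linear_combination h1'
          exact (mul_eq_zero.mp this).resolve_right hK0
        have hm' : m₂ = -m₁ := by
          have : m₁ + m₂ = 0 := by exact_mod_cast hm
          omega
        subst hm'
        have e' : Cfsg.conjFun α = -α := by
          rw [← e, conjFun_add', conjFun_zsmul', conjFun_zsmul', Coherence.conjFun_conjFun]
          simp [add_comm]
        rw [e', Coherence.iso_neg (M := Submodule.span ℤ (X0 M)) h.iso (Coherence.mem_zspanOn_one.mp hα).1,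
          neg_neg, h.agree α hα]
      let h' : Coh c (X0 M) ζ :=
        { t := fun α => -h.t (Cfsg.conjFun α), sub := h.sub, mem := h.mem, cmem := h.cmem, irr := h.irr,
          deg := h.deg, iso := hiso', agree := hagree' }
      refine ⟨ζ, h', ?_⟩
      rw [heq', hXeq, Finset.erase_insert (by simp [hcne.symm]), Finset.sum_singleton]
      simp [h', Coh.u]
  · right
    have hs0 : ∀ k, s k = 0 := fun k => by have := hs' k; omega
    have hr : ∀ l k, Cfsg.classInner (tau M (F.psi ζ)) (ee F (l, k)) = (r l : ℂ) := fun l k => by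
      rw [hrs, hs0, add_zero]
    refine ⟨ζ, h, r, hr1, fun l => ?_, hr, by rw [card_cols D, card_rows D] at hbound; exact hbound⟩
    have hcell : Fam.cell c (l⁻¹, 1) = (Fam.cell c (l, 1))⁻¹ := by
      refine MonoidHom.ext fun w => ?_
      simp [Fam.cell, P10.row, CyclicTI.pull1, CyclicTI.pull2_one]
    have hpc : Cfsg.conjFun (F.psi ζ) = F.psi ζ + (ζ - Cfsg.conjFun ζ) := by
      have e1 : (1 : Chr M K)⁻¹ = 1 := MonoidHom.ext fun w => by simp
      rw [Fam.psi, conjFun_sub', F.mus_conj, e1]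
      abel
    have hY : Cfsg.conjFun (tau M (F.psi ζ)) = tau M (F.psi ζ) + tau M (ζ - Cfsg.conjFun ζ) := by
      rw [← tau_conj, hpc, tau_add]
    have h1 : Cfsg.classInner (tau M (F.psi ζ)) (ee F (l⁻¹, 1)) = conj ((r l : ℂ)) := by
      show Cfsg.classInner _ (F.η _) = _
      rw [hcell, ← F.η_conj, ← hr l 1, ← classInner_conj_conj, hY, classInner_add_left]
      rw [show Cfsg.classInner (tau M (ζ - Cfsg.conjFun ζ)) (Cfsg.conjFun (ee F (l, 1))) = 0 from by
        rw [show Cfsg.conjFun (ee F (l, 1)) = F.η (Fam.cell c (l, 1))⁻¹ from F.η_conj _]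
        exact diff_perp F hζS h.irr _, add_zero]
    rw [hr, map_intCast] at h1
    exact_mod_cast h1

end Cfsg.Agent.OddChar.S11
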