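/-
Peterfalvi (11.8): the sharp form of `τ (μ₀ - ζ)` makes `S(U')` coherent, hence does not occur.
-/
import Cfsg.Agent.Lib.OddChar.S11.Psi

set_option autoImplicit false
set_option linter.unusedSectionVars false

namespace Cfsg.Agent.OddChar.S11

open Cfsg.Agent Cfsg.Agent.Char Cfsg.Agent.OddChar.P10
open scoped Classical ComplexConjugate

attribute [local instance] P10.dualFintype

universe u

/-- A symmetric sum over the non-identity elements of a group of odd order is even. -/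
theorem two_dvd_sum_erase {A : Type*} [Group A] [Fintype A] (hodd : Odd (Fintype.card A)) (x : A → ℤ)
    (hx : ∀ a, x a⁻¹ = x a) : (2 : ℤ) ∣ ∑ a ∈ Finset.univ.erase (1 : A), x a := by
  show ((2 : ℕ) : ℤ) ∣ _
  rw [← ZMod.intCast_zmod_eq_zero_iff_dvd _ 2, Int.cast_sum]
  refine Finset.sum_involution (fun a _ => a⁻¹) (fun a _ => ?_) (fun a ha _ e => ?_) (fun a ha => ?_)
    (fun a _ => inv_inv a)
  · rw [hx]; exact CharTwo.add_self_eq_zero _
  · refine Finset.ne_of_mem_erase ha ?_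
    obtain ⟨m, hm⟩ := hodd
    have h2 : a ^ 2 = 1 := by rw [pow_two]; nth_rewrite 1 [← e]; exact inv_mul_cancel a
    have h := pow_card_eq_one (x := a)
    rwa [hm, pow_succ, pow_mul, h2, one_pow, one_mul] at h
  · simpa using Finset.ne_of_mem_erase ha

variable {G : Type u} [Group G] [Fintype G] {M K U₀ : Subgroup G} {c : Ctx M K U₀} [Fintype M]
  {H U : Subgroup M} {p q : ℕ} (F : Fam c)
  (D : Struct (kd M) H U (ka M K) (kb M K) p q) (hf : Facts (kd M) H U p q (tau M))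
include F D hf

/-- The coefficient of `τ α_{ij}` at the image of `ζ`. -/
theorem alpha_u {ζ : M → ℂ} (h : Coh c (X0 M) ζ)
    (hY : tau M (F.psi ζ) = (∑ f, F.η (P10.row c 1 f)) - h.u) {g : kb M K →* ℂˣ} (hg : g ≠ 1) {n : ℕ}
    (hn : (⁅U, U⁆ : Subgroup M).relIndex U = 1 + n * q) (hn2 : 2 ≤ n)
    (hdeg : F.μ (CyclicTI.pull2 c.semi.split g) 1 = (((⁅U, U⁆ : Subgroup M).relIndex U : ℕ) : ℂ))
    (hδ : F.δ (CyclicTI.pull2 c.semi.split g) = 1) (f : ka M K →* ℂˣ) :
    Cfsg.classInner (tau M (F.alpha ζ (CyclicTI.pull2 c.semi.split g) (n : ℤ) f)) h.u = -((n : ℤ) : ℂ) := by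
  obtain ⟨X', hX', hall', -⟩ := D.exists_X0 hf
  have hallX : ∀ φ ∈ X0 M, Cfsg.IsIrrCharacter M φ :=
    fun φ hφ => (hall' φ (by rw [← Finset.mem_coe, hX']; exact hφ)).1
  set ω := CyclicTI.pull2 c.semi.split g with hω
  have hI : I0 ω := Fam.pull2_I0 c g
  have hJ : ¬ J0 ω := Fam.pull2_not_J0 c hg
  have hζS := h.zetaS
  have hd : F.μ ω 1 = (F.δ ω : ℂ) + ((n : ℤ) : ℂ) * (Nat.card K : ℂ) := by
    rw [hdeg, hn, hδ, card_K (c := c) D]; push_cast; ring
  have h0' : ∀ w, Cfsg.classInner ζ (F.μ w) = 0 := fun w => by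
    rw [← classInner_conj_symm, F.μ_inner_irr hζS h.irr, map_zero]
  -- the data attached to one row
  have key : ∀ f : ka M K →* ℂˣ, ∃ (r : (ka M K →* ℂˣ) → ℤ) (s : (kb M K →* ℂˣ) → ℤ) (A : ℤ),
      s 1 = 0 ∧
      (∀ l k, Cfsg.classInner (tau M (F.alpha ζ ω n f)) (ee F (l, k)) =
        ((r l + s k + pairArr f g 1 l k : ℤ) : ℂ)) ∧
      Cfsg.classInner (tau M (F.alpha ζ ω n f)) h.u = ((A - n : ℤ) : ℂ) ∧
      (∑ l, (r l + pairArr f g 1 l 1)) = A - 1 ∧
      (∑ l, ∑ k, (r l + s k + pairArr f g 1 l k) ^ 2) ≤ 2 + 2 * A * n - n * A ^ 2 ∧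
      r 1 + pairArr f g 1 1 1 = if f = 1 then -1 else 0 := by
    intro f
    have hgen := F.alpha_gen hζS ω n f
    have hc := IsGeneralizedCharacter.isClassFunction hgen
    have hs := F.alpha_supp hζS h.deg hI hd f
    obtain ⟨r, s, hs1, hrs⟩ := exists_array F (c.tau_gen hgen hs) 1 f g fun w h1 h2 => by
      have hk : (w : M) ∉ kd M := fun hk => h2 ((c.semi.mem_W2_iff w).mpr hk)
      rw [c.tau_outer hc w h1 h2, cell_one]
      simp only [Fam.alpha, Pi.sub_apply, Pi.smul_apply, smul_eq_mul, hδ, Int.cast_one, one_mul]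
      rw [F.μ_shape _ w h2, F.μ_shape _ w h2, F.δ_row, F.δ_row, hδ, F.μ_one_deg.1, (calS_off hζS).1 _ hk]
      simp [Fam.cell, hω]
    simp only [one_mul] at hrs
    obtain ⟨b, X, hX, hζX, hcard, hb, hle, -⟩ := bessel_X0 F D hf h (β := F.alpha ζ ω n f) hc hs
      (c.tau_gen hgen hs) (N := 2 + (n : ℤ) ^ 2) (F.alpha_norm hζS h.irr hJ n f) _ hrs
      (z := -(n : ℤ)) (by rw [F.alpha_inner_irr hζS h.irr]; push_cast; rfl)
      (fun φ hφ hne => by
        simp [Fam.alpha, classInner_sub_left, classInner_smul_left, F.μ_inner_irr (h.sub hφ) (hallX φ hφ),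
          classInner_irr_of_ne h.irr (hallX φ hφ) hne.symm])
    have hXc : X.card = n := Nat.eq_of_mul_eq_mul_right D.hq.pos (by omega)
    refine ⟨r, s, b + n, hs1, hrs, by rw [hb]; simp, ?_, ?_, ?_⟩
    · have hψ := IsGeneralizedCharacter.isClassFunction (F.psi_gen (ζ := ζ) hζS)
      have e := c.tau_inner hψ (F.psi_supp hζS h.deg) hc
      have e1 : ∀ l, Cfsg.classInner (F.η (P10.row c 1 l)) (tau M (F.alpha ζ ω n f)) =
          ((r l + pairArr f g 1 l 1 : ℤ) : ℂ) := fun l => by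
        rw [← classInner_conj_symm, ← cell_one, hrs, hs1, add_zero, map_intCast]
      have e2 : Cfsg.classInner h.u (tau M (F.alpha ζ ω n f)) = (b : ℂ) := by
        rw [← classInner_conj_symm, hb, map_intCast]
      rw [F.psi_inner_alpha hζS h.irr hJ, hY, classInner_sub_left, classInner_sum_left,
        Finset.sum_congr rfl fun l _ => e1 l, e2, hδ] at e
      rw [← Int.cast_inj (α := ℂ)]
      push_cast at e ⊢
      linear_combination e
    · rw [hXc] at hle
      nlinarith [hle]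
    · have h1 := hrs 1 1
      rw [hs1, add_zero, ee_one, c.tau_inner_one hc hs, ← μ_one F] at h1
      have hne : P10.row c ω f ≠ 1 := fun e => hJ ((J0_row_iff c ω f).1 (e ▸ fun _ _ => MonoidHom.one_apply _))
      have he : P10.row c 1 f = 1 ↔ f = 1 := by
        rw [← cell_one, ← cell_one_one c, (Fam.cell_injective c).eq_iff]
        simp
      simp only [Fam.alpha, classInner_sub_left, classInner_smul_left, F.μ_orth, h0', if_neg hne, he,
        hδ] at h1
      rw [← Int.cast_inj (α := ℂ), ← h1]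
      split_ifs <;> simp
  have hn' : (2 : ℤ) ≤ (n : ℤ) := by exact_mod_cast hn2
  have cases3 : ∀ A S : ℤ, 0 ≤ S → S ≤ 2 + 2 * A * n - n * A ^ 2 → A = 0 ∨ A = 1 ∨ A = 2 := fun A S h1 h2 => by
    by_contra hc
    rcases le_or_gt A (-1) with h3 | h3
    · nlinarith
    · have : 3 ≤ A := by omega
      nlinarith [mul_le_mul_of_nonneg_left (show (3 : ℤ) ≤ A * (A - 2) by nlinarith) (show (0 : ℤ) ≤ n by omega)]
  have hrow3 : 3 ≤ Fintype.card (ka M K →* ℂˣ) := by rw [card_rows D]; exact D.three_le_q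
  have hcol3 : 3 ≤ Fintype.card (kb M K →* ℂˣ) := by rw [card_cols D]; exact D.three_le_p
  have zero_or_two : ∀ f (r : (ka M K →* ℂˣ) → ℤ) (s : (kb M K →* ℂˣ) → ℤ) (A : ℤ), s 1 = 0 →
      (∑ l, (r l + pairArr f g 1 l 1)) = A - 1 →
      (∑ l, ∑ k, (r l + s k + pairArr f g 1 l k) ^ 2) ≤ 2 + 2 * A * n - n * A ^ 2 →
      (A = 0 ∨ A = 2) → A = 0 := fun f r s A hs1 hR hS hA => by
    have hsmall : (∑ l, ∑ k, (r l + s k + pairArr f g 1 l k) ^ 2) ≤ 2 := by
      rcases hA with rfl | rfl <;> linarith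
    have hz := additive_pair hrow3 hcol3 r s f hg hsmall
    rw [Finset.sum_congr rfl (g := fun l => if l = f then (-1 : ℤ) else 0) fun l _ => by
      have := hz l 1
      rw [hs1, add_zero] at this
      rw [this, zero_add, pairArr_right f hg]] at hR
    rw [Finset.sum_ite_eq', if_pos (Finset.mem_univ _)] at hR
    omega
  -- the first row
  obtain ⟨r, s, A, hs1, hrs, hb, hR, hS, h11⟩ := key 1
  have hA1 : A = 0 := by
    rcases cases3 A _ (Finset.sum_nonneg fun l _ => Finset.sum_nonneg fun k _ => sq_nonneg _) hS with hA | hA | hA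
    · exact hA
    · exfalso
      set x := fun l => r l + pairArr 1 g 1 l 1
      set α := F.alpha ζ ω n 1 with hα
      have hrow1 : P10.row c 1 (1 : ka M K →* ℂˣ) = 1 := by rw [← cell_one, cell_one_one]
      have hrowω : P10.row c ω (1 : ka M K →* ℂˣ) = ω := CyclicTI.pull_one_left c.semi.split g
      have hc1 : Cfsg.conjFun α - α = (F.μ ω⁻¹ - F.μ ω) + (n : ℤ) • (ζ - Cfsg.conjFun ζ) := by
        funext w
        have e1 := congrFun (F.μ_conj ω).1 w
        simp only [Cfsg.conjFun] at e1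
        simp only [hα, Fam.alpha, hδ, hrow1, hrowω, μ_one F, Cfsg.conjFun, Pi.sub_apply, Pi.add_apply,
          Pi.smul_apply, smul_eq_mul, zsmul_eq_mul, Int.cast_one, one_mul, map_sub, map_mul, map_intCast,
          map_one, Pi.mul_apply, Pi.intCast_apply, e1]
        ring
      have hT : tau M (F.μ ω⁻¹ - F.μ ω) = F.η ω⁻¹ - F.η ω := by
        rw [F.tau_μ_sub ω⁻¹ ω (inv_ne_self c fun e => hJ (e ▸ fun _ _ => MonoidHom.one_apply _))
          (F.μ_conj ω).2 (F.μ_inv_one ω) (fun w hw => by rw [hI.inv w hw, hI w hw]), (F.μ_conj ω).2, hδ,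
          Int.cast_one, one_smul]
      have hsymm : ∀ l, x l⁻¹ = x l := fun l => by
        have hcell : Fam.cell c (l⁻¹, 1) = (Fam.cell c (l, 1))⁻¹ := by
          refine MonoidHom.ext fun w => ?_
          simp [Fam.cell, P10.row, CyclicTI.pull1, CyclicTI.pull2_one]
        have hy : Cfsg.conjFun (tau M α) = tau M α + ((F.η ω⁻¹ - F.η ω) + (n : ℤ) • tau M (ζ - Cfsg.conjFun ζ)) := by
          rw [← tau_conj, show Cfsg.conjFun α = α + (Cfsg.conjFun α - α) by abel, hc1, tau_add, tau_add, tau_zsmul, hT]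
        have hj1 : ω⁻¹ ≠ Fam.cell c (l, 1) := fun e => not_J0_inv hJ (by rw [e, cell_one]; exact Fam.row_one_J0 l)
        have hj2 : ω ≠ Fam.cell c (l, 1) := fun e => hJ (by rw [e, cell_one]; exact Fam.row_one_J0 l)
        have h1 : Cfsg.classInner (Cfsg.conjFun (tau M α)) (ee F (l, 1)) = (x l : ℂ) := by
          rw [hy, classInner_add_left, classInner_add_left, classInner_sub_left,
            Coherence.classInner_zsmul_left, hrs, diff_perp F hζS h.irr, F.η_orth, F.η_orth, if_neg hj1,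
            if_neg hj2, hs1]
          simp [x]
        have h2 : Cfsg.classInner (tau M α) (ee F (l⁻¹, 1)) = (x l : ℂ) := by
          show Cfsg.classInner _ (F.η _) = _
          rw [hcell, ← F.η_conj, ← map_intCast (starRingEnd ℂ), ← h1, ← classInner_conj_conj,
            Coherence.conjFun_conjFun]
        rw [hrs, hs1, add_zero] at h2
        exact_mod_cast h2
      have heven := two_dvd_sum_erase (A := ka M K →* ℂˣ) (by rw [card_rows D]; exact D.q_odd) x hsymm
      rw [← Finset.add_sum_erase _ _ (Finset.mem_univ (1 : ka M K →* ℂˣ)), h11, if_pos rfl, hA] at hR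
      obtain ⟨j, hj⟩ := heven
      have hR' : ∑ l ∈ Finset.univ.erase 1, x l = 1 := by
        simp only [x]
        linarith
      have : (1 : ℤ) = 2 * j := hR'.symm.trans (by convert hj)
      omega
    · exact zero_or_two 1 r s A hs1 hR hS (Or.inr hA)
  by_cases hf1 : f = 1
  · subst hf1
    rw [hb, hA1]; push_cast; ring
  have hshape := h.alpha_shape F hI hd hJ 1 (by rw [hb, hA1]; push_cast; ring)
  obtain ⟨r', s', A', hs1', hrs', hb', hR', hS', h11'⟩ := key f
  rw [hb']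
  suffices hA : A' = 0 by rw [hA]; push_cast; ring
  rcases cases3 A' _ (Finset.sum_nonneg fun l _ => Finset.sum_nonneg fun k _ => sq_nonneg _) hS' with hA | hA | hA
  · exact hA
  · exfalso
    have hin : Cfsg.classInner (F.alpha ζ ω n f) (F.alpha ζ ω n 1) = ((n : ℤ) : ℂ) ^ 2 := by
      have h1 : P10.row c ω f ≠ P10.row c ω 1 := fun e => hf1 (row_injective c ω e)
      have h2 : P10.row c 1 f ≠ P10.row c 1 1 := fun e => hf1 (row_injective c 1 e)
      have h3 : ∀ a b, P10.row c ω a ≠ P10.row c 1 b := fun a b e =>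
        (J0_row_iff c ω a).not.mpr hJ (e ▸ Fam.row_one_J0 b)
      simp [Fam.alpha, classInner_sub_left, classInner_sub_right, classInner_smul_left, classInner_smul_right,
        F.μ_orth, F.μ_inner_irr hζS h.irr, h0', classInner_self_irr h.irr, h1, h2, h3, (h3 _ _).symm]
      ring
    rw [← c.tau_inner (IsGeneralizedCharacter.isClassFunction (F.alpha_gen hζS ω n f))
      (F.alpha_supp hζS h.deg hI hd f) (IsGeneralizedCharacter.isClassFunction (F.alpha_gen hζS ω n 1)),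
      hshape, hδ, Int.cast_one, one_smul, classInner_sub_right, classInner_sub_right, classInner_smul_right,
      map_intCast, hb', show P10.row c 1 (1 : ka M K →* ℂˣ) = Fam.cell c (1, 1) from (cell_one c 1).symm,
      show P10.row c ω (1 : ka M K →* ℂˣ) = Fam.cell c (1, g) from rfl,
      show F.η (Fam.cell c (1, g)) = ee F (1, g) from rfl,
      show F.η (Fam.cell c (1, 1)) = ee F (1, 1) from rfl, hrs', hrs'] at hin
    have hr1 : r' 1 = 0 := by
      rw [pairArr_right f hg, if_neg (Ne.symm hf1), add_zero, if_neg hf1] at h11'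
      exact h11'
    have hsg : s' g = n := by
      have e : r' 1 + s' g + pairArr f g 1 1 g - (r' 1 + s' 1 + pairArr f g 1 1 1) - (n : ℤ) * (A' - n) =
          (n : ℤ) ^ 2 := by exact_mod_cast hin
      rw [pairArr_left f hg, pairArr_right f hg, if_neg (Ne.symm hf1), hr1, hs1', hA] at e
      simp only [add_zero, zero_add, if_neg (Ne.symm hf1)] at e
      linarith
    obtain ⟨l, hl1, hlf⟩ := exists_ne_two hrow3 1 f
    have hpair := pair_le_sum (f := fun l => ∑ k, (r' l + s' k + pairArr f g 1 l k) ^ 2)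
      (fun l => Finset.sum_nonneg fun k _ => sq_nonneg _) hl1.symm
    have e1 : (n : ℤ) ^ 2 ≤ ∑ k, (r' 1 + s' k + pairArr f g 1 1 k) ^ 2 := by
      refine le_trans (le_of_eq ?_) (Finset.single_le_sum (fun k _ => sq_nonneg (r' 1 + s' k + pairArr f g 1 1 k))
        (Finset.mem_univ g))
      rw [pairArr_left f hg, if_neg (Ne.symm hf1), hr1, hsg]; ring
    have e2 : 1 ≤ ∑ k, (r' l + s' k + pairArr f g 1 l k) ^ 2 := by
      by_cases h0 : r' l = 0
      · exact one_le_sum_sq (fun k => r' l + s' k + pairArr f g 1 l k) (a := g)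
          (by simp only [pairArr_left f hg, if_neg hlf, h0, hsg]; omega)
      · exact one_le_sum_sq (fun k => r' l + s' k + pairArr f g 1 l k) (a := 1)
          (by simp only [pairArr_right f hg, if_neg hlf, hs1']; omega)
    rw [hA] at hS'
    nlinarith
  · exact zero_or_two f r' s' A' hs1' hR' hS' (Or.inr hA)

/-- (11.8). -/
theorem not_exact {ζ : M → ℂ} (h : Coh c (X0 M) ζ)
    (hY : tau M (F.psi ζ) = (∑ f, F.η (P10.row c 1 f)) - h.u) : False := by
  set C : Subgroup M := ⁅U, U⁆ with hC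
  haveI : C.Normal := D.normal_der_U
  obtain ⟨X, hX, hall, hcard⟩ := D.exists_X0 hf
  obtain ⟨n, hn2, hn⟩ := D.u_form hf
  obtain ⟨g, hg, hdeg, hδ, hmem⟩ := exists_col F D hf
  set ω := CyclicTI.pull2 c.semi.split g with hω
  have hI : I0 ω := Fam.pull2_I0 c g
  have hJ : ¬ J0 ω := Fam.pull2_not_J0 c hg
  have hinv : CyclicTI.pull2 c.semi.split g⁻¹ = ω⁻¹ := MonoidHom.ext fun w => by simp [CyclicTI.pull2, hω]
  have hg' : g⁻¹ ≠ 1 := fun e => not_J0_inv hJ (by
    rw [← hinv, e, CyclicTI.pull2_one]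
    exact fun _ _ => MonoidHom.one_apply _)
  have hd : F.μ ω 1 = (F.δ ω : ℂ) + ((n : ℤ) : ℂ) * (Nat.card K : ℂ) := by
    rw [hdeg, hn, hδ, card_K (c := c) D]; push_cast; ring
  have hd' : F.μ ω⁻¹ 1 = (F.δ ω⁻¹ : ℂ) + ((n : ℤ) : ℂ) * (Nat.card K : ℂ) := by
    rw [F.μ_inv_one, (F.μ_conj ω).2, hd]
  have s1 := h.mus_shape F hI hd hJ (fun f => alpha_u F D hf h hY hg hn hn2 hdeg hδ f) hY
  have s2 := h.mus_shape F hI.inv hd' (not_J0_inv hJ) (fun f => by
    rw [← hinv]
    exact alpha_u F D hf h hY hg' hn hn2 (by rw [hinv, F.μ_inv_one, hdeg]) (by rw [hinv, (F.μ_conj ω).2, hδ]) f) hY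
  rw [hdeg, hδ, Int.cast_one, one_smul] at s1
  rw [F.μ_inv_one, hdeg, (F.μ_conj ω).2, hδ, Int.cast_one, one_smul] at s2
  set m1 := F.mus ω with hm1
  set m2 := F.mus ω⁻¹ with hm2
  have hcX : ∀ φ, φ ∈ X ↔ φ ∈ X0 M := fun φ => by rw [← Finset.mem_coe, hX]
  have hm12 : m1 ≠ m2 := fun e => c.conj_ne (F.mus_mem hJ) (by rw [F.mus_conj]; exact e.symm)
  have hm1X : m1 ∉ X := fun hm => F.mus_not_irr ω (hall _ hm).1
  have hm2X : m2 ∉ X := fun hm => F.mus_not_irr ω⁻¹ (hall _ hm).1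
  set T : Finset (M → ℂ) := insert m1 (insert m2 X) with hT
  have hTS : (↑T : Set (M → ℂ)) ⊆ calS M := by
    intro φ hφ
    simp only [hT, Finset.coe_insert, Set.mem_insert_iff, hX] at hφ
    rcases hφ with rfl | rfl | hφ
    exacts [F.mus_mem hJ, F.mus_mem (not_J0_inv hJ), h.sub hφ]
  set S1 : G → ℂ := ∑ f, F.η (P10.row c ω f) with hS1
  set S2 : G → ℂ := ∑ f, F.η (P10.row c ω⁻¹ f) with hS2
  set v : (M → ℂ) → G → ℂ := fun φ => if φ = m1 then S1 else if φ = m2 then S2 else h.t φ with hv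
  have hv1 : v m1 = S1 := by simp [hv]
  have hv2 : v m2 = S2 := by simp [hv, hm12.symm]
  have hvX : ∀ φ ∈ X, v φ = h.t φ := fun φ hφ => by
    simp only [hv]
    rw [if_neg fun e => hm1X (by rw [← e]; exact hφ), if_neg fun e => hm2X (by rw [← e]; exact hφ)]
  have hO : Coherence.IsOrth T := Coherence.sys_isOrth F.system hTS
  have hK0 : (Nat.card K : ℂ) ≠ 0 := Nat.cast_ne_zero.mpr Nat.card_pos.ne'
  have hperp : ∀ φ ∈ X, ∀ w : Chr M K, Cfsg.classInner (h.t φ) (F.η w) = 0 ∧ Cfsg.classInner (F.η w) (h.t φ) = 0 :=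
    fun φ hφ w => by
      have h1 := h.orth_eta F ((hcX φ).1 hφ) (conj_ind_mem ((hcX φ).1 hφ)) (hall φ hφ).1 w
      exact ⟨h1, by rw [← classInner_conj_symm, h1, map_zero]⟩
  have hcoh : Cfsg.IsCoherent (↑T : Set (M → ℂ)) ({1}ᶜ : Set M) (tau M) := by
    refine Coherence.isCoherent_extend hO ?_ v ?_ ?_ ?_
    · refine ⟨ζ - Cfsg.conjFun ζ, Coherence.mem_zspanOn_one.mpr ⟨?_, by
        rw [Pi.sub_apply, Coherence.conjFun_one h.irr, sub_self]⟩, sub_ne_zero.mpr (c.conj_ne h.zetaS).symm⟩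
      exact Submodule.sub_mem _ (Submodule.subset_span (by simp [hT, (hcX ζ).2 h.mem]))
        (Submodule.subset_span (by simp [hT, (hcX _).2 h.cmem]))
    · intro φ hφ
      simp only [hT, Finset.mem_insert] at hφ
      rcases hφ with rfl | rfl | hφ
      · rw [hv1]; exact isGeneralizedCharacter_sum _ fun f _ => F.η_gen _
      · rw [hv2]; exact isGeneralizedCharacter_sum _ fun f _ => F.η_gen _
      · rw [hvX φ hφ]; exact h.t_gen ((hcX φ).1 hφ)
    · intro φ hφ ψ hψ
      have hinner : ∀ a b : Chr M K, Cfsg.classInner (∑ f, F.η (P10.row c a f)) (∑ f, F.η (P10.row c b f)) =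
          Cfsg.classInner (F.mus a) (F.mus b) := fun a b => by
        simp only [Fam.mus, classInner_sum_left, classInner_sum_right, F.η_orth, F.μ_orth]
      have hx1 : ∀ φ ∈ X, ∀ a : Chr M K, Cfsg.classInner (h.t φ) (∑ f, F.η (P10.row c a f)) = 0 ∧
          Cfsg.classInner (∑ f, F.η (P10.row c a f)) (h.t φ) = 0 ∧
          Cfsg.classInner φ (F.mus a) = 0 ∧ Cfsg.classInner (F.mus a) φ = 0 := fun φ hφ a => by
        have e1 := F.mus_inner_irr (h.sub ((hcX φ).1 hφ)) (hall φ hφ).1 a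
        refine ⟨?_, ?_, by rw [← classInner_conj_symm, e1, map_zero], e1⟩
        · rw [classInner_sum_right]; exact Finset.sum_eq_zero fun f _ => (hperp φ hφ _).1
        · rw [classInner_sum_left]; exact Finset.sum_eq_zero fun f _ => (hperp φ hφ _).2
      simp only [hT, Finset.mem_insert] at hφ hψ
      rcases hφ with rfl | rfl | hφ <;> rcases hψ with rfl | rfl | hψ
      all_goals try simp only [hv1, hv2]
      · exact hinner ω ω
      · exact hinner ω ω⁻¹
      · rw [hvX ψ hψ, (hx1 ψ hψ ω).2.1, (hx1 ψ hψ ω).2.2.2]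
      · exact hinner ω⁻¹ ω
      · exact hinner ω⁻¹ ω⁻¹
      · rw [hvX ψ hψ, (hx1 ψ hψ ω⁻¹).2.1, (hx1 ψ hψ ω⁻¹).2.2.2]
      · rw [hvX φ hφ, (hx1 φ hφ ω).1, (hx1 φ hφ ω).2.2.1]
      · rw [hvX φ hφ, (hx1 φ hφ ω⁻¹).1, (hx1 φ hφ ω⁻¹).2.2.1]
      · rw [hvX φ hφ, hvX ψ hψ, h.t_inner ((hcX φ).1 hφ) ((hcX ψ).1 hψ)]
    · intro α hα
      obtain ⟨hαs, hα1⟩ := Coherence.mem_zspanOn_one.mp hα
      have P : Coherence.extend T v α - (α 1 / (Nat.card K : ℂ)) • h.u =
          tau M (α - (α 1 / (Nat.card K : ℂ)) • ζ) := by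
        clear hα hα1
        induction hαs using Submodule.span_induction with
        | zero => simp [Coherence.extend_zero, tau_zero]
        | add a b _ _ ha hb =>
          rw [Coherence.extend_add, Pi.add_apply, add_div, add_smul, add_smul, add_sub_add_comm, ha, hb,
            ← tau_add, add_sub_add_comm]
        | smul m a _ ha =>
          rw [Coherence.extend_zsmul, Pi.smul_apply, zsmul_eq_mul (a 1), mul_div_assoc, mul_smul, mul_smul,
            Int.cast_smul_eq_zsmul, Int.cast_smul_eq_zsmul, ← smul_sub, ha, ← tau_zsmul, smul_sub]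
        | mem φ hφ =>
          have hbase := Coherence.extend_basis hO v (Finset.mem_coe.1 hφ)
          simp only [hT, Finset.coe_insert, Set.mem_insert_iff, Finset.mem_coe] at hφ
          have hmus : ∀ a : Chr M K, F.μ a 1 = (((⁅U, U⁆ : Subgroup M).relIndex U : ℕ) : ℂ) →
              F.mus a 1 / (Nat.card K : ℂ) = (((⁅U, U⁆ : Subgroup M).relIndex U : ℕ) : ℂ) := fun a ha => by
            rw [F.mus_on a (one_mem (kd M)), ha, mul_div_cancel_left₀ _ hK0]
          rcases hφ with rfl | rfl | hφ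
          · rw [hbase, hv1, hmus ω hdeg]; exact s1.symm
          · rw [hbase, hv2, hmus ω⁻¹ (by rw [F.μ_inv_one, hdeg])]; exact s2.symm
          · rw [hbase, hvX φ hφ, (hall φ hφ).2, card_K (c := c) D, div_self (Nat.cast_ne_zero.mpr D.hq.ne_zero),
              one_smul, one_smul, ← h.agree _ (Coherence.mem_zspanOn_one.mpr
                ⟨Submodule.sub_mem _ (Submodule.subset_span ((hcX φ).1 hφ)) (Submodule.subset_span h.mem),
                by rw [Pi.sub_apply, (hall φ hφ).2, h.deg, card_K (c := c) D, sub_self]⟩)]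
            exact (Coherence.iso_sub (M := Submodule.span ℤ (X0 M)) h.iso
              (Submodule.subset_span ((hcX φ).1 hφ)) (Submodule.subset_span h.mem)).symm
      simpa [hα1] using P
  -- enlarge
  have hex : ∀ φ : M → ℂ, ∃ k : ℕ, φ ∈ calS M → Cfsg.classInner φ φ = (k : ℂ) := fun φ => by
    by_cases hφ : φ ∈ calS M
    · obtain ⟨k, -, hk⟩ := Coherence.sys_norm F.system hφ; exact ⟨k, fun _ => hk⟩
    · exact ⟨0, fun h => absurd h hφ⟩
  choose N hN using hex
  have hdd : ∀ φ ∈ calS M, φ 1 = ((Cfsg.charDegree φ : ℕ) : ℂ) := fun φ hφ =>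
    CharX.deg_spec (F.system.isCharacter φ hφ)
  have hY' : Cfsg.inducedIrrAbove (kd M) C ⊆ calS M := IndSet.above_subset_bot _ _
  have hdX : ∀ φ ∈ X, Cfsg.charDegree φ = q ∧ N φ = 1 := fun φ hφ => by
    refine ⟨Nat.cast_injective (R := ℂ) (by rw [← hdd φ (h.sub ((hcX φ).1 hφ)), (hall φ hφ).2]), ?_⟩
    exact Nat.cast_injective (R := ℂ) (by rw [← hN φ (h.sub ((hcX φ).1 hφ)), classInner_self_irr (hall φ hφ).1, Nat.cast_one])
  have hdm : ∀ a : Chr M K, ¬ J0 a → F.μ a 1 = ((C.relIndex U : ℕ) : ℂ) →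
      Cfsg.charDegree (F.mus a) = q * C.relIndex U ∧ N (F.mus a) = q := fun a ha ha1 => by
    refine ⟨Nat.cast_injective (R := ℂ) ?_, Nat.cast_injective (R := ℂ) ?_⟩
    · rw [← hdd _ (F.mus_mem ha), F.mus_on a (one_mem (kd M)), ha1, card_K (c := c) D]; push_cast; rfl
    · rw [← hN _ (F.mus_mem ha), F.mus_inner_self, card_K (c := c) D]
  have hζd : Cfsg.charDegree ζ = q := (hdX ζ ((hcX ζ).2 h.mem)).1
  obtain ⟨T', hsub, hT'S, -, hT'coh⟩ := Coherence.coherent_grow F.system Cfsg.charDegree N hdd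
    (fun φ hφ => hN φ hφ) T hTS
    (fun φ hφ => by
      simp only [hT, Finset.mem_insert] at hφ ⊢
      rcases hφ with rfl | rfl | hφ
      · exact Or.inr (Or.inl (F.mus_conj ω))
      · refine Or.inl ?_
        rw [hm2, ← F.mus_conj, Coherence.conjFun_conjFun]
      · exact Or.inr (Or.inr ((hcX _).2 (conj_ind_mem ((hcX φ).1 hφ)))))
    hcoh (χ₁ := ζ) (by simp [hT, (hcX ζ).2 h.mem]) hY'
    (fun χ hχ => by
      obtain ⟨d, -, hd⟩ := D.deg_SC hf hχ
      rw [hζd, show Cfsg.charDegree χ = q * d from Nat.cast_injective (R := ℂ) (by rw [← hdd χ (hY' hχ), hd])]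
      exact dvd_mul_right q d)
    (fun χ hχ => by
      obtain ⟨d, hdle, hd⟩ := D.deg_SC hf hχ
      rw [hζd, show Cfsg.charDegree χ = q * d from Nat.cast_injective (R := ℂ) (by rw [← hdd χ (hY' hχ), hd]),
        hT, Finset.sum_insert (by simp [hm12, hm1X]), Finset.sum_insert hm2X,
        Finset.sum_congr rfl (g := fun _ => (q : ℝ) ^ 2) fun φ hφ => by rw [(hdX φ hφ).1, (hdX φ hφ).2]; simp,
        (hdm ω hJ hdeg).1, (hdm ω hJ hdeg).2, (hdm ω⁻¹ (not_J0_inv hJ) (by rw [F.μ_inv_one, hdeg])).1,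
        (hdm ω⁻¹ (not_J0_inv hJ) (by rw [F.μ_inv_one, hdeg])).2, Finset.sum_const, nsmul_eq_mul]
      push_cast
      have hq : (0 : ℝ) < q := by exact_mod_cast D.hq.pos
      have hlt : (q : ℝ) < (C.relIndex U : ℕ) := by
        have : q < C.relIndex U := by rw [hn]; nlinarith [D.hq.pos]
        exact_mod_cast this
      have hle : (d : ℝ) ≤ (C.relIndex U : ℕ) := by exact_mod_cast hdle
      have hd0 : (0 : ℝ) ≤ d := Nat.cast_nonneg _
      have hX0 : (0 : ℝ) ≤ (X.card : ℝ) * (q : ℝ) ^ 2 := by positivity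
      have e : ((q : ℝ) * (C.relIndex U : ℕ)) ^ 2 / q = q * ((C.relIndex U : ℕ) : ℝ) ^ 2 := by field_simp
      rw [e]
      nlinarith [mul_le_mul_of_nonneg_left hle (sq_nonneg (q : ℝ)),
        mul_lt_mul_of_pos_left hlt (mul_pos hq (lt_trans hq hlt))])
  refine hf.not_coherent (Coherence.coherent_mono F.system hT'coh (Set.subset_union_right.trans hsub) hY'
    (fun φ hφ => conj_ind_mem hφ) ⟨_, hmem⟩)

/-- (11.8): the weak form holds, and `p < q`. -/
theorem weak_form : p < q ∧ ∃ (ζ : M → ℂ) (_ : Coh c (X0 M) ζ) (r : (ka M K →* ℂˣ) → ℤ),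
    r 1 = 1 ∧ (∀ l, r l⁻¹ = r l) ∧
      (∀ l k, Cfsg.classInner (tau M (F.psi ζ)) (ee F (l, k)) = (r l : ℂ)) ∧
      (p : ℤ) * (∑ l ∈ Finset.univ.erase 1, r l ^ 2) + p ≤ q := by
  rcases psi_dich F D hf with ⟨ζ, h, hY⟩ | ⟨ζ, h, r, h1, h2, h3, h4⟩
  · exact (not_exact F D hf h hY).elim
  · refine ⟨lt_of_le_of_ne ?_ D.p_ne_q, ζ, h, r, h1, h2, h3, h4⟩
    have : (0 : ℤ) ≤ (p : ℤ) * ∑ l ∈ Finset.univ.erase 1, r l ^ 2 :=
      mul_nonneg (Nat.cast_nonneg _) (Finset.sum_nonneg fun l _ => sq_nonneg _)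
    have h' : (p : ℤ) ≤ q := by linarith
    exact_mod_cast h'

end Cfsg.Agent.OddChar.S11
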