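/-
Peterfalvi, section 11: the bridge from the data of a maximal subgroup of Type III or IV to `Struct`,
and the assembly of the results of the section.
-/
import Cfsg.Agent.Lib.OddChar.S11.Exact
import Cfsg.Agent.Lib.OddChar.PF10.NoTypeV
import Cfsg.Agent.Lib.OddChar.P13.Struct
import Cfsg.Agent.S1388

set_option autoImplicit false
set_option linter.unusedSectionVars false
set_option linter.style.haveILetI false

namespace Cfsg.Agent.OddChar.S11

open Cfsg.Agent Cfsg.Agent.Char Cfsg.Agent.OddOrder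
open Cfsg.Agent.OddChar.P10 (Ctx Fam kd ka kb wTwo)
open scoped Classical commutatorElement

attribute [local instance] P10.dualFintype

universe u

variable {G : Type u} [Group G] [Fintype G] {M K U₀ : Subgroup G}

/-- The commutator of `M'` inside `M` lies over `M''`. -/
theorem map_der_kd (M : Subgroup G) :
    (⁅kd M, kd M⁆ : Subgroup M).map M.subtype = ⁅⁅M, M⁆, ⁅M, M⁆⁆ := by
  rw [Subgroup.map_commutator, Subgroup.map_subtype_commutator]

/-- The data of a maximal subgroup of Type III or IV as a `Struct`. -/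
theorem exists_struct (c : Ctx M K U₀) [Fintype M] (hpp : OddChar.PairPrimes G)
    (h34 : Cfsg.IsOfTypeIII M ∨ Cfsg.IsOfTypeIV M) :
    ∃ W : Subgroup G, Cfsg.IsTypePWith M K W (wTwo M K) ∧
      Struct (kd M) ((Cfsg.fittingHallOf M).subgroupOf M) (W.subgroupOf M) (ka M K) (kb M K)
        (Nat.card (wTwo M K)) (Nat.card K) := by
  obtain ⟨W, hP⟩ := c.exists_typeP
  obtain ⟨hq, hp⟩ := hpp M K W (wTwo M K) c.hM hP
  have hW : W ≠ ⊥ := by
    obtain ⟨V₁, V, V₂, hV, hV1⟩ : ∃ V₁ V V₂, Cfsg.IsTypePWith M V₁ V V₂ ∧ V ≠ ⊥ := by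
      rcases h34 with h | h <;> (obtain ⟨V₁, V, V₂, hV, hV1, -⟩ := h; exact ⟨V₁, V, V₂, hV, hV1⟩)
    obtain ⟨-, d, -, rfl⟩ := P13.data_unique c.hG c.hM hP hV
    exact fun e => hV1 ((Subgroup.map_eq_bot_iff_of_injective V (MulAut.conj d).injective).1 e)
  obtain ⟨hder, hnc⟩ := S1388.result M K W _ hP
  have hWM : W ≤ M := P13.U_le hP
  have hHM : Cfsg.fittingHallOf M ≤ M := (P13.H_le hP).trans (P13.derived_le hP)
  have hkd : ∀ x : M, x ∈ kd M ↔ (x : G) ∈ ⁅M, M⁆ := fun x => by rw [c.derived_eq]; exact c.mem_kd x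
  refine ⟨W, hP,
    { semi := c.semi
      H_normal := Subgroup.normal_subgroupOf_of_le_normalizer (FHall.le_normalizer_fittingHallOf M)
      odd := c.odd_card
      H_le := fun x hx => (hkd x).2 (hP.U_compl.1 hx)
      U_le := fun x hx => (hkd x).2 (hP.U_compl.2.1 hx)
      inf_HU := ?_
      sup_HU := ?_
      coprime_HU := ?_
      nilH := ?_
      nilU := ?_
      U_norm := ?_
      W₂_le := fun x hx => P13.W₂_le_H hP hx
      W₂_der := ?_
      hp := hp
      hq := hq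
      card_W₁ := c.card_ka
      card_W₂ := c.card_kb
      not_cent := ?_
      der_U := ?_
      der_K := ?_ }⟩
  · exact (Subgroup.eq_bot_iff_forall _).2 fun x hx =>
      Subtype.ext (Subgroup.mem_bot.1 (hP.U_compl.2.2.1.le ⟨hx.1, hx.2⟩))
  · refine le_antisymm (sup_le (fun x hx => (hkd x).2 (hP.U_compl.1 hx))
      fun x hx => (hkd x).2 (hP.U_compl.2.1 hx)) fun x hx => ?_
    obtain ⟨a, ha, b, hb, e⟩ := hP.U_compl.2.2.2 x ((hkd x).1 hx)
    rw [show x = (⟨a, hHM ha⟩ : M) * ⟨b, hWM hb⟩ from Subtype.ext e]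
    exact Subgroup.mul_mem_sup ha hb
  · rw [Nat.card_congr (Subgroup.subgroupOfEquivOfLe hHM).toEquiv,
      Nat.card_congr (Subgroup.subgroupOfEquivOfLe hWM).toEquiv]
    exact TypeP.coprime_H_U hP
  · haveI := FHall.fittingHallOf_nilpotent M
    exact Group.nilpotent_of_mulEquiv (Subgroup.subgroupOfEquivOfLe hHM).symm
  · haveI := hP.U_nilpotent
    exact Group.nilpotent_of_mulEquiv (Subgroup.subgroupOfEquivOfLe hWM).symm
  · intro x hx
    exact Subgroup.mem_normalizer_iff.2 fun y => Subgroup.mem_normalizer_iff.1 (hP.U_normal hx) (y : G)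
  · intro x hx
    have h := (hP.W₂_le hx).2
    rw [← map_der_kd] at h
    obtain ⟨y, hy, e⟩ := h
    exact Subtype.ext e ▸ hy
  · intro hle
    refine hnc hW fun u hu => Subgroup.mem_centralizer_iff.2 fun h hh => ?_
    exact congrArg Subtype.val (Subgroup.mem_centralizer_iff.1
      (hle (show (⟨u, hWM hu⟩ : M) ∈ W.subgroupOf M from hu)) ⟨h, hHM hh⟩ hh)
  · intro x hx
    have hx' : (x : G) ∈ (⁅W.subgroupOf M, W.subgroupOf M⁆ : Subgroup M).map M.subtype := ⟨x, hx, rfl⟩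
    rw [Subgroup.map_commutator, Subgroup.map_subgroupOf_eq_of_le hWM] at hx'
    exact Subgroup.mem_centralizer_iff.2 fun h hh =>
      Subtype.ext (Subgroup.mem_centralizer_iff.1 (hder hx') (h : G) hh)
  · intro x hx
    have hx' : (x : G) ∈ ⁅⁅M, M⁆, ⁅M, M⁆⁆ := by rw [← map_der_kd]; exact ⟨x, hx, rfl⟩
    obtain ⟨a, ha, b, hb, e⟩ := hP.U_compl.2.2.2 x (Subgroup.commutator_le_self _ hx')
    have hb' : b ∈ Cfsg.fittingHallOf M ⊔ (M ⊓ Subgroup.centralizer (Cfsg.fittingHallOf M : Set G)) := by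
      rw [show b = a⁻¹ * (x : G) by rw [e, inv_mul_cancel_left]]
      exact Subgroup.mul_mem _ (Subgroup.inv_mem _ (Subgroup.mem_sup_left ha)) (hP.derived_two_le hx')
    have hbC := TypeP.mem_centralizer_of_mem_U hP hb hb'
    rw [show x = (⟨a, hHM ha⟩ : M) * ⟨b, hWM hb⟩ from Subtype.ext e]
    exact Subgroup.mul_mem_sup ha ⟨hb, Subgroup.mem_centralizer_iff.2 fun h hh =>
      Subtype.ext (Subgroup.mem_centralizer_iff.1 hbC (h : G) hh)⟩

/-- The remaining input: in the situation of section 11 the complement is cyclic. -/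
def CyclicInput (G : Type u) [Group G] [Fintype G] : Prop :=
  ∀ (M K U₀ : Subgroup G) [Fintype M] (c : Ctx M K U₀) (H U : Subgroup M) (p q : ℕ),
    Struct (kd M) H U (ka M K) (kb M K) p q → Facts (kd M) H U p q (P10.tau M) → Fam c →
      IsCyclic U ∧ (⁅U, U⁆ : Subgroup M) = ⊥

/-- The facts of section 11 in the language of the group `G`. -/
theorem main (c : Ctx M K U₀) [Fintype M] (hpp : OddChar.PairPrimes G) (hnc : OddChar.NotCoherent345 G)
    (hcyc : CyclicInput G) (h34 : Cfsg.IsOfTypeIII M ∨ Cfsg.IsOfTypeIV M) :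
    ∃ W : Subgroup G, Cfsg.IsTypePWith M K W (wTwo M K) ∧ IsCyclic W ∧
      Nat.card (wTwo M K) < Nat.card K ∧
      Cfsg.IsElementaryAbelian (Nat.card (wTwo M K)) (Cfsg.fittingHallOf M) ∧
      Nat.card (Cfsg.fittingHallOf M) = Nat.card (wTwo M K) ^ Nat.card K ∧
      W ⊓ Subgroup.centralizer (Cfsg.fittingHallOf M : Set G) = ⊥ := by
  obtain ⟨W, hP, D⟩ := exists_struct c hpp h34
  obtain ⟨F⟩ := P10.exists_fam c
  have h345 : Cfsg.IsOfTypeIII M ∨ Cfsg.IsOfTypeIV M ∨ Cfsg.IsOfTypeV M :=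
    h34.elim Or.inl fun h => Or.inr (Or.inl h)
  have hf := D.facts F.system (hnc M c.hM h345)
  obtain ⟨hlt, -⟩ := weak_form F D hf
  obtain ⟨hc, hd⟩ := hcyc M K U₀ c _ _ _ _ D hf F
  have hWM : W ≤ M := P13.U_le hP
  have hHM : Cfsg.fittingHallOf M ≤ M := (P13.H_le hP).trans (P13.derived_le hP)
  haveI := hc
  refine ⟨W, hP, isCyclic_of_surjective (Subgroup.subgroupOfEquivOfLe hWM).toMonoidHom
    (Subgroup.subgroupOfEquivOfLe hWM).surjective, hlt, ⟨?_, fun x hx => ?_⟩, ?_, ?_⟩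
  · haveI := hf.elem.1
    exact ⟨⟨fun a b => Subtype.ext (congrArg (fun z : M => (z : G)) (congrArg Subtype.val
      (mul_comm' (⟨⟨a, hHM a.2⟩, a.2⟩ : (Cfsg.fittingHallOf M).subgroupOf M) ⟨⟨b, hHM b.2⟩, b.2⟩)))⟩⟩
  · exact congrArg (fun z : M => (z : G)) (hf.elem.2 ⟨x, hHM hx⟩ hx)
  · rw [← hf.card_H]
    exact (Nat.card_congr (Subgroup.subgroupOfEquivOfLe hHM).toEquiv).symm
  · refine (Subgroup.eq_bot_iff_forall _).2 fun x hx => ?_
    have h1 : (⟨x, hWM hx.1⟩ : M) ∈ W.subgroupOf M ⊓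
        Subgroup.centralizer (((Cfsg.fittingHallOf M).subgroupOf M : Subgroup M) : Set M) :=
      ⟨hx.1, Subgroup.mem_centralizer_iff.2 fun h hh =>
        Subtype.ext (Subgroup.mem_centralizer_iff.1 hx.2 (h : G) hh)⟩
    rw [hf.cent_H, hd, Subgroup.mem_bot] at h1
    exact congrArg Subtype.val h1

variable (hG : Cfsg.IsMinSimpleOddOrder G) (hpp : OddChar.PairPrimes G) (hnc : OddChar.NotCoherent345 G)
  (hcyc : CyclicInput G)
include hG hpp hnc hcyc

/-- The facts of section 11 for arbitrary data. -/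
theorem facts_of_data {M W₁ U W₂ : Subgroup G} (hM : IsCoatom M)
    (h34 : Cfsg.IsOfTypeIII M ∨ Cfsg.IsOfTypeIV M) (hP : Cfsg.IsTypePWith M W₁ U W₂) :
    IsCyclic U ∧ Nat.card W₂ < Nat.card W₁ ∧
      Cfsg.IsElementaryAbelian (Nat.card W₂) (Cfsg.fittingHallOf M) ∧
      Nat.card (Cfsg.fittingHallOf M) = Nat.card W₂ ^ Nat.card W₁ ∧
      U ⊓ Subgroup.centralizer (Cfsg.fittingHallOf M : Set G) = ⊥ := by
  haveI : Fintype M := Fintype.ofFinite _
  obtain ⟨K, U₀, c⟩ := P10.exists_ctx hG hM (h34.elim Or.inl fun h => Or.inr (Or.inl h))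
  obtain ⟨W, hPK, hWc, hlt, hE, hcard, hC⟩ := main c hpp hnc hcyc h34
  obtain ⟨hq, d, hd, hU⟩ := P13.data_unique hG hM hPK hP
  have hp : Nat.card W₂ = Nat.card (wTwo M K) := by
    obtain ⟨-, hp2⟩ := hpp M W₁ U W₂ hM hP
    obtain ⟨-, hp2'⟩ := hpp M K W _ hM hPK
    have h : Nat.card W₂ ∣ Nat.card (wTwo M K) ^ Nat.card K :=
      hcard ▸ Subgroup.card_dvd_of_le (P13.W₂_le_H hP)
    exact (Nat.prime_dvd_prime_iff_eq hp2 hp2').1 (hp2.dvd_of_dvd_pow h)
  rw [hp, hq]
  set f := (MulAut.conj d).toMonoidHom with hf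
  have hi : Function.Injective f := (MulAut.conj d).injective
  refine ⟨?_, hlt, hE, hcard, ?_⟩
  · haveI := hWc
    exact isCyclic_of_injective ((MulEquiv.subgroupCongr hU).toMonoidHom.comp
      (U.equivMapOfInjective f hi).toMonoidHom)
      ((MulEquiv.subgroupCongr hU).injective.comp (U.equivMapOfInjective f hi).injective)
  · refine (Subgroup.eq_bot_iff_forall _).2 fun x hx => hi ?_
    rw [map_one, ← Subgroup.mem_bot, ← hC]
    refine ⟨hU.le ⟨x, hx.1, rfl⟩, Subgroup.mem_centralizer_iff.2 fun h hh => ?_⟩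
    have hn := FHall.le_normalizer_fittingHallOf M (M.inv_mem (P13.derived_le hP hd))
    have h' : d⁻¹ * h * d ∈ Cfsg.fittingHallOf M := by
      simpa using (Subgroup.mem_normalizer_iff.1 hn h).1 hh
    have := Subgroup.mem_centralizer_iff.1 hx.2 _ h'
    show h * (d * x * d⁻¹) = d * x * d⁻¹ * h
    calc h * (d * x * d⁻¹) = d * (d⁻¹ * h * d * x) * d⁻¹ := by group
      _ = d * (x * (d⁻¹ * h * d)) * d⁻¹ := by rw [this]
      _ = d * x * d⁻¹ * h := by group

/-- PF 11: no maximal subgroup of Type IV. -/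
theorem noTypeIV_of : OddChar.NoTypeIV G := by
  intro M hM h
  obtain ⟨W₁, U, W₂, hP, -, -, -, hna, -⟩ := id h
  haveI := (facts_of_data hG hpp hnc hcyc hM (Or.inr h) hP).1
  exact hna ⟨⟨fun a b => (IsCyclic.commGroup (α := U)).mul_comm a b⟩⟩

/-- PF 11.9. -/
theorem typeThreeFacts_of : OddChar.TypeThreeFacts G := fun _ _ _ _ hM h hP =>
  (facts_of_data hG hpp hnc hcyc hM (Or.inl h) hP).2

/-- PF 11.9: in Type III the complement is cyclic. -/
theorem typeThreeCyclic_of : OddChar.TypeThreeCyclic G := fun _ _ _ _ hM h hP =>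
  (facts_of_data hG hpp hnc hcyc hM (Or.inl h) hP).1

end Cfsg.Agent.OddChar.S11
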