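/-
Peterfalvi (11.9), group theory: if `U` acts irreducibly on `H` then `U` is cyclic; otherwise there is
a `U`-invariant subgroup of index `p` in `H`, moved by every non-identity element of `W₁`.
-/
import Cfsg.Agent.Lib.OddChar.S11.Elementary
import Cfsg.Agent.Lib.RelMcKay.IrreducibleCyclic
import Cfsg.Agent.Lib.CoprimeGen.Nilpotent

set_option autoImplicit false
set_option linter.unusedSectionVars false
set_option linter.style.haveILetI false

namespace Cfsg.Agent.OddChar.S11

open Cfsg.Agent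
open scoped commutatorElement

universe u v

variable {L : Type u} [Group L] [Fintype L] {G : Type v} [Group G] [Fintype G]

/-- Intersections of subgroups normalised by `U` are normalised by `U`. -/
theorem le_normalizer_inf' {U A B : Subgroup L} (hA : U ≤ Subgroup.normalizer (A : Set L))
    (hB : U ≤ Subgroup.normalizer (B : Set L)) : U ≤ Subgroup.normalizer ((A ⊓ B : Subgroup L) : Set L) :=
  fun v hv => Subgroup.mem_normalizer_iff_map_conj_eq.2 (by
    rw [Subgroup.map_inf _ _ _ (MulEquiv.injective _), Subgroup.mem_normalizer_iff_map_conj_eq.1 (hA hv),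
      Subgroup.mem_normalizer_iff_map_conj_eq.1 (hB hv)])

/-- Joins of subgroups normalised by `U` are normalised by `U`. -/
theorem le_normalizer_sup' {U A B : Subgroup L} (hA : U ≤ Subgroup.normalizer (A : Set L))
    (hB : U ≤ Subgroup.normalizer (B : Set L)) : U ≤ Subgroup.normalizer ((A ⊔ B : Subgroup L) : Set L) :=
  fun v hv => Subgroup.mem_normalizer_iff_map_conj_eq.2 (by
    rw [Subgroup.map_sup, Subgroup.mem_normalizer_iff_map_conj_eq.1 (hA hv),
      Subgroup.mem_normalizer_iff_map_conj_eq.1 (hB hv)])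

namespace Struct

variable {K H U W₁ W₂ : Subgroup L} {p q : ℕ} (D : Struct K H U W₁ W₂ p q)
  {τ : (L → ℂ) → (G → ℂ)} (hf : Facts K H U p q τ)
include D hf

theorem der_U_centralizes {v : L} (hv : v ∈ (⁅U, U⁆ : Subgroup L)) {x : L} (hx : x ∈ H) :
    v * x = x * v :=
  (Subgroup.mem_centralizer_iff.1 (hf.cent_H.ge hv).2 x hx).symm

/-- If `U` acts irreducibly on `H`, it is cyclic. -/
theorem cyclic_of_irreducible
    (hirr : ∀ N : Subgroup L, N ≤ H → U ≤ Subgroup.normalizer (N : Set L) → N = ⊥ ∨ N = H) :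
    IsCyclic U ∧ ⁅U, U⁆ = ⊥ := by
  classical
  haveI := D.H_normal
  haveI := hf.elem.1
  haveI := Fact.mk D.hp
  letI : CommGroup H := { (inferInstance : Group H) with mul_comm := fun a b => mul_comm' a b }
  haveI : Nontrivial H := Finite.one_lt_card_iff_nontrivial.1 (by
    rw [hf.card_H]; exact Nat.one_lt_pow D.hq.ne_zero D.hp.one_lt)
  let f : U →* MulAut H := (MulAut.conjNormal (H := H)).comp U.subtype
  have hker : ∀ v : U, v ∈ f.ker → (v : L) ∈ (⁅U, U⁆ : Subgroup L) := fun v hv => by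
    rw [← hf.cent_H]
    refine ⟨v.2, Subgroup.mem_centralizer_iff.2 fun x hx => ?_⟩
    have h : (v : L) * x * (v : L)⁻¹ = x :=
      congrArg Subtype.val (DFunLike.congr_fun (MonoidHom.mem_ker.1 hv) (⟨x, hx⟩ : H))
    exact (mul_inv_eq_iff_eq_mul.1 h).symm
  have hcomm : ∀ a b : U, f a * f b = f b * f a := fun a b => by
    have hk : f ⁅a, b⁆ = 1 := MulEquiv.ext fun x => Subtype.ext (by
      have hm : ((⁅a, b⁆ : U) : L) ∈ (⁅U, U⁆ : Subgroup L) := by
        rw [commutatorElement_def]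
        exact Subgroup.commutator_mem_commutator a.2 b.2
      show ((⁅a, b⁆ : U) : L) * x * ((⁅a, b⁆ : U) : L)⁻¹ = x
      rw [D.der_U_centralizes hf hm x.2, mul_inv_cancel_right])
    rw [map_commutatorElement, commutatorElement_eq_one_iff_mul_comm] at hk
    exact hk
  have hrange := RelMcKay.isCyclic_of_irreducible f hcomm fun N hN => by
    set N' : Subgroup L := N.map H.subtype with hN'
    have hinv : U ≤ Subgroup.normalizer (N' : Set L) := fun v hv => by
      refine Subgroup.mem_normalizer_iff_map_conj_eq.2 (Subgroup.eq_of_le_of_card_ge ?_ ?_)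
      · rintro _ ⟨_, ⟨y, hy, rfl⟩, rfl⟩
        exact ⟨_, hN ⟨v, hv⟩ y hy, rfl⟩
      · exact (Subgroup.card_map_of_injective (MulAut.conj v).injective).ge
    rcases hirr N' (Subgroup.map_subtype_le N) hinv with h | h
    · exact Or.inl ((Subgroup.map_eq_bot_iff_of_injective N H.subtype_injective).1 h)
    · refine Or.inr (Subgroup.map_injective H.subtype_injective ?_)
      rw [← hN', h, ← MonoidHom.range_eq_map, Subgroup.range_subtype]
  obtain ⟨g, hg⟩ := (isCyclic_iff_exists_zpowers_eq_top (α := f.range)).1 hrange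
  obtain ⟨a, ha⟩ := MonoidHom.rangeRestrict_surjective f g
  haveI := D.nilU
  have hgen : Subgroup.zpowers (a : L) = U := by
    refine CoprimeGen.eq_of_sup_commutator (Subgroup.zpowers_le.2 a.2) (le_antisymm
      (sup_le (Subgroup.zpowers_le.2 a.2) (Subgroup.commutator_le_self U)) fun v hv => ?_)
    obtain ⟨k, hk⟩ := Subgroup.mem_zpowers_iff.1 (hg.ge (Subgroup.mem_top (f.rangeRestrict ⟨v, hv⟩)))
    rw [← ha, ← map_zpow] at hk
    have hm : ((a ^ k : U))⁻¹ * ⟨v, hv⟩ ∈ f.ker := by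
      have h : f (a ^ k) = f ⟨v, hv⟩ := congrArg Subtype.val hk
      rw [MonoidHom.mem_ker, map_mul, map_inv, h, inv_mul_cancel]
    have h := Subgroup.mul_mem_sup (Subgroup.zpow_mem _ (Subgroup.mem_zpowers (a : L)) k) (hker _ hm)
    simpa using h
  have hcyc : IsCyclic U := hgen ▸ inferInstance
  refine ⟨hcyc, le_bot_iff.1 (Subgroup.commutator_le.2 fun x hx y hy => ?_)⟩
  rw [Subgroup.mem_bot, commutatorElement_eq_one_iff_mul_comm]
  exact congrArg Subtype.val (IsCyclic.commGroup.mul_comm (⟨x, hx⟩ : U) ⟨y, hy⟩)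

/-- A subgroup of `H` normalised by `U` and `W₁` is `⊥` or `H`. -/
theorem eq_of_invariant {N : Subgroup L} (hN : N ≤ H) (hU : U ≤ Subgroup.normalizer (N : Set L))
    (hW : W₁ ≤ Subgroup.normalizer (N : Set L)) : N = ⊥ ∨ N = H := by
  refine hf.min N ?_ hN
  refine normal_of_normalizer D.sup_top (fun h hh => ?_) hU hW
  haveI := hf.elem.1
  exact (Subgroup.centralizer_le_normalizer _) (Subgroup.mem_centralizer_iff.2 fun x hx =>
    congrArg Subtype.val (mul_comm' (⟨x, hN hx⟩ : H) ⟨h, hh⟩))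

/-- In the reducible case there is a `U`-invariant subgroup of index `p`. -/
theorem exists_index_p
    (hred : ¬ ∀ N : Subgroup L, N ≤ H → U ≤ Subgroup.normalizer (N : Set L) → N = ⊥ ∨ N = H) :
    ∃ Hs T : Subgroup L, Hs ≤ H ∧ Hs.relIndex H = p ∧ U ≤ Subgroup.normalizer (Hs : Set L) ∧
      (∀ e ∈ W₁, e ≠ 1 → e ∉ Subgroup.normalizer (Hs : Set L)) ∧ T ≤ U ∧ ⁅U, U⁆ ≤ T ∧
      (∀ v, v ∈ T ↔ v ∈ U ∧ ∀ x ∈ H, v * x * v⁻¹ * x⁻¹ ∈ Hs) ∧
      2 * T.relIndex U ≤ p - 1 ∧ T.relIndex U ≠ 1 := by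
  classical
  haveI := D.H_normal
  haveI := hf.elem.1
  haveI := Fact.mk D.hp
  push Not at hred
  obtain ⟨N, hNH, hNU, hN1, hN2⟩ := hred
  let 𝒮 : Set (Subgroup L) := {X | X ≤ H ∧ U ≤ Subgroup.normalizer (X : Set L) ∧ X ≠ H}
  obtain ⟨Hs, hNle, ⟨⟨hsH, hsU, hsne⟩, hmax⟩⟩ :=
    Finite.exists_le_maximal (p := fun X => X ∈ 𝒮) (a := N) ⟨hNH, hNU, hN2⟩
  have hs1 : Hs ≠ ⊥ := fun e => hN1 (le_bot_iff.1 (e ▸ hNle))
  have hfull : ∀ X : Subgroup L, X ≤ H → U ≤ Subgroup.normalizer (X : Set L) → Hs ≤ X → ¬ X ≤ Hs → X = H :=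
    fun X hX hXU hle hnle => by_contra fun hne => hnle (hmax ⟨hX, hXU, hne⟩ hle)
  obtain ⟨d, hdq, hd⟩ := (Nat.dvd_prime_pow D.hp).1 (hf.card_H ▸ Subgroup.relIndex_dvd_card Hs H)
  -- the translates of `Hs`
  let X : W₁ → Subgroup L := fun e => Hs.map (MulAut.conj (e : L)).toMonoidHom
  have hXH : ∀ e, X e ≤ H := fun e => by
    rintro _ ⟨y, hy, rfl⟩
    exact D.H_normal.conj_mem y (hsH hy) e
  have hXU : ∀ e, U ≤ Subgroup.normalizer (X e : Set L) := fun e v hv => by
    have h := Subgroup.le_normalizer_map (H := Hs) (MulAut.conj (e : L)).toMonoidHom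
      ⟨(e : L)⁻¹ * v * (e : L)⁻¹⁻¹, hsU (D.conj_U (W₁.inv_mem e.2) hv), rfl⟩
    have e1 : (MulAut.conj (e : L)).toMonoidHom ((e : L)⁻¹ * v * (e : L)⁻¹⁻¹) = v := by
      show (e : L) * _ * (e : L)⁻¹ = v
      group
    rwa [e1] at h
  have hXidx : ∀ e, (X e).relIndex H = p ^ d := fun e => by
    have hHmap : H.map (MulAut.conj (e : L)).toMonoidHom = H := Subgroup.mem_normalizer_iff_map_conj_eq.1
      ((Subgroup.le_normalizer_of_normal : (⊤ : Subgroup L) ≤ Subgroup.normalizer (H : Set L))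
        (Subgroup.mem_top _))
    conv_lhs => rw [← hHmap]
    rw [Subgroup.relIndex_map_map_of_injective _ _ (MulEquiv.injective _), hd]
  have hXmax : ∀ e, ∀ Y : Subgroup L, Y ≤ H → U ≤ Subgroup.normalizer (Y : Set L) → X e ≤ Y → ¬ Y ≤ X e → Y = H := by
    intro e Y hY hYU hle hnle
    set c := MulAut.conj (e : L)⁻¹ with hc
    have hback : ∀ Z : Subgroup L, (Z.map (MulAut.conj (e : L)).toMonoidHom).map c.toMonoidHom = Z := fun Z => by
      rw [Subgroup.map_map]
      convert Subgroup.map_id Z using 2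
      ext z
      show (e : L)⁻¹ * ((e : L) * z * (e : L)⁻¹) * (e : L)⁻¹⁻¹ = z
      group
    have hfor : ∀ Z : Subgroup L, (Z.map c.toMonoidHom).map (MulAut.conj (e : L)).toMonoidHom = Z := fun Z => by
      rw [Subgroup.map_map]
      convert Subgroup.map_id Z using 2
      ext z
      show (e : L) * ((e : L)⁻¹ * z * (e : L)⁻¹⁻¹) * (e : L)⁻¹ = z
      group
    have hZ : Y.map c.toMonoidHom = H := by
      refine hfull _ ?_ (fun v hv => ?_) (hback Hs ▸ Subgroup.map_mono hle) fun h => hnle ?_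
      · rintro _ ⟨y, hy, rfl⟩
        exact D.H_normal.conj_mem y (hY hy) _
      · have h := Subgroup.le_normalizer_map (H := Y) c.toMonoidHom
          ⟨(e : L) * v * (e : L)⁻¹, hYU (D.conj_U e.2 hv), rfl⟩
        have e1 : c.toMonoidHom ((e : L) * v * (e : L)⁻¹) = v := by
          show (e : L)⁻¹ * _ * (e : L)⁻¹⁻¹ = v
          group
        rwa [e1] at h
      · rw [← hfor Y]
        exact Subgroup.map_mono h
    rw [← hfor Y, hZ]
    exact Subgroup.mem_normalizer_iff_map_conj_eq.1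
      ((Subgroup.le_normalizer_of_normal : (⊤ : Subgroup L) ≤ Subgroup.normalizer (H : Set L))
        (Subgroup.mem_top _))
  have hstep : ∀ (e : W₁) (M : Subgroup L), M ≤ H → U ≤ Subgroup.normalizer (M : Set L) →
      ∃ k : ℕ, (X e ⊓ M).relIndex M = (p ^ d) ^ k := fun e M hM hMU => by
    by_cases h : M ≤ X e
    · exact ⟨0, by rw [inf_eq_right.2 h, Subgroup.relIndex_self, pow_zero]⟩
    · refine ⟨1, ?_⟩
      have hsup : X e ⊔ M = H := hXmax e _ (sup_le (hXH e) hM) (le_normalizer_sup' (hXU e) hMU)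
        le_sup_left fun h' => h (le_sup_right.trans h')
      rw [Subgroup.inf_relIndex_right, pow_one, ← hXidx e]
      conv_rhs => rw [← hsup]
      rw [← Subgroup.relIndex_subgroupOf (sup_le (hXH e) hM), ← Subgroup.relIndex_subgroupOf hM,
        Subgroup.subgroupOf_sup (hXH e) hM, Subgroup.relIndex_sup_left]
  have hall : ∀ s : Finset W₁, ∃ k : ℕ, (s.inf X ⊓ H).relIndex H = (p ^ d) ^ k ∧
      U ≤ Subgroup.normalizer ((s.inf X ⊓ H : Subgroup L) : Set L) := fun s => by
    induction s using Finset.induction with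
    | empty =>
      refine ⟨0, by simp, ?_⟩
      rw [Finset.inf_empty, top_inf_eq]
      exact D.U_norm_H
    | insert e t he ih =>
      obtain ⟨k, hk, hn⟩ := ih
      rw [Finset.inf_insert, inf_assoc]
      obtain ⟨k', hk'⟩ := hstep e _ inf_le_right hn
      refine ⟨k' + k, ?_, le_normalizer_inf' (hXU e) hn⟩
      rw [← Subgroup.relIndex_mul_relIndex _ _ _ inf_le_right inf_le_right, hk', hk, pow_add]
  obtain ⟨k, hk, hkU⟩ := hall Finset.univ
  have hbot : Finset.univ.inf X ⊓ H = ⊥ := by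
    refine (D.eq_of_invariant hf inf_le_right hkU fun w hw => ?_).resolve_right fun h => hsne ?_
    · refine Subgroup.mem_normalizer_iff_map_conj_eq.2 (Subgroup.eq_of_le_of_card_ge ?_ ?_)
      · rintro _ ⟨y, hy, rfl⟩
        refine ⟨(Finset.le_inf fun e _ => ?_ : Subgroup.zpowers _ ≤ Finset.univ.inf X) (Subgroup.mem_zpowers _),
          D.H_normal.conj_mem y hy.2 w⟩
        rw [Subgroup.zpowers_le]
        obtain ⟨z, hz, hze⟩ := Finset.inf_le (f := X) (Finset.mem_univ ((⟨w, hw⟩ : W₁)⁻¹ * e)) hy.1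
        refine ⟨z, hz, ?_⟩
        rw [← hze]
        show (e : L) * z * (e : L)⁻¹ = w * ((w⁻¹ * (e : L)) * z * (w⁻¹ * (e : L))⁻¹) * w⁻¹
        group
      · exact (Subgroup.card_map_of_injective (MulAut.conj w).injective).ge
    · refine le_antisymm hsH (h.ge.trans (inf_le_left.trans ((Finset.inf_le (Finset.mem_univ (1 : W₁))).trans ?_)))
      rintro _ ⟨z, hz, rfl⟩
      simpa using hz
  rw [hbot, Subgroup.relIndex_bot_left, hf.card_H, ← pow_mul] at hk
  have hdk : q = d * k := Nat.pow_right_injective D.hp.two_le hk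
  have hd1 : d = 1 := by
    rcases (Nat.dvd_prime D.hq).1 ⟨k, hdk⟩ with h | h
    · exact h
    · exfalso
      have := Subgroup.card_mul_index (Hs.subgroupOf H)
      rw [show (Hs.subgroupOf H).index = Hs.relIndex H from rfl, hd, h, hf.card_H,
        Nat.card_congr (Subgroup.subgroupOfEquivOfLe hsH).toEquiv] at this
      exact hs1 (Subgroup.eq_bot_of_card_eq _ ((mul_eq_right₀ (pow_ne_zero _ D.hp.ne_zero)).1 this))
  rw [hd1, pow_one] at hd
  -- the kernel of the action on `H / Hs`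
  letI : CommGroup H := { (inferInstance : Group H) with mul_comm := fun a b => mul_comm' a b }
  set N' : Subgroup H := Hs.subgroupOf H with hN'
  haveI : N'.Normal := inferInstance
  have hmap : ∀ v : U, N'.map (MulAut.conjNormal (H := H) (v : L)).toMonoidHom = N' := fun v => by
    refine Subgroup.eq_of_le_of_card_ge ?_ ?_
    · rintro _ ⟨y, hy, rfl⟩
      exact CoprimeAct.conj_mem_of_mem_normalizer (hsU v.2) hy
    · exact (Subgroup.card_map_of_injective (MulAut.conjNormal (H := H) (v : L)).injective).ge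
  let f : U →* MulAut (H ⧸ N') :=
    { toFun := fun v => QuotientGroup.congr N' N' (MulAut.conjNormal (H := H) (v : L)) (hmap v)
      map_one' := MulEquiv.ext fun z => by
        obtain ⟨y, rfl⟩ := QuotientGroup.mk_surjective z
        exact congrArg QuotientGroup.mk (Subtype.ext (by simp))
      map_mul' := fun a b => MulEquiv.ext fun z => by
        obtain ⟨y, rfl⟩ := QuotientGroup.mk_surjective z
        exact congrArg QuotientGroup.mk (Subtype.ext (by simp [mul_assoc])) }
  have hfk : ∀ v : U, v ∈ f.ker ↔ ∀ x ∈ H, (v : L) * x * (v : L)⁻¹ * x⁻¹ ∈ Hs := fun v => by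
    constructor
    · intro hv x hx
      have h := DFunLike.congr_fun (MonoidHom.mem_ker.1 hv) ((⟨x, hx⟩ : H) : H ⧸ N')
      exact (QuotientGroup.eq_iff_div_mem.1 h : _ ∈ N') |> fun h => by
        simpa [hN', Subgroup.mem_subgroupOf, div_eq_mul_inv] using h
    · intro h
      refine MonoidHom.mem_ker.2 (MulEquiv.ext fun z => ?_)
      obtain ⟨⟨x, hx⟩, rfl⟩ := QuotientGroup.mk_surjective z
      refine QuotientGroup.eq_iff_div_mem.2 ?_
      simpa [hN', Subgroup.mem_subgroupOf, div_eq_mul_inv] using h x hx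
  refine ⟨Hs, f.ker.map U.subtype, hsH, hd, hsU, fun e he he1 hen => ?_, Subgroup.map_subtype_le _, ?_,
    fun v => ?_, ?_, fun h1 => ?_⟩
  · refine ((D.eq_of_invariant hf hsH hsU ?_).resolve_left hs1 |> hsne)
    have hpr : (Nat.card W₁).Prime := D.card_W₁ ▸ D.hq
    haveI := Fact.mk hpr
    intro w hw
    obtain ⟨i, hi⟩ := Subgroup.mem_zpowers_iff.1
      (mem_zpowers_of_prime_card (g := (⟨e, he⟩ : W₁)) (g' := ⟨w, hw⟩) rfl (fun h => he1 (congrArg Subtype.val h)))
    have hw' : e ^ i = w := congrArg Subtype.val hi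
    exact hw' ▸ Subgroup.zpow_mem _ hen i
  · intro v hv
    refine ⟨⟨v, Subgroup.commutator_le_self U hv⟩, (hfk _).2 fun x hx => ?_, rfl⟩
    show v * x * v⁻¹ * x⁻¹ ∈ Hs
    rw [D.der_U_centralizes hf hv hx, mul_inv_cancel_right, mul_inv_cancel]
    exact Hs.one_mem
  · constructor
    · rintro ⟨w, hw, rfl⟩
      exact ⟨w.2, (hfk w).1 hw⟩
    · rintro ⟨hv, h⟩
      exact ⟨⟨v, hv⟩, (hfk _).2 h, rfl⟩
  · have hrel : (f.ker.map U.subtype).relIndex U = Nat.card f.range := by
      rw [← Subgroup.index_ker, Subgroup.relIndex, Subgroup.subgroupOf,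
        Subgroup.comap_map_eq_self_of_injective U.subtype_injective]
    have hQ : Nat.card (H ⧸ N') = p := hd
    haveI : IsCyclic (H ⧸ N') := isCyclic_of_prime_card hQ
    have hAut : Nat.card (MulAut (H ⧸ N')) = p - 1 := by
      rw [Nat.card_congr (IsCyclic.mulAutMulEquiv (H ⧸ N')).toEquiv, hQ, Nat.card_eq_fintype_card,
        ZMod.card_units]
    have hdvd : Nat.card f.range ∣ p - 1 := hAut ▸ Subgroup.card_subgroup_dvd_card f.range
    have hodd : Odd (Nat.card f.range) :=
      (D.odd.of_dvd_nat (Subgroup.card_subgroup_dvd_card U)).of_dvd_nat (Subgroup.card_range_dvd f)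
    rw [hrel]
    obtain ⟨m, hm⟩ := hdvd
    have hp3 := D.three_le_p
    have hm2 : 2 ≤ m := by
      by_contra hlt
      obtain ⟨i, hi⟩ := D.p_odd
      obtain ⟨j, hj⟩ := hodd
      interval_cases m <;> omega
    calc 2 * Nat.card f.range ≤ m * Nat.card f.range := Nat.mul_le_mul_right _ hm2
      _ = p - 1 := by rw [hm, mul_comm]
  · have hTU : U ≤ f.ker.map U.subtype := Subgroup.relIndex_eq_one.1 h1
    refine hsne (le_antisymm hsH ?_)
    rw [hf.hu]
    refine Subgroup.commutator_le.2 fun x hx v hv => ?_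
    obtain ⟨w, hw, hwv⟩ := hTU hv
    have h := Hs.inv_mem ((hfk w).1 hw x hx)
    rw [show (w : L) = v from hwv] at h
    simpa [commutatorElement_def, mul_assoc] using h

end Struct

end Cfsg.Agent.OddChar.S11
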