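/-
Peterfalvi (11.9): `U` acts irreducibly on `H`.
-/
import Cfsg.Agent.Lib.OddChar.S11.Exact
import Cfsg.Agent.Lib.OddChar.S11.Irr

set_option autoImplicit false
set_option linter.unusedSectionVars false

namespace Cfsg.Agent.OddChar.S11

open Cfsg.Agent Cfsg.Agent.Char Cfsg.Agent.OddChar.P10
open scoped Classical ComplexConjugate commutatorElement

attribute [local instance] P10.dualFintype

universe u

variable {G : Type u} [Group G] [Fintype G] {M K U₀ : Subgroup G} {c : Ctx M K U₀} [Fintype M]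

/-- Images of irreducible members under an isometry extending the Dade map are orthogonal to the cyclic
family. -/
theorem img_perp (F : Fam c) {X : Set (M → ℂ)} {t : (M → ℂ) → (G → ℂ)} (hX : X ⊆ calS M)
    (hiso : Cfsg.IsLinearIsometryOn (Cfsg.zspan X) t)
    (hag : ∀ α ∈ Cfsg.zspanOn X ({1}ᶜ : Set M), t α = tau M α) {φ : M → ℂ} (hφ : φ ∈ X)
    (hcφ : Cfsg.conjFun φ ∈ X) (hirr : Cfsg.IsIrrCharacter M φ) (ω : Chr M K) :
    Cfsg.classInner (t φ) (F.η ω) = 0 := by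
  obtain ⟨μ, hμ, hne, he, -, -⟩ := c.tau_irr_sub (hX hφ) hirr
  obtain ⟨o1, o2⟩ := F.orth_eta_irr (hX hφ) hirr hμ hne he ω
  have hc : Cfsg.IsIrrCharacter M (Cfsg.conjFun φ) := IsIrrCharacter.conj hirr
  have hs : Cfsg.IsGeneralizedCharacter G (t φ) :=
    Coherence.iso_gen (M := Submodule.span ℤ X) hiso (Submodule.subset_span hφ)
  have hin := Coherence.iso_inner (M := Submodule.span ℤ X) hiso (Submodule.subset_span hφ)
    (Submodule.subset_span hφ)
  have hin' := Coherence.iso_inner (M := Submodule.span ℤ X) hiso (Submodule.subset_span hφ)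
    (Submodule.subset_span hcφ)
  rw [classInner_self_irr hirr] at hin
  rw [classInner_irr_of_ne hirr hc (c.conj_ne (hX hφ)).symm] at hin'
  have hsign : CyclicTI.SignIrr (t φ) := IsGeneralizedCharacter.of_norm_one hs hin
  have e : t φ - t (Cfsg.conjFun φ) = μ - Cfsg.conjFun μ := by
    rw [← he, ← hag _ (Coherence.mem_zspanOn_one.mpr
      ⟨Submodule.sub_mem _ (Submodule.subset_span hφ) (Submodule.subset_span hcφ),
        by rw [Pi.sub_apply, Coherence.conjFun_one hirr, sub_self]⟩)]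
    exact (Coherence.iso_sub (M := Submodule.span ℤ X) hiso (Submodule.subset_span hφ)
      (Submodule.subset_span hcφ)).symm
  have h1 : Cfsg.classInner (t φ) μ - Cfsg.classInner (t φ) (Cfsg.conjFun μ) = 1 := by
    rw [← classInner_sub_right, ← e, classInner_sub_right, hin, hin', sub_zero]
  by_cases h0 : Cfsg.classInner (t φ) μ = 0
  · have h0' : Cfsg.classInner (t φ) (Cfsg.conjFun μ) ≠ 0 := fun h => by
      rw [h0, h, sub_zero] at h1; exact zero_ne_one h1
    rcases CyclicTI.SignIrr.eq_or_neg hsign (Or.inl (IsIrrCharacter.conj hμ)) h0' with h | h <;> rw [h]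
    · exact o2
    · rw [classInner_neg_left]; exact neg_eq_zero.2 o2
  · rcases CyclicTI.SignIrr.eq_or_neg hsign (Or.inl hμ) h0 with h | h <;> rw [h]
    · exact o1
    · rw [classInner_neg_left]; exact neg_eq_zero.2 o1

variable {H U : Subgroup M} {p q : ℕ} (F : Fam c)
  (D : Struct (kd M) H U (ka M K) (kb M K) p q) (hf : Facts (kd M) H U p q (tau M))
include F D hf

variable {Hs T : Subgroup M}

/-- Many irreducible characters of degree `q a` when `U` fixes a hyperplane of `H`. -/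
theorem exists_T1 (hHs : Hs ≤ H) (hidx : Hs.relIndex H = p) (hnorm : U ≤ Subgroup.normalizer (Hs : Set M))
    (hW : ∀ e ∈ ka M K, e ≠ 1 → e ∉ Subgroup.normalizer (Hs : Set M)) (hTU : T ≤ U) (hCT : ⁅U, U⁆ ≤ T)
    (hT : ∀ v, v ∈ T ↔ v ∈ U ∧ ∀ x ∈ H, v * x * v⁻¹ * x⁻¹ ∈ Hs) (h1 : T.relIndex U ≠ 1) :
    ∃ Y : Finset (M → ℂ), Y.Nonempty ∧ (∀ φ ∈ Y, φ ∈ calS M ∧ Cfsg.conjFun φ ∈ Y ∧
        Cfsg.IsIrrCharacter M φ ∧ φ 1 = ((q * T.relIndex U : ℕ) : ℂ)) ∧
      (p - 1) * (⁅U, U⁆ : Subgroup M).relIndex T ≤ T.relIndex U * Y.card := by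
  haveI hHn := D.H_normal
  haveI hCn := D.normal_der_U
  haveI hKn : (kd M).Normal := inferInstance
  haveI := hf.elem.1
  set C : Subgroup M := ⁅U, U⁆ with hCdef
  have hTK : T ≤ kd M := hTU.trans D.U_le
  have hHK := D.H_le
  have hPK : H ⊔ T ≤ kd M := sup_le hHK hTK
  have hcommH : ∀ {x y : M}, x ∈ H → y ∈ H → x * y = y * x := fun hx hy =>
    congrArg Subtype.val (mul_comm' (⟨_, hx⟩ : H) ⟨_, hy⟩)
  have hnormK : ∀ k ∈ kd M, k ∈ Subgroup.normalizer (Hs : Set M) := fun k hk => by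
    obtain ⟨h, hh, v, hv, rfl⟩ := Subgroup.mem_sup_of_normal_left.1 (show k ∈ H ⊔ U by rw [D.sup_HU]; exact hk)
    refine mul_mem (CoprimeGen.mem_normalizer_of_map_conj_le ?_) (hnorm hv)
    rintro _ ⟨y, hy, rfl⟩
    show h * y * h⁻¹ ∈ Hs
    rw [hcommH hh (hHs hy), mul_inv_cancel_right]; exact hy
  have hnU : ∀ g ∈ U, g ∈ Subgroup.normalizer (T : Set M) := fun g hg => by
    refine CoprimeGen.mem_normalizer_of_map_conj_le ?_
    rintro _ ⟨v, hv, rfl⟩
    show g * v * g⁻¹ ∈ T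
    rw [show g * v * g⁻¹ = ⁅g, v⁆ * v by simp [commutatorElement_def]]
    exact T.mul_mem (hCT (Subgroup.commutator_mem_commutator hg (hTU hv))) hv
  have hP : kd M ≤ Subgroup.normalizer ((H ⊔ T : Subgroup M) : Set M) := by
    rw [← D.sup_HU]
    exact sup_le (le_sup_left.trans Subgroup.le_normalizer) fun g hg =>
      CoprimeGen.mem_normalizer_sup (Subgroup.le_normalizer_of_normal (Subgroup.mem_top g)) (hnU g hg)
  set D₁ := (H ⊔ T).subgroupOf (kd M) with hD₁
  haveI : D₁.Normal := Subgroup.normal_subgroupOf_iff_le_normalizer hPK |>.2 hP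
  have hTinf : (H ⊔ T) ⊓ U = T := by
    refine le_antisymm (fun x hx => ?_) (le_inf le_sup_right hTU)
    obtain ⟨h, hh, c', hc', rfl⟩ := Subgroup.mem_sup_of_normal_left.1 hx.1
    have : h ∈ H ⊓ U := ⟨hh, by simpa using U.mul_mem hx.2 (U.inv_mem (hTU hc'))⟩
    rw [D.inf_HU, Subgroup.mem_bot] at this
    rw [this, one_mul]; exact hc'
  have hidxD : D₁.index = T.relIndex U := by
    have htop : U.subgroupOf (kd M) ⊔ D₁ = ⊤ := by
      rw [hD₁, ← Subgroup.subgroupOf_sup D.U_le hPK, Subgroup.subgroupOf_eq_top, ← D.sup_HU]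
      exact sup_le (le_sup_left.trans le_sup_right) le_sup_left
    have e : D₁.relIndex (U.subgroupOf (kd M)) = T.relIndex U := by
      rw [hD₁, Subgroup.relIndex_subgroupOf D.U_le, ← Subgroup.inf_relIndex_right, hTinf]
    rw [← e, ← Subgroup.relIndex_top_right, ← htop, Subgroup.relIndex_sup_right]
  -- the two kernels
  set X : Subgroup (kd M) := (Hs ⊔ C).subgroupOf (kd M) with hXdef
  have hXK : Hs ⊔ C ≤ kd M := sup_le (hHs.trans hHK) (hCT.trans hTK)
  haveI : X.Normal := Subgroup.normal_subgroupOf_iff_le_normalizer hXK |>.2 fun k hk =>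
    CoprimeGen.mem_normalizer_sup (hnormK k hk) (Subgroup.le_normalizer_of_normal (Subgroup.mem_top k))
  set N : Subgroup D₁ := X.subgroupOf D₁ with hNdef
  set N₀ : Subgroup D₁ := ((H ⊔ C).subgroupOf (kd M)).subgroupOf D₁ with hN₀def
  haveI : (H ⊔ C).Normal := D.normal_HC
  have hcomm : commutator D₁ ≤ N := by
    have hle : ⁅(H.subgroupOf (kd M)) ⊔ (T.subgroupOf (kd M)), (H.subgroupOf (kd M)) ⊔ (T.subgroupOf (kd M))⁆ ≤ X := by
      refine commutator_sup_le' ?_ ?_ ?_ <;> rw [Subgroup.commutator_le] <;> intro a ha b hb <;>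
        show (kd M).subtype ⁅a, b⁆ ∈ Hs ⊔ C <;> rw [map_commutatorElement] <;>
        simp only [Subgroup.coe_subtype]
      · rw [commutatorElement_eq_one_iff_mul_comm.2 (hcommH (x := (a : M)) (y := (b : M)) ha hb)]
        exact one_mem _
      · refine Subgroup.mem_sup_left ?_
        have h := ((hT b).1 hb).2 a ha
        have e : ⁅(a : M), (b : M)⁆ = ((b : M) * a * (b : M)⁻¹ * (a : M)⁻¹)⁻¹ := by
          simp [commutatorElement_def, mul_assoc]
        rw [e]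
        exact inv_mem h
      · exact Subgroup.mem_sup_right (Subgroup.commutator_mem_commutator (hTU ha) (hTU hb))
    rw [← Subgroup.subgroupOf_sup hHK hTK] at hle
    rw [_root_.commutator, Subgroup.commutator_le]
    exact fun a _ b _ => hle (Subgroup.commutator_mem_commutator a.2 b.2)
  have hNN₀ : N ≤ N₀ := fun a ha => sup_le_sup_right hHs C ha
  haveI : N₀.Normal := inferInstance
  have hHmem : ∀ {x : M}, x ∈ H → x ∈ H ⊔ T := fun hx => Subgroup.mem_sup_left hx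
  have hCmem : ∀ {x : M}, x ∈ C → x ∈ H ⊔ T := fun hx => Subgroup.mem_sup_right (hCT hx)
  -- the set of linear characters
  set S : Finset (D₁ →* ℂˣ) := Finset.univ.filter fun f =>
    (∀ a ∈ N, f a = 1) ∧ ¬ ∀ a ∈ N₀, f a = 1 with hS
  have hm : (H ⊔ C).relIndex (H ⊔ T) = C.relIndex T := by
    have h2 := Subgroup.relIndex_mul_relIndex (H ⊔ C) (H ⊔ T) (kd M) (sup_le_sup_left hCT H) hPK
    have h3 : (H ⊔ T).relIndex (kd M) = T.relIndex U := hidxD
    have h4 := Subgroup.relIndex_mul_relIndex C T U hCT hTU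
    rw [D.relIndex_HC, h3, ← h4] at h2
    refine Nat.eq_of_mul_eq_mul_right (Nat.pos_of_ne_zero fun h => ?_) h2
    exact Nat.card_pos.ne' (zero_dvd_iff.1 (h ▸ Subgroup.relIndex_dvd_card T U : 0 ∣ Nat.card U))
  have hScard : (p - 1) * C.relIndex T ≤ S.card := by
    have e1 : (Finset.univ.filter fun f : D₁ →* ℂˣ => ∀ a ∈ N, f a = 1).card = N.index := by
      rw [← card_hom_trivialOn D₁ N hcomm, Nat.card_eq_fintype_card, Fintype.card_subtype]
    have e0 : (Finset.univ.filter fun f : D₁ →* ℂˣ => ∀ a ∈ N₀, f a = 1).card = N₀.index := by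
      rw [← card_hom_trivialOn D₁ N₀ (hcomm.trans hNN₀), Nat.card_eq_fintype_card, Fintype.card_subtype]
    have e2 : S = (Finset.univ.filter fun f : D₁ →* ℂˣ => ∀ a ∈ N, f a = 1) \
        (Finset.univ.filter fun f : D₁ →* ℂˣ => ∀ a ∈ N₀, f a = 1) := by
      ext f; simp [hS]
    have i0 : N₀.index = C.relIndex T := by
      show ((H ⊔ C).subgroupOf (kd M)).relIndex D₁ = _
      rw [hD₁, Subgroup.relIndex_subgroupOf hPK, hm]
    have i1 : p * C.relIndex T ≤ N.index := by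
      show _ ≤ X.relIndex D₁
      rw [hD₁, hXdef, Subgroup.relIndex_subgroupOf hPK,
        ← Subgroup.relIndex_mul_relIndex (Hs ⊔ C) (H ⊔ C) (H ⊔ T) (sup_le_sup_right hHs C) (sup_le_sup_left hCT H),
        hm]
      refine Nat.mul_le_mul_right _ ?_
      have h5 : (Hs ⊔ C).relIndex H = p := by
        rw [← Subgroup.inf_relIndex_right, ← hidx]
        congr 1
        refine le_antisymm (fun x hx => ?_) (le_inf le_sup_left hHs)
        obtain ⟨h, hh, c', hc', rfl⟩ := Subgroup.mem_sup_of_normal_right.1 hx.1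
        have : c' = 1 := D.inf_H_der (by simpa using H.mul_mem (H.inv_mem (hHs hh)) hx.2) hc'
        rw [this, mul_one]; exact hh
      rw [← h5]
      exact Subgroup.relIndex_le_of_le_right le_sup_left Subgroup.index_ne_zero_of_finite
    rw [e2, Finset.card_sdiff, Nat.sub_mul, one_mul]
    have := Finset.card_le_card (Finset.inter_subset_left (s₁ := Finset.univ.filter fun f : D₁ →* ℂˣ => ∀ a ∈ N₀, f a = 1)
      (s₂ := Finset.univ.filter fun f : D₁ →* ℂˣ => ∀ a ∈ N, f a = 1))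
    omega
  have hker : ∀ f ∈ S, ∀ x (hx : x ∈ H), f ⟨⟨x, hHK hx⟩, hHmem hx⟩ = 1 → x ∈ Hs := by
    intro f hfS x hx hfx
    simp only [hS, Finset.mem_filter, Finset.mem_univ, true_and] at hfS
    let N₂ : Subgroup M :=
      { carrier := {y | ∃ hy : y ∈ H, f ⟨⟨y, hHK hy⟩, hHmem hy⟩ = 1}
        one_mem' := ⟨H.one_mem, map_one f⟩
        mul_mem' := fun {a b} ha hb => ⟨H.mul_mem ha.1 hb.1, by
          have := map_mul f ⟨⟨a, hHK ha.1⟩, hHmem ha.1⟩ ⟨⟨b, hHK hb.1⟩, hHmem hb.1⟩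
          rw [ha.2, hb.2, one_mul] at this; exact this⟩
        inv_mem' := fun {a} ha => ⟨H.inv_mem ha.1, by
          have := map_inv f ⟨⟨a, hHK ha.1⟩, hHmem ha.1⟩
          rw [ha.2, inv_one] at this; exact this⟩ }
    have hle : Hs ≤ N₂ := fun y hy => ⟨hHs hy, hfS.1 _ (Subgroup.mem_sup_left hy)⟩
    have hN₂H : N₂ ≤ H := fun y hy => hy.1
    have h2 := Subgroup.relIndex_mul_relIndex Hs N₂ H hle hN₂H
    rw [hidx] at h2
    rcases (Nat.dvd_prime D.hp).1 ⟨_, h2.symm⟩ with h | h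
    · exact Subgroup.relIndex_eq_one.1 h ⟨hx, hfx⟩
    · exfalso
      have h3 : N₂.relIndex H = 1 :=
        Nat.eq_of_mul_eq_mul_left D.hp.pos (by rw [mul_one]; rw [h] at h2; exact h2)
      refine hfS.2 fun a ha => ?_
      obtain ⟨y, hy, c', hc', e⟩ := Subgroup.mem_sup_of_normal_left.1 (show ((a : kd M) : M) ∈ H ⊔ C from ha)
      have ea : a = ⟨⟨y, hHK hy⟩, hHmem hy⟩ * ⟨⟨c', hTK (hCT hc')⟩, hCmem hc'⟩ :=
        Subtype.ext (Subtype.ext e.symm)
      rw [ea, map_mul, (Subgroup.relIndex_eq_one.1 h3 hy).2,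
        hfS.1 ⟨⟨c', hTK (hCT hc')⟩, hCmem hc'⟩ (Subgroup.mem_sup_right hc'), one_mul]
  -- the induced characters
  have hirr : ∀ f ∈ S, Cfsg.IsIrrCharacter (kd M) (Cfsg.indFun D₁ (linf D₁ f)) := by
    intro f hfS
    refine isIrr_indLin D₁ fun k hk => ?_
    obtain ⟨h, hh, v, hv, e⟩ := Subgroup.mem_sup_of_normal_left.1
      (show (k : M) ∈ H ⊔ U by rw [D.sup_HU]; exact k.2)
    show (k : M) ∈ H ⊔ T
    rw [← e]
    refine Subgroup.mul_mem_sup hh ((hT v).2 ⟨hv, fun x hx => ?_⟩)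
    have hvx : v * x * v⁻¹ ∈ H := hHn.conj_mem x hx v
    refine hker f hfS _ (H.mul_mem hvx (H.inv_mem hx)) ?_
    have h1 : f (Char.conjHom D₁ k ⟨⟨x, hHK hx⟩, hHmem hx⟩) = f ⟨⟨x, hHK hx⟩, hHmem hx⟩ :=
      Units.ext (congrFun hk _)
    have e1 : Char.conjHom D₁ k ⟨⟨x, hHK hx⟩, hHmem hx⟩ = ⟨⟨v * x * v⁻¹, hHK hvx⟩, hHmem hvx⟩ := by
      refine Subtype.ext (Subtype.ext ?_)
      show (k : M) * x * (k : M)⁻¹ = v * x * v⁻¹
      rw [← e, show h * v * x * (h * v)⁻¹ = h * (v * x * v⁻¹) * h⁻¹ by group, hcommH hh hvx, mul_inv_cancel_right]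
    rw [e1] at h1
    have h2 := map_mul f ⟨⟨v * x * v⁻¹, hHK hvx⟩, hHmem hvx⟩ (⟨⟨x, hHK hx⟩, hHmem hx⟩ : D₁)⁻¹
    rw [h1, map_inv, mul_inv_cancel] at h2
    exact h2
  have hstab : ∀ f ∈ S, ∀ f' ∈ S, ∀ g : M,
      conjChar (kd M) g (Cfsg.indFun D₁ (linf D₁ f)) = Cfsg.indFun D₁ (linf D₁ f') → g ∈ kd M := by
    intro f hfS f' hf'S g hg
    have hcl := IsCharacter.isClassFunction (IsIrrCharacter.isCharacter (hirr f hfS))
    set e : M := (D.semi.pr g : M) with hedef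
    have hge : conjChar (kd M) e (Cfsg.indFun D₁ (linf D₁ f)) = Cfsg.indFun D₁ (linf D₁ f') := by
      rw [← hg]
      funext x
      show Cfsg.indFun D₁ (linf D₁ f) (Char.conjHom (kd M) e x) = Cfsg.indFun D₁ (linf D₁ f) (Char.conjHom (kd M) g x)
      have h1 : Char.conjHom (kd M) g x = Char.conjHom (kd M) (g * e⁻¹) (Char.conjHom (kd M) e x) := by
        rw [← conjHom_mul, inv_mul_cancel_right]
      rw [h1]
      exact (congrFun (conjChar_of_mem (kd M) hcl (D.semi.decomp' g)) _).symm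
    by_contra hgK
    have he1 : e ≠ 1 := fun h => hgK ((D.semi.pr_eq_one_iff g).1 (Subtype.ext h))
    refine hW e (D.semi.pr g).2 he1 (CoprimeGen.mem_normalizer_of_map_conj_le ?_)
    rintro _ ⟨x, hx, rfl⟩
    show e * x * e⁻¹ ∈ Hs
    have hx' : x ∈ H := hHs hx
    have hex : e * x * e⁻¹ ∈ H := hHn.conj_mem x hx' e
    refine hker f hfS _ hex (eq_one_of_indLin_eq_deg D₁ ?_)
    have h0 : Cfsg.indFun D₁ (linf D₁ f') ((⟨⟨x, hHK hx'⟩, hHmem hx'⟩ : D₁) : kd M) =
        Cfsg.indFun D₁ (linf D₁ f') 1 := by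
      refine indLin_eq_deg D₁ fun k => ?_
      simp only [hS, Finset.mem_filter, Finset.mem_univ, true_and] at hf'S
      exact hf'S.1 _ (Subgroup.mem_sup_left ((Subgroup.mem_normalizer_iff.1 (hnormK _ k.2) x).1 hx))
    rw [indLin_one, ← indLin_one D₁ f, ← congrFun hge] at h0
    exact h0
  have hξ : ∀ f ∈ S, Cfsg.IsIrrCharacter M (Cfsg.indFun (kd M) (Cfsg.indFun D₁ (linf D₁ f))) := fun f hfS => by
    refine D.semi.isIrr_ind (hirr f hfS) fun h => ?_
    obtain ⟨e, he, he1⟩ := (Subgroup.bot_or_exists_ne_one (ka M K)).resolve_left D.semi.ne1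
    exact he1 (Subgroup.mem_bot.1 (D.semi.inf ▸ ⟨hstab f hfS f hfS e (h e), he⟩))
  have hdeg : ∀ f : D₁ →* ℂˣ, Cfsg.indFun (kd M) (Cfsg.indFun D₁ (linf D₁ f)) 1 = ((q * T.relIndex U : ℕ) : ℂ) :=
    fun f => by rw [indFun_one_apply, D.index_K, indLin_one, hidxD]; push_cast; rfl
  refine ⟨S.image fun f => Cfsg.indFun (kd M) (Cfsg.indFun D₁ (linf D₁ f)), ?_, fun φ hφ => ?_, ?_⟩
  · rw [Finset.image_nonempty, ← Finset.card_pos]
    refine lt_of_lt_of_le (Nat.mul_pos ?_ (Nat.pos_of_ne_zero ?_)) hScard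
    · have := D.three_le_p; omega
    · intro h
      exact Nat.card_pos.ne' (zero_dvd_iff.1 (h ▸ Subgroup.relIndex_dvd_card C T : 0 ∣ Nat.card T))
  · obtain ⟨f, hfS, rfl⟩ := Finset.mem_image.1 hφ
    refine ⟨⟨_, hirr f hfS, fun h => h1 ?_, fun a ha => ?_, rfl⟩, Finset.mem_image.2 ⟨f⁻¹, ?_, ?_⟩,
      hξ f hfS, hdeg f⟩
    · have h2 := congrFun h 1
      rw [indLin_one, hidxD] at h2
      exact_mod_cast h2
    · rw [show a = 1 from Subtype.ext (Subgroup.mem_bot.1 ha)]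
    · simp only [hS, Finset.mem_filter, Finset.mem_univ, true_and, MonoidHom.inv_apply, inv_eq_one] at hfS ⊢
      exact hfS
    · rw [IndSet.conjFun_indFun, IndSet.conjFun_indFun]
      congr 2
      funext d
      show ((f⁻¹ d : ℂˣ) : ℂ) = conj (f d : ℂ)
      rw [MonoidHom.inv_apply, Units.val_inv_eq_inv_val, Complex.inv_eq_conj]
      refine norm_eq_one_of_pow (Nat.card_pos (α := D₁)).ne' ?_
      rw [← Units.val_pow_eq_pow_val, ← map_pow, pow_card_eq_one', map_one, Units.val_one]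
  · refine hScard.trans (Finset.card_le_mul_card_image _ _ fun φ hφ => ?_)
    obtain ⟨f, hfS, rfl⟩ := Finset.mem_image.1 hφ
    rw [← hidxD]
    refine card_indLin_fiber D₁ f _ fun f' hf' => ?_
    obtain ⟨hf'S, he⟩ := Finset.mem_filter.1 hf'
    obtain ⟨g, hg⟩ := (IndSet.ind_eq_iff (kd M) (hirr f' hf'S) (hirr f hfS)).1 he
    rw [conjChar_of_mem (kd M) (IsCharacter.isClassFunction (IsIrrCharacter.isCharacter (hirr f' hf'S)))
      (hstab f' hf'S f hfS g hg)] at hg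
    exact hg

/-- A hyperplane of `H` fixed by `U` is impossible. -/
theorem no_fixed_hyperplane (hHs : Hs ≤ H) (hidx : Hs.relIndex H = p)
    (hnorm : U ≤ Subgroup.normalizer (Hs : Set M))
    (hW : ∀ e ∈ ka M K, e ≠ 1 → e ∉ Subgroup.normalizer (Hs : Set M)) (hTU : T ≤ U) (hCT : ⁅U, U⁆ ≤ T)
    (hT : ∀ v, v ∈ T ↔ v ∈ U ∧ ∀ x ∈ H, v * x * v⁻¹ * x⁻¹ ∈ Hs)
    (ha : 2 * T.relIndex U ≤ p - 1) (h1 : T.relIndex U ≠ 1) : False := by
  obtain ⟨Y, hYne, hY, hcard⟩ := exists_T1 F D hf hHs hidx hnorm hW hTU hCT hT h1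
  set a := T.relIndex U with hadef
  set m := (⁅U, U⁆ : Subgroup M).relIndex T with hmdef
  have hu : (⁅U, U⁆ : Subgroup M).relIndex U = m * a := (Subgroup.relIndex_mul_relIndex _ _ _ hCT hTU).symm
  obtain ⟨nn, hnn, hun⟩ := D.u_form hf
  have hu2 : 2 * q < m * a := by rw [← hu, hun]; nlinarith
  have ha0 : 0 < a := Nat.pos_of_ne_zero fun h => by rw [h, mul_zero] at hu2; omega
  have hm0 : 0 < m := Nat.pos_of_ne_zero fun h => by rw [h, zero_mul] at hu2; omega
  have hN2 : 2 * m ≤ Y.card := by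
    refine Nat.le_of_mul_le_mul_left ?_ ha0
    calc a * (2 * m) = 2 * a * m := by ring
      _ ≤ (p - 1) * m := Nat.mul_le_mul_right m ha
      _ ≤ a * Y.card := hcard
  have hYS : (↑Y : Set (M → ℂ)) ⊆ calS M := fun φ hφ => (hY φ hφ).1
  obtain ⟨-, t, hiso, hag⟩ := Coherence.coherent_of_equal_degree
    (Coherence.sys_mono F.system hYS (fun φ hφ => (hY φ hφ).2.1) hYne)
    (fun φ hφ ψ hψ => by rw [(hY φ hφ).2.2.2, (hY ψ hψ).2.2.2])
  obtain ⟨ξ, hξ⟩ := hYne
  obtain ⟨hξS, -, hξi, hξd⟩ := hY ξ hξ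
  obtain ⟨g, hg, hdeg, hδ, -⟩ := exists_col F D hf
  set ω := CyclicTI.pull2 c.semi.split g with hω
  have hI : I0 ω := Fam.pull2_I0 c g
  have hJ : ¬ J0 ω := Fam.pull2_not_J0 c hg
  have hinv : CyclicTI.pull2 c.semi.split g⁻¹ = ω⁻¹ := MonoidHom.ext fun w => by simp [CyclicTI.pull2, hω]
  have hrow : (P10.row c ω) = fun l => Fam.cell c (l, g) := rfl
  obtain ⟨-, ζ, h, rψ, hr1, hsymm, hψ, hbound⟩ := weak_form F D hf
  -- the function `Γ`
  set β := F.mus ω - (m : ℤ) • ξ with hβdef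
  have hβgen : Cfsg.IsGeneralizedCharacter M β :=
    IsGeneralizedCharacter.sub (F.mus_gen ω) (IsGeneralizedCharacter.zsmul (calS_gen hξS) _)
  have hβc := IsGeneralizedCharacter.isClassFunction hβgen
  have hoff : ∀ x, x ∉ kd M → β x = 0 := fun x hx => by
    simp [hβdef, F.mus_off ω hx, (calS_off hξS).1 x hx]
  have hβs : Supp β := c.supp_of_kd hoff (by
    rw [hβdef, Pi.sub_apply, F.mus_on ω (one_mem (kd M)), hdeg, hu, card_K (c := c) D, Pi.smul_apply, hξd,
      zsmul_eq_mul]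
    push_cast; ring)
  have hΓgen := c.tau_gen hβgen hβs
  have hξμ : ∀ w, Cfsg.classInner ξ (F.μ w) = 0 := fun w => by
    rw [← classInner_conj_symm, F.μ_inner_irr hξS hξi, map_zero]
  have hξmus : ∀ w, Cfsg.classInner ξ (F.mus w) = 0 := fun w => by
    rw [← classInner_conj_symm, F.mus_inner_irr hξS hξi, map_zero]
  have hnorow : ∀ w : Chr M K, J0 w → ¬ ∃ f, P10.row c ω f = w := fun w hw ⟨f, hf'⟩ =>
    (J0_row_iff c ω f).not.mpr hJ (hf' ▸ hw)
  obtain ⟨r, s, hs1, hrs⟩ := exists_array F hΓgen 0 1 1 fun w h1 h2 => by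
    have hk : (w : M) ∉ kd M := fun hk => h2 ((c.semi.mem_W2_iff w).mpr hk)
    rw [c.tau_outer hβc w h1 h2, hoff _ hk]
    simp
  simp only [zero_mul, add_zero] at hrs
  have hr0 : r 1 = 0 := by
    have h2 := hrs 1 1
    rw [ee_one, c.tau_inner_one hβc hβs, ← μ_one F, hβdef, classInner_sub_left, F.mus_inner_μ,
      if_neg (hnorow 1 fun _ _ => MonoidHom.one_apply _), Coherence.classInner_zsmul_left, hξμ, hs1] at h2
    simpa using h2.symm
  have hgg : g⁻¹ ≠ g := fun e => inv_ne_self c (ω := ω) (fun e1 => hJ (e1 ▸ fun _ _ => MonoidHom.one_apply _))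
    (by rw [← hinv, e])
  have hg1 : g⁻¹ ≠ 1 := fun e => not_J0_inv hJ (by
    rw [← hinv, e, CyclicTI.pull2_one]; exact fun _ _ => MonoidHom.one_apply _)
  have hnor : ¬ ∃ f, P10.row c ω f = ω⁻¹ := fun ⟨f, hf'⟩ => Fam.row_ne hJ f 1 (hf'.trans
    (MonoidHom.ext fun w => by simp [P10.row, CyclicTI.pull1]))
  have hsg : s g = s g⁻¹ + 1 := by
    have hd2 : Cfsg.IsClassFunction M (F.mus ω - F.mus ω⁻¹) :=
      IsGeneralizedCharacter.isClassFunction (IsGeneralizedCharacter.sub (F.mus_gen ω) (F.mus_gen ω⁻¹))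
    have e := c.tau_inner hβc hβs hd2
    rw [F.tau_mus_sub hI hJ, hδ, Int.cast_one, classInner_sum_right, hβdef, classInner_sub_right,
      classInner_sub_left, classInner_sub_left, F.mus_inner_self, F.mus_inner_mus, if_neg hnor,
      Coherence.classInner_zsmul_left, Coherence.classInner_zsmul_left, hξmus, hξmus] at e
    rw [Finset.sum_congr rfl (g := fun _ => ((s g - s g⁻¹ : ℤ) : ℂ)) fun l _ => by
      rw [one_smul, classInner_sub_right, show P10.row c ω l = Fam.cell c (l, g) from rfl,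
        show P10.row c ω⁻¹ l = Fam.cell c (l, g⁻¹) by rw [← hinv],
        show F.η (Fam.cell c (l, g)) = ee F (l, g) from rfl,
        show F.η (Fam.cell c (l, g⁻¹)) = ee F (l, g⁻¹) from rfl, hrs, hrs]
      push_cast; ring] at e
    rw [Finset.sum_const, Finset.card_univ, card_rows D, nsmul_eq_mul, card_K (c := c) D] at e
    have e' : ((q : ℤ) : ℂ) * ((s g - s g⁻¹ : ℤ) : ℂ) = ((q : ℤ) : ℂ) * ((1 : ℤ) : ℂ) := by
      push_cast at e ⊢; linear_combination e
    have e'' : (s g - s g⁻¹ : ℤ) = 1 :=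
      Int.cast_injective (α := ℂ) (mul_left_cancel₀ (by exact_mod_cast D.hq.ne_zero) e')
    linarith
  obtain ⟨hge, hshape⟩ := gamma_cases (1 : ka M K →* ℂˣ) r s hr0 (k₀ := 1) hg hg1 hgg hs1 hsg
  rw [card_rows D] at hge hshape
  obtain ⟨b, hb⟩ := IsGeneralizedCharacter.exists_classInner_int hΓgen
    (Coherence.iso_gen (M := Submodule.span ℤ (↑Y : Set (M → ℂ))) hiso (Submodule.subset_span hξ))
  have hdiff : ∀ φ ∈ Y, φ - ξ ∈ Cfsg.zspanOn (↑Y : Set (M → ℂ)) ({1}ᶜ : Set M) := fun φ hφ =>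
    Coherence.mem_zspanOn_one.mpr ⟨Submodule.sub_mem _ (Submodule.subset_span hφ) (Submodule.subset_span hξ),
      by rw [Pi.sub_apply, (hY φ hφ).2.2.2, hξd, sub_self]⟩
  have htdiff : ∀ φ ∈ Y, t φ - t ξ = tau M (φ - ξ) := fun φ hφ => by
    rw [← hag _ (hdiff φ hφ)]
    exact (Coherence.iso_sub (M := Submodule.span ℤ (↑Y : Set (M → ℂ))) hiso (Submodule.subset_span hφ)
      (Submodule.subset_span hξ)).symm
  set y : (M → ℂ) → ℤ := fun φ => if φ = ξ then b else b + m with hy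
  have hB := bessel_grid F (f := tau M β) (N := (q : ℤ) + (m : ℤ) ^ 2)
    (by
      rw [c.tau_inner hβc hβs hβc, hβdef]
      simp only [classInner_sub_left, classInner_sub_right, Coherence.classInner_zsmul_left,
        Coherence.classInner_zsmul_right, F.mus_inner_self, F.mus_inner_irr hξS hξi, hξmus,
        classInner_self_irr hξi, card_K (c := c) D]
      push_cast; ring)
    (fun l k => r l + s k) hrs Y t y
    (fun φ hφ ψ hψ' => by
      rw [Coherence.iso_inner (M := Submodule.span ℤ (↑Y : Set (M → ℂ))) hiso (Submodule.subset_span hφ)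
        (Submodule.subset_span hψ'), classInner_irr (hY φ hφ).2.2.1 (hY ψ hψ').2.2.1]
      congr)
    (fun φ hφ w => img_perp F hYS hiso hag hφ (hY φ hφ).2.1 (hY φ hφ).2.2.1 w)
    (fun φ hφ => by
      by_cases e : φ = ξ
      · subst e; simp [hy, hb]
      · have e1 := c.tau_inner hβc hβs (IsClassFunction.sub (calS_off (hY φ hφ).1).2 (calS_off hξS).2)
        rw [← htdiff φ hφ, classInner_sub_right, hb, hβdef, classInner_sub_left, classInner_sub_right,
          classInner_sub_right, F.mus_inner_irr (hY φ hφ).1 (hY φ hφ).2.2.1, F.mus_inner_irr hξS hξi,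
          Coherence.classInner_zsmul_left, Coherence.classInner_zsmul_left, classInner_self_irr hξi,
          classInner_irr_of_ne hξi (hY φ hφ).2.2.1 (Ne.symm e)] at e1
        rw [← hβdef] at e1
        simp only [hy, if_neg e]
        push_cast at e1 ⊢
        linear_combination e1)
  set N : ℤ := (Y.card : ℤ) with hN
  have hsum : ∑ φ ∈ Y, y φ ^ 2 = b ^ 2 + (N - 1) * (b + m) ^ 2 := by
    rw [← Finset.add_sum_erase Y _ hξ, Finset.sum_congr rfl (g := fun _ => (b + (m : ℤ)) ^ 2)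
      fun φ hφ => by simp [hy, Finset.ne_of_mem_erase hφ]]
    rw [Finset.sum_const, Finset.card_erase_of_mem hξ, nsmul_eq_mul, Nat.cast_sub (Finset.card_pos.2 ⟨ξ, hξ⟩)]
    simp [hy, hN]
  rw [hsum] at hB
  obtain ⟨hle, heq⟩ := hB
  have hNm : 2 * (m : ℤ) ≤ N := by rw [hN]; exact_mod_cast hN2
  have hm1 : (1 : ℤ) ≤ m := by exact_mod_cast hm0
  have hAle : (b + m) * (N * (b + m) - 2 * m) ≤ 0 := by
    nlinarith
  have hA : b + m = 0 ∨ (b + m = 1 ∧ N = 2 * m) := by
    rcases lt_trichotomy (b + (m : ℤ)) 0 with hlt | heq0 | hgt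
    · exfalso; nlinarith [mul_pos_of_neg_of_neg hlt (show N * (b + m) - 2 * m < 0 by nlinarith)]
    · exact Or.inl heq0
    · have h2 : N * (b + m) - 2 * m ≤ 0 := by
        by_contra hc
        nlinarith [mul_pos hgt (not_le.1 hc)]
      refine Or.inr ?_
      have h3 : b + m ≤ 1 := by nlinarith
      have h4 : b + m = 1 := by omega
      exact ⟨h4, by rw [h4] at h2; linarith⟩
  have hAm : (b + m) * (N * (b + m) - 2 * m) = 0 := by
    rcases hA with h0 | ⟨h0, hN'⟩ <;> rw [h0]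
    · ring
    · rw [hN']; ring
  have hSle : ∑ l, ∑ k, (r l + s k) ^ 2 ≤ (q : ℤ) := by nlinarith
  obtain ⟨j', ε, hj', hε, harr⟩ := hshape hSle
  have hΓ := heq (by nlinarith)
  have hgrid : (∑ l, ∑ k, ((r l + s k : ℤ) : ℂ) • ee F (l, k)) = (ε : ℂ) • ∑ l, ee F (l, j') := by
    rw [Finset.smul_sum]
    refine Finset.sum_congr rfl fun l _ => ?_
    rw [Finset.sum_eq_single j']
    · rw [harr, if_pos rfl]
    · intro k _ hk; rw [harr, if_neg hk, Int.cast_zero, zero_smul]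
    · simp
  rw [hgrid] at hΓ
  have hζS := h.zetaS
  have hψgen := F.psi_gen (ζ := ζ) hζS
  have hψc := IsGeneralizedCharacter.isClassFunction hψgen
  have hψs := F.psi_supp hζS h.deg
  have hζne : ∀ φ ∈ Y, Cfsg.classInner ζ φ = 0 := fun φ hφ =>
    classInner_irr_of_ne h.irr (hY φ hφ).2.2.1 fun e => h1 (by
      have e1 := congrFun e 1
      rw [h.deg, (hY φ hφ).2.2.2, card_K (c := c) D, Nat.cast_inj] at e1
      exact Nat.eq_of_mul_eq_mul_left D.hq.pos (by rw [mul_one]; exact e1.symm))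
  have hψY : ∀ φ ∈ Y, Cfsg.classInner (F.psi ζ) φ = 0 := fun φ hφ => by
    rw [Fam.psi, classInner_sub_left, F.mus_inner_irr (hY φ hφ).1 (hY φ hφ).2.2.1, hζne φ hφ, sub_zero]
  have hζmus : Cfsg.classInner ζ (F.mus ω) = 0 := by
    rw [← classInner_conj_symm, F.mus_inner_irr hζS h.irr, map_zero]
  have h10 : ¬ ∃ f, P10.row c 1 f = ω := Fam.not_row c (fun _ _ => MonoidHom.one_apply _) hJ
  have h0 : Cfsg.classInner (tau M (F.psi ζ)) (tau M β) = 0 := by
    rw [c.tau_inner hψc hψs hβc, hβdef, classInner_sub_right, Coherence.classInner_zsmul_right, hψY ξ hξ,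
      Fam.psi, classInner_sub_left, F.mus_inner_mus, if_neg h10, hζmus]
    simp
  obtain ⟨z, hz⟩ := IsGeneralizedCharacter.exists_classInner_int (c.tau_gen hψgen hψs)
    (Coherence.iso_gen (M := Submodule.span ℤ (↑Y : Set (M → ℂ))) hiso (Submodule.subset_span hξ))
  have hzall : ∀ φ ∈ Y, Cfsg.classInner (tau M (F.psi ζ)) (t φ) = (z : ℂ) := fun φ hφ => by
    have e := c.tau_inner hψc hψs (IsClassFunction.sub (calS_off (hY φ hφ).1).2 (calS_off hξS).2)
    rw [← htdiff φ hφ, classInner_sub_right, classInner_sub_right, hψY φ hφ, hψY ξ hξ, hz, sub_zero,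
      sub_eq_zero] at e
    exact e
  have e1 : ∑ φ ∈ Y, Cfsg.classInner (tau M (F.psi ζ)) ((y φ : ℂ) • t φ) = ((∑ φ ∈ Y, y φ : ℤ) : ℂ) * z := by
    rw [Int.cast_sum, Finset.sum_mul]
    exact Finset.sum_congr rfl fun φ hφ => by rw [classInner_smul_right, map_intCast, hzall φ hφ]
  have e2 : ∑ l, Cfsg.classInner (tau M (F.psi ζ)) (ee F (l, j')) = ((∑ l, rψ l : ℤ) : ℂ) := by
    rw [Int.cast_sum]
    exact Finset.sum_congr rfl fun l _ => hψ l j'
  rw [hΓ, classInner_add_right, classInner_smul_right, map_intCast, classInner_sum_right, e2,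
    classInner_sum_right, e1] at h0
  have hys : ∑ φ ∈ Y, y φ = N * (b + m) - m := by
    rw [← Finset.add_sum_erase Y _ hξ, Finset.sum_congr rfl (g := fun _ => b + (m : ℤ))
      fun φ hφ => by simp [hy, Finset.ne_of_mem_erase hφ]]
    rw [Finset.sum_const, Finset.card_erase_of_mem hξ, nsmul_eq_mul, Nat.cast_sub (Finset.card_pos.2 ⟨ξ, hξ⟩)]
    simp [hy, hN]
    ring
  rw [hys] at h0
  have h0' : ε * (∑ l, rψ l) + (N * (b + m) - m) * z = 0 := by exact_mod_cast h0
  have hdvd : (m : ℤ) ∣ ∑ l, rψ l := by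
    obtain ⟨k, hk⟩ : (m : ℤ) ∣ N * (b + m) - m := by
      rcases hA with e | ⟨e, e'⟩ <;> rw [e]
      · exact ⟨-1, by ring⟩
      · exact ⟨1, by rw [e']; ring⟩
    rw [hk] at h0'
    rcases hε with e | e <;> rw [e] at h0'
    · exact ⟨-(k * z), by linarith⟩
    · exact ⟨k * z, by linarith⟩
  have hsplit := Finset.add_sum_erase Finset.univ rψ (Finset.mem_univ (1 : ka M K →* ℂˣ))
  have heven := two_dvd_sum_erase (A := ka M K →* ℂˣ) (by rw [card_rows D]; exact D.q_odd) rψ hsymm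
  have hne : ∑ l, rψ l ≠ 0 := fun e => by
    obtain ⟨j, hj⟩ := heven
    rw [hr1, e] at hsplit
    have h5 : (1 : ℤ) + 2 * j = 0 := by rw [← hsplit]; congr 1; convert hj.symm
    omega
  have habs : (m : ℤ) ≤ |∑ l, rψ l| := Int.le_of_dvd (abs_pos.2 hne) ((dvd_abs _ _).2 hdvd)
  have htri : |∑ l, rψ l| ≤ 1 + ∑ l ∈ Finset.univ.erase 1, rψ l ^ 2 := by
    rw [← hsplit, hr1]
    refine (abs_add_le _ _).trans (add_le_add (by norm_num) ((Finset.abs_sum_le_sum_abs _ _).trans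
      (Finset.sum_le_sum fun l _ => ?_)))
    nlinarith [abs_nonneg (rψ l), sq_abs (rψ l), Int.le_self_sq |rψ l|]
  have hp0 : (0 : ℤ) ≤ p := Nat.cast_nonneg _
  have hfin : (p : ℤ) * m ≤ q := by nlinarith [mul_le_mul_of_nonneg_left (habs.trans htri) hp0]
  have hfin' : p * m ≤ q := by exact_mod_cast hfin
  have h6 : 2 * (m * a) ≤ (p - 1) * m := by
    calc 2 * (m * a) = 2 * a * m := by ring
      _ ≤ (p - 1) * m := Nat.mul_le_mul_right m ha
  have h7 : (p - 1) * m ≤ p * m := Nat.mul_le_mul_right m (Nat.sub_le p 1)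
  omega

/-- (11.9): `U` acts irreducibly on `H`. -/
theorem galois :
    ∀ N : Subgroup M, N ≤ H → U ≤ Subgroup.normalizer (N : Set M) → N = ⊥ ∨ N = H := by
  by_contra hred
  obtain ⟨Hs, T, hHs, hidx, hnorm, hW, hTU, hCT, hT, ha, h1⟩ := D.exists_index_p hf hred
  exact no_fixed_hyperplane F D hf hHs hidx hnorm hW hTU hCT hT ha h1

/-- (11.9): `U` is cyclic with trivial derived subgroup. -/
theorem cyclic_U : IsCyclic U ∧ ⁅U, U⁆ = ⊥ :=
  D.cyclic_of_irreducible hf (galois F D hf)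

end Cfsg.Agent.OddChar.S11
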