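/-
Peterfalvi, section 11: the final results.
-/
import Cfsg.Agent.Lib.OddChar.S11.Main
import Cfsg.Agent.Lib.OddChar.S11.Galois

set_option autoImplicit false

namespace Cfsg.Agent.OddChar.S11

universe u

variable {G : Type u} [Group G]

/-- The cyclicity input of `Main`. -/
theorem cyclicInput [Fintype G] : CyclicInput G := fun _ _ _ _ _ _ _ _ _ D hf F => cyclic_U F D hf

/-- PF 11: there are no maximal subgroups of Type IV. -/
theorem noTypeIV [Finite G] (hG : Cfsg.IsMinSimpleOddOrder G) : OddChar.NoTypeIV G := by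
  haveI := Fintype.ofFinite G
  exact noTypeIV_of hG (P10.pairPrimes' hG) (P10.notCoherent345 hG) cyclicInput

/-- PF 11.9. -/
theorem typeThreeFacts [Finite G] (hG : Cfsg.IsMinSimpleOddOrder G) : OddChar.TypeThreeFacts G := by
  haveI := Fintype.ofFinite G
  exact typeThreeFacts_of hG (P10.pairPrimes' hG) (P10.notCoherent345 hG) cyclicInput

/-- PF 11.9, the complement in Type III is cyclic. -/
theorem typeThreeCyclic [Finite G] (hG : Cfsg.IsMinSimpleOddOrder G) : OddChar.TypeThreeCyclic G := by
  haveI := Fintype.ofFinite G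
  exact typeThreeCyclic_of hG (P10.pairPrimes' hG) (P10.notCoherent345 hG) cyclicInput

end Cfsg.Agent.OddChar.S11
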